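import Mathlib.Data.Nat.Basic

/-!
Tables: the suborbits of a line and the structure of its stabiliser.
-/

set_option autoImplicit false

namespace Cfsg.Agent.Janko2

/-- words for the points of a suborbit -/
def subOrb0 : List (List ℕ) :=
  [[], [3], [9], [13], [21], [9, 3], [13, 3], [14, 3], [21, 3], [31, 3], [9, 9], [13, 9], [14, 9],
   [21, 9], [9, 13], [21, 13], [3, 21], [9, 21], [13, 21], [14, 21], [21, 21], [31, 21],
   [13, 9, 3], [14, 9, 3], [21, 9, 3], [31, 9, 3], [21, 13, 3], [21, 14, 3], [3, 21, 3],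
   [9, 21, 3], [13, 21, 3], [14, 21, 3], [21, 21, 3], [31, 21, 3], [21, 31, 3], [21, 9, 9],
   [31, 9, 9], [21, 14, 9], [3, 21, 9], [9, 21, 9], [13, 21, 9], [14, 21, 9], [21, 9, 13],
   [9, 21, 13], [14, 21, 13], [21, 21, 13], [11, 3, 21], [14, 3, 21], [9, 9, 21], [13, 9, 21],
   [31, 9, 21], [9, 13, 21], [31, 13, 21], [21, 14, 21], [3, 21, 21], [14, 21, 21], [21, 21, 21],
   [31, 21, 21], [9, 31, 21], [13, 31, 21], [31, 31, 21], [21, 13, 9, 3], [9, 21, 9, 3],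
   [9, 21, 13, 3], [13, 21, 13, 3], [14, 21, 14, 3], [31, 3, 21, 3], [31, 9, 21, 3],
   [31, 13, 21, 3], [21, 14, 21, 3], [21, 21, 21, 3], [31, 31, 21, 3], [13, 21, 14, 9],
   [13, 3, 21, 9], [31, 13, 21, 9], [31, 9, 21, 13], [21, 21, 21, 13], [3, 31, 9, 21],
   [14, 31, 9, 21], [14, 21, 14, 21]]

/-- words for the points of a suborbit -/
def subOrb1 : List (List ℕ) :=
  [[], [3], [9], [11], [13], [14], [21], [31], [9, 3], [11, 3], [13, 3], [14, 3], [21, 3],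
   [31, 3], [9, 9], [11, 9], [13, 9], [14, 9], [21, 9], [31, 9], [3, 11], [13, 11], [14, 11],
   [21, 11], [31, 11], [9, 13], [14, 13], [21, 13], [31, 13], [3, 14], [9, 14], [21, 14], [3, 21],
   [9, 21], [13, 21], [14, 21], [21, 21], [3, 31], [13, 31], [21, 31], [14, 9, 3], [21, 9, 3],
   [31, 9, 3], [13, 11, 3], [14, 11, 3], [31, 11, 3], [9, 13, 3], [21, 13, 3], [31, 13, 3],
   [9, 14, 3], [14, 14, 3], [21, 14, 3], [31, 14, 3], [9, 21, 3], [14, 21, 3], [21, 21, 3],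
   [3, 31, 3], [9, 31, 3], [14, 31, 3], [21, 31, 3], [11, 9, 9], [14, 9, 9], [21, 9, 9],
   [31, 9, 9], [13, 11, 9], [14, 11, 9], [21, 11, 9], [31, 11, 9], [9, 13, 9], [14, 13, 9],
   [21, 13, 9], [31, 13, 9], [3, 21, 9], [9, 21, 9], [13, 21, 9], [14, 21, 9], [21, 21, 9],
   [3, 31, 9], [9, 31, 9], [13, 31, 9], [21, 31, 9], [31, 31, 9], [11, 3, 11], [14, 3, 11],
   [31, 3, 11], [14, 13, 11], [31, 13, 11], [9, 14, 11], [21, 14, 11], [3, 21, 11], [13, 21, 11],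
   [21, 21, 11], [31, 21, 11], [13, 31, 11], [21, 31, 11], [13, 9, 13], [14, 9, 13], [21, 9, 13],
   [31, 9, 13], [3, 21, 13], [9, 21, 13], [13, 21, 13], [14, 21, 13], [31, 21, 13], [9, 31, 13],
   [11, 3, 14], [14, 3, 14], [14, 9, 14], [9, 21, 14], [13, 21, 14], [13, 3, 21], [14, 3, 21],
   [9, 9, 21], [21, 9, 21], [14, 13, 21], [9, 14, 21], [21, 14, 21], [31, 14, 21], [21, 21, 21],
   [21, 3, 31], [31, 3, 31], [9, 13, 31], [3, 21, 31], [14, 21, 31], [31, 21, 31], [14, 14, 9, 3],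
   [14, 21, 9, 3], [21, 21, 9, 3], [31, 21, 9, 3], [9, 14, 11, 3], [14, 14, 11, 3],
   [21, 14, 11, 3], [3, 31, 11, 3], [14, 31, 11, 3], [21, 9, 13, 3], [9, 21, 13, 3],
   [14, 21, 13, 3], [31, 31, 13, 3], [21, 14, 14, 3], [31, 14, 14, 3], [14, 21, 14, 3],
   [14, 31, 14, 3], [14, 14, 21, 3], [14, 3, 31, 3], [9, 9, 31, 3], [21, 9, 31, 3],
   [9, 14, 31, 3], [13, 21, 31, 3], [21, 14, 9, 9], [13, 21, 9, 9], [3, 31, 9, 9],
   [14, 13, 11, 9], [13, 31, 11, 9], [14, 31, 13, 9], [13, 9, 21, 9], [14, 13, 21, 9],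
   [3, 21, 31, 9], [3, 31, 13, 11], [3, 21, 14, 11], [9, 31, 21, 31]]

/-- words for the points of a suborbit -/
def subOrb2 : List (List ℕ) :=
  [[], [3], [9], [11], [13], [14], [21], [11, 3], [13, 3], [14, 3], [21, 3], [31, 3], [9, 9],
   [11, 9], [21, 9], [3, 11], [13, 11], [14, 11], [14, 13], [3, 14], [9, 14], [21, 14], [13, 21],
   [21, 21], [21, 11, 3], [31, 11, 3], [21, 13, 3], [13, 21, 3], [13, 31, 3], [11, 9, 9],
   [9, 14, 11], [14, 21, 14]]

/-- words for the points of a suborbit -/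
def subOrb3 : List (List ℕ) :=
  [[], [3], [9], [11], [13], [14], [21], [31], [9, 3], [13, 3], [14, 3], [9, 9], [11, 9], [13, 9],
   [21, 9], [31, 9], [3, 11], [14, 11], [31, 11], [14, 13], [3, 14], [13, 21], [14, 21], [13, 31],
   [21, 31], [9, 14, 3], [13, 11, 9], [21, 13, 9], [9, 21, 9], [21, 21, 9], [3, 31, 9],
   [9, 14, 21]]

/-- words for the points of a suborbit -/
def subOrb4 : List (List ℕ) :=
  [[], [3], [21], [21, 3], [9, 21], [13, 21], [14, 21], [21, 21], [31, 9, 21], [31, 13, 21]]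

/-- the roots of the suborbits -/
def subRoot : List ℕ := [1, 81, 241, 273, 305]

/-- the suborbits -/
def subOrb : List (List (List ℕ)) :=
  [subOrb0, subOrb1, subOrb2, subOrb3, subOrb4]

/-- the five pairs of orthogonal lines -/
def fivePairs : List (ℕ × ℕ) :=
  [(305, 314), (306, 313), (307, 312), (308, 311), (309, 310)]

/-- words for the sixty elements of the quotient -/
def quotWords : List (List ℕ) :=
  [[], [9], [14], [21], [31], [21, 9], [31, 9], [21, 14], [31, 14], [9, 21], [14, 21], [21, 21],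
   [31, 21], [9, 31], [14, 31], [21, 31], [31, 31], [9, 21, 9], [14, 21, 9], [21, 21, 9],
   [31, 21, 9], [14, 31, 9], [21, 31, 9], [31, 31, 9], [9, 21, 14], [14, 21, 14], [21, 21, 14],
   [31, 21, 14], [14, 31, 14], [21, 31, 14], [31, 9, 21], [21, 14, 21], [31, 14, 21], [9, 21, 21],
   [14, 21, 21], [21, 21, 21], [9, 31, 21], [14, 31, 21], [31, 31, 21], [21, 14, 31], [9, 21, 31],
   [14, 21, 31], [21, 31, 31], [21, 14, 21, 9], [14, 21, 21, 9], [9, 31, 21, 9], [14, 31, 21, 9],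
   [31, 31, 21, 9], [9, 21, 31, 9], [14, 21, 31, 9], [21, 31, 31, 9], [14, 21, 21, 14],
   [9, 31, 21, 14], [9, 21, 31, 14], [14, 31, 9, 21], [14, 21, 14, 21], [21, 31, 14, 21],
   [31, 14, 21, 21], [9, 21, 21, 21], [31, 14, 21, 21, 9]]

/-- words for the elements of the kernel -/
def kerWords : List (List ℕ) :=
  [[], [3], [11], [11, 3], [14, 9], [3, 11], [14, 13], [9, 14], [14, 9, 3], [9, 14, 3],
   [14, 11, 9], [9, 13, 9], [11, 3, 11], [14, 13, 11], [9, 14, 11], [13, 9, 13], [14, 11, 9, 3],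
   [9, 13, 9, 3], [9, 14, 11, 3], [13, 9, 13, 3], [14, 14, 9, 9], [9, 13, 11, 9], [3, 14, 11, 9],
   [14, 14, 13, 9], [9, 14, 14, 9], [21, 9, 21, 9], [31, 13, 31, 9], [21, 9, 21, 13],
   [13, 21, 9, 21], [9, 31, 13, 31], [31, 13, 31, 9, 3], [9, 31, 13, 31, 3]]

end Cfsg.Agent.Janko2
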