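import Cfsg.Agent.Janko2.Mod5

/-!
Certificates for the Schur multiplier of the icosian reflection group at 2, 3 and 5.
-/

set_option autoImplicit false
set_option maxRecDepth 20000

namespace Cfsg.Agent.Janko2.Mod5

open SchurCert

/-- words of the generators of a Sylow 5-subgroup -/
def fiveWords : List (List (Fin 4)) :=
  [
    [3, 0, 1, 2, 3, 2, 1, 3, 2, 0, 3, 0],
    [2, 3, 1, 2, 3, 0, 2, 0, 3, 1, 2, 1]]

/-- words of the fusing elements for the prime 5 -/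
def fiveFus : List (List (Fin 4)) :=
  [
    [2, 1, 3, 2, 3, 1, 2, 3, 0, 1, 2, 3, 1, 2, 3, 0],
    [1, 3, 1, 2, 3, 2, 1, 0, 1, 3, 2, 0, 3, 0]]

/-- the certificate for the prime 5 -/
def fiveCert : Cert where
  P :=
    { p := 5, n := 2,
      powW := [[], []],
      cjW := [[], [[0]]] }
  gens := [
    350695220560160817421861586066,
    133928304255253065254158087898842]
  gs := [
    21869784971997075503815533404441,
    92787493854616419035133667050276]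
  rows := [
    .fus 0 [[0], [1]] [[0, 0, 0, 0, 1, 1, 1, 1], [1]] [1, 0] [0, 1],
    .fus 0 [[0], [1]] [[0, 0, 0, 0, 1, 1, 1, 1], [1]] [0, 0, 0, 0, 0] [],
    .fus 1 [[0]] [[0, 0, 0, 0]] [0, 0, 0, 0, 0] []]
  beta := [[], []]
  combo := [[2, 2], [1, 1, 1, 1, 2], [0, 0]]

theorem five_words : fiveWords.map codeW = fiveCert.gens ∧ fiveFus.map codeW = fiveCert.gs := by
  decide +kernel

theorem five_check : fiveCert.check cmul oneCode = true := by decide +kernel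

/-- words of the generators of a Sylow 3-subgroup -/
def threeWords : List (List (Fin 4)) :=
  [
    [2, 1, 3, 0, 1, 3, 0, 2, 1, 0, 1, 0],
    [2, 3, 0, 2, 1, 3, 2, 1, 0, 1, 2, 0],
    [2, 1, 3, 2, 3, 0, 2, 3, 0, 1, 0, 2]]

/-- words of the fusing elements for the prime 3 -/
def threeFus : List (List (Fin 4)) :=
  [
    [3, 2, 3, 1, 0, 1, 2, 3, 2, 3, 1, 2, 1, 0],
    [1, 0, 1, 0, 2, 1, 3, 2, 0, 1, 0, 1, 2, 1],
    [0, 1, 2, 0, 1, 0, 2, 3, 2, 0, 3, 1, 2, 3, 0, 2],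
    [1, 3, 1, 2, 1, 0, 3, 2, 1, 3, 2, 1, 3, 2, 1],
    [2, 3, 1, 0, 3, 1, 2, 0, 1, 3, 2, 3, 1, 0]]

/-- the certificate for the prime 3 -/
def threeCert : Cert where
  P :=
    { p := 3, n := 3,
      powW := [[], [], []],
      cjW := [[], [[0]], [[0], [0, 0, 1]]] }
  gens := [
    57206935608925327290584776583386,
    172571675812598812933902146028569,
    48510287102402537506677155006099]
  gs := [
    45913407527152869214528859838210,
    48191826858482996325480602538129,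
    16571688039413621046072905339403,
    83826184705915196399946404241954,
    81153513015008154719818863383040]
  rows := [
    .fus 0 [[0], [1], [2]] [[0], [0, 1], [0, 2]] [1, 1, 1] [],
    .fus 1 [[2]] [[0, 0, 1, 2]] [0, 0, 0] [],
    .fus 2 [[1, 2]] [[0, 0, 1]] [0, 0, 0] [],
    .fus 3 [[0, 1, 2]] [[0, 1, 1]] [0, 0, 0] [],
    .fus 4 [[1, 2, 2]] [[0, 0, 2]] [0, 0, 0] []]
  beta := [[5], [], []]
  combo := [[0], [0, 0, 2, 2, 3], [0, 2, 2, 3, 3, 4, 4], [1, 1, 2, 3], [0, 1, 1, 2, 4, 4], []]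

theorem three_words : threeWords.map codeW = threeCert.gens ∧ threeFus.map codeW = threeCert.gs := by
  decide +kernel

theorem three_check : threeCert.check cmul oneCode = true := by decide +kernel

/-- words of the generators of a Sylow 2-subgroup -/
def twoWords : List (List (Fin 4)) :=
  [
    [0, 3, 1, 2, 1, 3, 1, 2, 1, 0],
    [1, 0, 2, 3, 1, 0, 1, 3, 2, 0, 1],
    [0, 3, 1, 2, 1, 0],
    [3, 2, 0, 1, 3, 1, 0, 2, 0, 3],
    [0, 3, 0],
    [1, 2, 3, 0, 2, 0, 3, 2, 0, 1],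
    [2, 3, 1, 0, 3, 2, 1, 0, 2, 1],
    [3, 1, 2, 3, 0, 2, 3, 1, 2, 0, 1, 0]]

/-- words of the fusing elements for the prime 2 -/
def twoFus : List (List (Fin 4)) :=
  [
    [0, 2, 0, 3, 2, 0, 1, 2, 0, 3, 1, 0, 2, 1],
    [0, 1, 0, 3, 1, 2, 1, 3, 0, 2, 0, 3, 1, 0]]

/-- the certificate for the prime 2 -/
def twoCert : Cert where
  P :=
    { p := 2, n := 8,
      powW := [[], [], [0], [0], [], [], [1, 3, 4, 5], [1, 2, 3, 4, 5]],
      cjW := [[], [[0]], [[0], [1]], [[0], [1], [0, 2]], [[0], [0, 1], [0, 2], [0, 3]], [[0], [0, 1], [2], [3], [0, 4]], [[0], [0, 1], [2], [1, 3], [0, 2, 4], [0, 1, 2, 5]], [[0], [1], [1, 2], [0, 3], [0, 3, 4], [0, 1, 3, 5], [2, 4, 5, 6]]] }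
  gens := [
    15474725171909798674846187522,
    257491988011796356725390573568,
    179644972184684578840688506766996,
    252695115001134549802720166660,
    238150094006985759825269395456,
    182505011339474950678003453953,
    98336081659594404705755038820098,
    178758735446866734643304783427736]
  gs := [
    172490122276963616864765470652040,
    81882521829378658763508544446620]
  rows := [
    .assoc 2 2 1,
    .assoc 2 2 2,
    .assoc 3 2 2,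
    .assoc 3 3 3,
    .assoc 4 2 2,
    .assoc 5 2 2,
    .assoc 6 2 2,
    .assoc 6 3 2,
    .assoc 6 3 3,
    .assoc 6 4 3,
    .assoc 6 4 4,
    .assoc 6 5 3,
    .assoc 6 5 4,
    .assoc 6 6 3,
    .assoc 6 6 4,
    .assoc 6 6 6,
    .assoc 7 2 2,
    .assoc 7 3 3,
    .assoc 7 4 4,
    .assoc 7 5 4,
    .assoc 7 6 3,
    .assoc 7 6 4,
    .assoc 7 6 6,
    .assoc 7 7 4,
    .assoc 7 7 7,
    .fus 0 [[4], [2], [5], [6], [7]] [[4], [0, 1, 2, 3], [0, 1, 2, 5], [3, 4, 5, 6, 7], [2, 3, 5, 6]] [2, 1] [1, 2],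
    .fus 0 [[4], [2], [5], [6], [7]] [[4], [0, 1, 2, 3], [0, 1, 2, 5], [3, 4, 5, 6, 7], [2, 3, 5, 6]] [1, 1, 2] [0, 2, 0],
    .fus 0 [[4], [2], [5], [6], [7]] [[4], [0, 1, 2, 3], [0, 1, 2, 5], [3, 4, 5, 6, 7], [2, 3, 5, 6]] [1, 3, 3, 0, 1, 3] [4, 4, 3, 0],
    .fus 0 [[4], [2], [5], [6], [7]] [[4], [0, 1, 2, 3], [0, 1, 2, 5], [3, 4, 5, 6, 7], [2, 3, 5, 6]] [4, 2, 4, 3, 0, 4, 0, 1, 3] [0, 1, 2, 4, 3, 3, 0],
    .fus 1 [[4], [2], [5], [3], [1]] [[0, 1, 2, 3, 4], [1, 2], [1, 3, 5], [0, 2, 3, 4], [0, 4]] [3, 2] [2, 3],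
    .fus 1 [[4], [2], [5], [3], [1]] [[0, 1, 2, 3, 4], [1, 2], [1, 3, 5], [0, 2, 3, 4], [0, 4]] [3, 3] [1, 1]]
  beta := [[32], [33, 34], [27, 32, 33, 34], [32, 33], [27, 32, 33, 34, 35], [], [], []]
  combo := [[1, 2, 3], [0, 1, 2, 6, 7, 16, 17], [0], [0, 1, 2, 3, 6, 10, 12, 16, 23, 26, 29], [1], [0, 6, 7], [0, 1, 6, 8, 9, 12, 16, 23, 29], [3], [0, 1, 2, 7, 8, 16, 17], [0, 1, 2, 7, 11, 12, 18, 19, 23, 25, 29], [1, 3, 4, 6, 7, 8, 9, 10, 11, 17, 19, 25, 30], [2, 3, 4], [0, 1, 2, 3, 9, 11, 12, 18, 19, 23, 25, 29], [0, 1, 4, 6, 12, 16, 23, 26, 29], [0, 1, 2, 3, 4, 6, 8, 9, 12, 16, 18, 23, 29], [1, 2, 3, 6, 10, 11, 12, 13, 14, 15, 19, 21, 22, 24, 25, 29, 30], [5], [0, 1, 3, 6, 7, 8, 12, 16, 17, 18, 19, 23, 25, 29], [1, 2, 3, 5, 6, 7, 9, 11, 12, 16, 18, 19, 25, 26], [1, 5, 6, 7, 11, 25], [0, 2, 4, 6, 9, 11, 16, 17, 19, 23, 25, 26], [0, 5, 8, 10, 11, 12, 14, 15, 16, 19, 20, 22, 26, 27, 29, 30], [6], [2,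 4, 5, 6, 7, 9, 11, 12, 13, 16, 18, 23, 25, 29], [2, 3, 4, 8, 9, 10, 12, 14, 16, 17, 29], [0, 1, 3, 4, 9, 12, 16, 17, 20, 21, 23, 24], [5, 6, 8, 9, 10, 12, 13, 15, 17, 19, 20, 21, 23, 24], [], [1, 4, 5, 10, 15, 17, 20, 22, 24, 25, 27, 28, 29], [1, 2, 17], [4, 6, 11, 17, 19, 20], [1, 2, 3, 4, 6, 9, 12, 16, 20, 23, 24, 25, 29], [], [], [], []]

theorem two_words : twoWords.map codeW = twoCert.gens ∧ twoFus.map codeW = twoCert.gs := by
  decide +kernel

theorem two_check : twoCert.check cmul oneCode = true := by decide +kernel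

/-- two words whose commutator is central -/
def wordA : List (Fin 4) := [0, 3, 2, 0, 3, 1, 2, 3, 0, 2, 3, 1, 2, 0]

/-- the second word -/
def wordB : List (Fin 4) := [0, 2, 0, 3, 0, 1, 2, 3, 0, 1, 2, 3, 2, 1, 3]

theorem word_facts : codeW (wordA ++ wordA.reverse) = oneCode ∧ codeW (wordB ++ wordB.reverse) = oneCode ∧
    codeW (wordA ++ wordB ++ wordA.reverse ++ wordB.reverse) = encM (-1) := by decide +kernel

end Cfsg.Agent.Janko2.Mod5
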