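import Cfsg.Agent.Janko2.Lattice

/-!
Tables: representatives of the 315 lines of minimal vectors.
-/

set_option autoImplicit false

namespace Cfsg.Agent.Janko2

/-- part of `lineRep` -/
def lineRepPart0 : List IV :=
  [(⟨8,0,0,0,0,0,0,0⟩, ⟨0,0,0,0,0,0,0,0⟩, ⟨0,0,0,0,0,0,0,0⟩),
    (⟨-4,0,-4,0,0,0,0,0⟩, ⟨-4,0,-4,0,0,0,0,0⟩, ⟨0,0,0,0,0,0,0,0⟩),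
    (⟨-4,0,-4,0,0,0,0,0⟩, ⟨-4,0,4,0,0,0,0,0⟩, ⟨0,0,0,0,0,0,0,0⟩),
    (⟨-4,0,-4,0,0,0,0,0⟩, ⟨0,0,0,0,-4,0,-4,0⟩, ⟨0,0,0,0,0,0,0,0⟩),
    (⟨-4,0,-4,0,0,0,0,0⟩, ⟨0,0,0,0,-4,0,4,0⟩, ⟨0,0,0,0,0,0,0,0⟩),
    (⟨-4,0,-4,0,0,0,0,0⟩, ⟨0,0,0,0,0,0,0,0⟩, ⟨-4,0,-4,0,0,0,0,0⟩),
    (⟨-4,0,-4,0,0,0,0,0⟩, ⟨0,0,0,0,0,0,0,0⟩, ⟨-4,0,4,0,0,0,0,0⟩),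
    (⟨-4,0,-4,0,0,0,0,0⟩, ⟨0,0,0,0,0,0,0,0⟩, ⟨0,0,0,0,-4,0,-4,0⟩),
    (⟨-4,0,-4,0,0,0,0,0⟩, ⟨0,0,0,0,0,0,0,0⟩, ⟨0,0,0,0,-4,0,4,0⟩),
    (⟨-4,0,-4,0,0,0,0,0⟩, ⟨0,0,0,0,0,0,0,0⟩, ⟨0,0,0,0,4,0,-4,0⟩),
    (⟨-4,0,-4,0,0,0,0,0⟩, ⟨0,0,0,0,0,0,0,0⟩, ⟨0,0,0,0,4,0,4,0⟩),
    (⟨-4,0,-4,0,0,0,0,0⟩, ⟨0,0,0,0,0,0,0,0⟩, ⟨4,0,-4,0,0,0,0,0⟩),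
    (⟨-4,0,-4,0,0,0,0,0⟩, ⟨0,0,0,0,0,0,0,0⟩, ⟨4,0,4,0,0,0,0,0⟩),
    (⟨-4,0,-4,0,0,0,0,0⟩, ⟨0,0,0,0,4,0,-4,0⟩, ⟨0,0,0,0,0,0,0,0⟩),
    (⟨-4,0,-4,0,0,0,0,0⟩, ⟨0,0,0,0,4,0,4,0⟩, ⟨0,0,0,0,0,0,0,0⟩),
    (⟨-4,0,-4,0,0,0,0,0⟩, ⟨4,0,-4,0,0,0,0,0⟩, ⟨0,0,0,0,0,0,0,0⟩),
    (⟨-4,0,-4,0,0,0,0,0⟩, ⟨4,0,4,0,0,0,0,0⟩, ⟨0,0,0,0,0,0,0,0⟩),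
    (⟨-4,0,-2,0,-1,1,-1,-1⟩, ⟨-2,0,0,0,-1,-1,1,-1⟩, ⟨-2,0,0,0,-1,-1,1,-1⟩),
    (⟨-4,0,-2,0,-1,1,-1,-1⟩, ⟨-2,0,0,0,-1,-1,1,-1⟩, ⟨2,0,0,0,1,1,-1,1⟩),
    (⟨-4,0,-2,0,-1,1,-1,-1⟩, ⟨-1,-1,1,-1,2,0,0,0⟩, ⟨-1,-1,1,-1,2,0,0,0⟩),
    (⟨-4,0,-2,0,-1,1,-1,-1⟩, ⟨-1,-1,1,-1,2,0,0,0⟩, ⟨1,1,-1,1,-2,0,0,0⟩),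
    (⟨-4,0,-2,0,-1,1,-1,-1⟩, ⟨-1,1,-1,-1,0,0,-2,0⟩, ⟨-1,1,-1,-1,0,0,-2,0⟩),
    (⟨-4,0,-2,0,-1,1,-1,-1⟩, ⟨-1,1,-1,-1,0,0,-2,0⟩, ⟨1,-1,1,1,0,0,2,0⟩),
    (⟨-4,0,-2,0,-1,1,-1,-1⟩, ⟨0,0,-2,0,1,-1,1,1⟩, ⟨0,0,-2,0,1,-1,1,1⟩),
    (⟨-4,0,-2,0,-1,1,-1,-1⟩, ⟨0,0,-2,0,1,-1,1,1⟩, ⟨0,0,2,0,-1,1,-1,-1⟩),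
    (⟨-4,0,-2,0,-1,1,-1,-1⟩, ⟨0,0,2,0,-1,1,-1,-1⟩, ⟨0,0,-2,0,1,-1,1,1⟩),
    (⟨-4,0,-2,0,-1,1,-1,-1⟩, ⟨0,0,2,0,-1,1,-1,-1⟩, ⟨0,0,2,0,-1,1,-1,-1⟩),
    (⟨-4,0,-2,0,-1,1,-1,-1⟩, ⟨1,-1,1,1,0,0,2,0⟩, ⟨-1,1,-1,-1,0,0,-2,0⟩),
    (⟨-4,0,-2,0,-1,1,-1,-1⟩, ⟨1,-1,1,1,0,0,2,0⟩, ⟨1,-1,1,1,0,0,2,0⟩),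
    (⟨-4,0,-2,0,-1,1,-1,-1⟩, ⟨1,1,-1,1,-2,0,0,0⟩, ⟨-1,-1,1,-1,2,0,0,0⟩),
    (⟨-4,0,-2,0,-1,1,-1,-1⟩, ⟨1,1,-1,1,-2,0,0,0⟩, ⟨1,1,-1,1,-2,0,0,0⟩),
    (⟨-4,0,-2,0,-1,1,-1,-1⟩, ⟨2,0,0,0,1,1,-1,1⟩, ⟨-2,0,0,0,-1,-1,1,-1⟩),
    (⟨-4,0,-2,0,-1,1,-1,-1⟩, ⟨2,0,0,0,1,1,-1,1⟩, ⟨2,0,0,0,1,1,-1,1⟩),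
    (⟨-4,0,-2,0,-1,1,1,1⟩, ⟨-2,0,0,0,1,1,1,-1⟩, ⟨-1,1,1,1,0,0,-2,0⟩),
    (⟨-4,0,-2,0,-1,1,1,1⟩, ⟨-2,0,0,0,1,1,1,-1⟩, ⟨1,-1,-1,-1,0,0,2,0⟩),
    (⟨-4,0,-2,0,-1,1,1,1⟩, ⟨-1,-1,-1,1,-2,0,0,0⟩, ⟨0,0,-2,0,1,-1,-1,-1⟩),
    (⟨-4,0,-2,0,-1,1,1,1⟩, ⟨-1,-1,-1,1,-2,0,0,0⟩, ⟨0,0,2,0,-1,1,1,1⟩),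
    (⟨-4,0,-2,0,-1,1,1,1⟩, ⟨-1,1,1,1,0,0,-2,0⟩, ⟨-2,0,0,0,1,1,1,-1⟩),
    (⟨-4,0,-2,0,-1,1,1,1⟩, ⟨-1,1,1,1,0,0,-2,0⟩, ⟨2,0,0,0,-1,-1,-1,1⟩),
    (⟨-4,0,-2,0,-1,1,1,1⟩, ⟨0,0,-2,0,1,-1,-1,-1⟩, ⟨-1,-1,-1,1,-2,0,0,0⟩),
    (⟨-4,0,-2,0,-1,1,1,1⟩, ⟨0,0,-2,0,1,-1,-1,-1⟩, ⟨1,1,1,-1,2,0,0,0⟩),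
    (⟨-4,0,-2,0,-1,1,1,1⟩, ⟨0,0,2,0,-1,1,1,1⟩, ⟨-1,-1,-1,1,-2,0,0,0⟩),
    (⟨-4,0,-2,0,-1,1,1,1⟩, ⟨0,0,2,0,-1,1,1,1⟩, ⟨1,1,1,-1,2,0,0,0⟩),
    (⟨-4,0,-2,0,-1,1,1,1⟩, ⟨1,-1,-1,-1,0,0,2,0⟩, ⟨-2,0,0,0,1,1,1,-1⟩),
    (⟨-4,0,-2,0,-1,1,1,1⟩, ⟨1,-1,-1,-1,0,0,2,0⟩, ⟨2,0,0,0,-1,-1,-1,1⟩),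
    (⟨-4,0,-2,0,-1,1,1,1⟩, ⟨1,1,1,-1,2,0,0,0⟩, ⟨0,0,-2,0,1,-1,-1,-1⟩),
    (⟨-4,0,-2,0,-1,1,1,1⟩, ⟨1,1,1,-1,2,0,0,0⟩, ⟨0,0,2,0,-1,1,1,1⟩),
    (⟨-4,0,-2,0,-1,1,1,1⟩, ⟨2,0,0,0,-1,-1,-1,1⟩, ⟨-1,1,1,1,0,0,-2,0⟩),
    (⟨-4,0,-2,0,-1,1,1,1⟩, ⟨2,0,0,0,-1,-1,-1,1⟩, ⟨1,-1,-1,-1,0,0,2,0⟩),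
    (⟨-4,0,-2,0,1,-1,-1,-1⟩, ⟨-2,0,0,0,-1,-1,-1,1⟩, ⟨-1,-1,-1,1,2,0,0,0⟩),
    (⟨-4,0,-2,0,1,-1,-1,-1⟩, ⟨-2,0,0,0,-1,-1,-1,1⟩, ⟨1,1,1,-1,-2,0,0,0⟩),
    (⟨-4,0,-2,0,1,-1,-1,-1⟩, ⟨-1,-1,-1,1,2,0,0,0⟩, ⟨-2,0,0,0,-1,-1,-1,1⟩),
    (⟨-4,0,-2,0,1,-1,-1,-1⟩, ⟨-1,-1,-1,1,2,0,0,0⟩, ⟨2,0,0,0,1,1,1,-1⟩),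
    (⟨-4,0,-2,0,1,-1,-1,-1⟩, ⟨-1,1,1,1,0,0,2,0⟩, ⟨0,0,-2,0,-1,1,1,1⟩),
    (⟨-4,0,-2,0,1,-1,-1,-1⟩, ⟨-1,1,1,1,0,0,2,0⟩, ⟨0,0,2,0,1,-1,-1,-1⟩),
    (⟨-4,0,-2,0,1,-1,-1,-1⟩, ⟨0,0,-2,0,-1,1,1,1⟩, ⟨-1,1,1,1,0,0,2,0⟩),
    (⟨-4,0,-2,0,1,-1,-1,-1⟩, ⟨0,0,-2,0,-1,1,1,1⟩, ⟨1,-1,-1,-1,0,0,-2,0⟩),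
    (⟨-4,0,-2,0,1,-1,-1,-1⟩, ⟨0,0,2,0,1,-1,-1,-1⟩, ⟨-1,1,1,1,0,0,2,0⟩),
    (⟨-4,0,-2,0,1,-1,-1,-1⟩, ⟨0,0,2,0,1,-1,-1,-1⟩, ⟨1,-1,-1,-1,0,0,-2,0⟩),
    (⟨-4,0,-2,0,1,-1,-1,-1⟩, ⟨1,-1,-1,-1,0,0,-2,0⟩, ⟨0,0,-2,0,-1,1,1,1⟩),
    (⟨-4,0,-2,0,1,-1,-1,-1⟩, ⟨1,-1,-1,-1,0,0,-2,0⟩, ⟨0,0,2,0,1,-1,-1,-1⟩),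
    (⟨-4,0,-2,0,1,-1,-1,-1⟩, ⟨1,1,1,-1,-2,0,0,0⟩, ⟨-2,0,0,0,-1,-1,-1,1⟩),
    (⟨-4,0,-2,0,1,-1,-1,-1⟩, ⟨1,1,1,-1,-2,0,0,0⟩, ⟨2,0,0,0,1,1,1,-1⟩)]

/-- part of `lineRep` -/
def lineRepPart1 : List IV :=
  [(⟨-4,0,-2,0,1,-1,-1,-1⟩, ⟨2,0,0,0,1,1,1,-1⟩, ⟨-1,-1,-1,1,2,0,0,0⟩),
    (⟨-4,0,-2,0,1,-1,-1,-1⟩, ⟨2,0,0,0,1,1,1,-1⟩, ⟨1,1,1,-1,-2,0,0,0⟩),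
    (⟨-4,0,-2,0,1,-1,1,1⟩, ⟨-2,0,0,0,1,1,-1,1⟩, ⟨0,0,-2,0,-1,1,-1,-1⟩),
    (⟨-4,0,-2,0,1,-1,1,1⟩, ⟨-2,0,0,0,1,1,-1,1⟩, ⟨0,0,2,0,1,-1,1,1⟩),
    (⟨-4,0,-2,0,1,-1,1,1⟩, ⟨-1,-1,1,-1,-2,0,0,0⟩, ⟨-1,1,-1,-1,0,0,2,0⟩),
    (⟨-4,0,-2,0,1,-1,1,1⟩, ⟨-1,-1,1,-1,-2,0,0,0⟩, ⟨1,-1,1,1,0,0,-2,0⟩),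
    (⟨-4,0,-2,0,1,-1,1,1⟩, ⟨-1,1,-1,-1,0,0,2,0⟩, ⟨-1,-1,1,-1,-2,0,0,0⟩),
    (⟨-4,0,-2,0,1,-1,1,1⟩, ⟨-1,1,-1,-1,0,0,2,0⟩, ⟨1,1,-1,1,2,0,0,0⟩),
    (⟨-4,0,-2,0,1,-1,1,1⟩, ⟨0,0,-2,0,-1,1,-1,-1⟩, ⟨-2,0,0,0,1,1,-1,1⟩),
    (⟨-4,0,-2,0,1,-1,1,1⟩, ⟨0,0,-2,0,-1,1,-1,-1⟩, ⟨2,0,0,0,-1,-1,1,-1⟩),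
    (⟨-4,0,-2,0,1,-1,1,1⟩, ⟨0,0,2,0,1,-1,1,1⟩, ⟨-2,0,0,0,1,1,-1,1⟩),
    (⟨-4,0,-2,0,1,-1,1,1⟩, ⟨0,0,2,0,1,-1,1,1⟩, ⟨2,0,0,0,-1,-1,1,-1⟩),
    (⟨-4,0,-2,0,1,-1,1,1⟩, ⟨1,-1,1,1,0,0,-2,0⟩, ⟨-1,-1,1,-1,-2,0,0,0⟩),
    (⟨-4,0,-2,0,1,-1,1,1⟩, ⟨1,-1,1,1,0,0,-2,0⟩, ⟨1,1,-1,1,2,0,0,0⟩),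
    (⟨-4,0,-2,0,1,-1,1,1⟩, ⟨1,1,-1,1,2,0,0,0⟩, ⟨-1,1,-1,-1,0,0,2,0⟩),
    (⟨-4,0,-2,0,1,-1,1,1⟩, ⟨1,1,-1,1,2,0,0,0⟩, ⟨1,-1,1,1,0,0,-2,0⟩),
    (⟨-4,0,-2,0,1,-1,1,1⟩, ⟨2,0,0,0,-1,-1,1,-1⟩, ⟨0,0,-2,0,-1,1,-1,-1⟩),
    (⟨-4,0,-2,0,1,-1,1,1⟩, ⟨2,0,0,0,-1,-1,1,-1⟩, ⟨0,0,2,0,1,-1,1,1⟩),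
    (⟨-4,0,0,0,0,0,0,0⟩, ⟨-4,0,0,0,0,0,0,0⟩, ⟨-2,0,-2,0,2,0,0,2⟩),
    (⟨-4,0,0,0,0,0,0,0⟩, ⟨-4,0,0,0,0,0,0,0⟩, ⟨-2,0,0,2,-2,0,2,0⟩),
    (⟨-4,0,0,0,0,0,0,0⟩, ⟨-4,0,0,0,0,0,0,0⟩, ⟨-2,0,2,0,0,2,-2,0⟩),
    (⟨-4,0,0,0,0,0,0,0⟩, ⟨-4,0,0,0,0,0,0,0⟩, ⟨0,-2,-2,0,-2,0,-2,0⟩),
    (⟨-4,0,0,0,0,0,0,0⟩, ⟨-4,0,0,0,0,0,0,0⟩, ⟨0,2,2,0,2,0,2,0⟩),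
    (⟨-4,0,0,0,0,0,0,0⟩, ⟨-4,0,0,0,0,0,0,0⟩, ⟨2,0,-2,0,0,-2,2,0⟩),
    (⟨-4,0,0,0,0,0,0,0⟩, ⟨-4,0,0,0,0,0,0,0⟩, ⟨2,0,0,-2,2,0,-2,0⟩),
    (⟨-4,0,0,0,0,0,0,0⟩, ⟨-4,0,0,0,0,0,0,0⟩, ⟨2,0,2,0,-2,0,0,-2⟩),
    (⟨-4,0,0,0,0,0,0,0⟩, ⟨-2,0,-2,0,-2,0,0,-2⟩, ⟨0,0,-4,0,0,0,0,0⟩),
    (⟨-4,0,0,0,0,0,0,0⟩, ⟨-2,0,-2,0,-2,0,0,-2⟩, ⟨0,0,4,0,0,0,0,0⟩),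
    (⟨-4,0,0,0,0,0,0,0⟩, ⟨-2,0,-2,0,0,-2,-2,0⟩, ⟨0,0,0,0,0,0,-4,0⟩),
    (⟨-4,0,0,0,0,0,0,0⟩, ⟨-2,0,-2,0,0,-2,-2,0⟩, ⟨0,0,0,0,0,0,4,0⟩),
    (⟨-4,0,0,0,0,0,0,0⟩, ⟨-2,0,-2,0,0,2,2,0⟩, ⟨0,0,0,0,-4,0,0,0⟩),
    (⟨-4,0,0,0,0,0,0,0⟩, ⟨-2,0,-2,0,0,2,2,0⟩, ⟨0,0,0,0,4,0,0,0⟩),
    (⟨-4,0,0,0,0,0,0,0⟩, ⟨-2,0,-2,0,2,0,0,2⟩, ⟨-4,0,0,0,0,0,0,0⟩),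
    (⟨-4,0,0,0,0,0,0,0⟩, ⟨-2,0,-2,0,2,0,0,2⟩, ⟨4,0,0,0,0,0,0,0⟩),
    (⟨-4,0,0,0,0,0,0,0⟩, ⟨-2,0,0,-2,-2,0,-2,0⟩, ⟨0,0,0,0,-4,0,0,0⟩),
    (⟨-4,0,0,0,0,0,0,0⟩, ⟨-2,0,0,-2,-2,0,-2,0⟩, ⟨0,0,0,0,4,0,0,0⟩),
    (⟨-4,0,0,0,0,0,0,0⟩, ⟨-2,0,0,-2,2,0,2,0⟩, ⟨0,0,0,0,0,0,-4,0⟩),
    (⟨-4,0,0,0,0,0,0,0⟩, ⟨-2,0,0,-2,2,0,2,0⟩, ⟨0,0,0,0,0,0,4,0⟩),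
    (⟨-4,0,0,0,0,0,0,0⟩, ⟨-2,0,0,2,-2,0,2,0⟩, ⟨-4,0,0,0,0,0,0,0⟩),
    (⟨-4,0,0,0,0,0,0,0⟩, ⟨-2,0,0,2,-2,0,2,0⟩, ⟨4,0,0,0,0,0,0,0⟩),
    (⟨-4,0,0,0,0,0,0,0⟩, ⟨-2,0,0,2,2,0,-2,0⟩, ⟨0,0,-4,0,0,0,0,0⟩),
    (⟨-4,0,0,0,0,0,0,0⟩, ⟨-2,0,0,2,2,0,-2,0⟩, ⟨0,0,4,0,0,0,0,0⟩),
    (⟨-4,0,0,0,0,0,0,0⟩, ⟨-2,0,2,0,-2,0,0,2⟩, ⟨0,0,0,0,0,0,-4,0⟩),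
    (⟨-4,0,0,0,0,0,0,0⟩, ⟨-2,0,2,0,-2,0,0,2⟩, ⟨0,0,0,0,0,0,4,0⟩),
    (⟨-4,0,0,0,0,0,0,0⟩, ⟨-2,0,2,0,0,-2,2,0⟩, ⟨0,0,-4,0,0,0,0,0⟩),
    (⟨-4,0,0,0,0,0,0,0⟩, ⟨-2,0,2,0,0,-2,2,0⟩, ⟨0,0,4,0,0,0,0,0⟩),
    (⟨-4,0,0,0,0,0,0,0⟩, ⟨-2,0,2,0,0,2,-2,0⟩, ⟨-4,0,0,0,0,0,0,0⟩),
    (⟨-4,0,0,0,0,0,0,0⟩, ⟨-2,0,2,0,0,2,-2,0⟩, ⟨4,0,0,0,0,0,0,0⟩),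
    (⟨-4,0,0,0,0,0,0,0⟩, ⟨-2,0,2,0,2,0,0,-2⟩, ⟨0,0,0,0,-4,0,0,0⟩),
    (⟨-4,0,0,0,0,0,0,0⟩, ⟨-2,0,2,0,2,0,0,-2⟩, ⟨0,0,0,0,4,0,0,0⟩),
    (⟨-4,0,0,0,0,0,0,0⟩, ⟨-1,-1,-1,-1,-1,-1,1,1⟩, ⟨-1,1,-1,1,1,-1,1,-1⟩),
    (⟨-4,0,0,0,0,0,0,0⟩, ⟨-1,-1,-1,-1,-1,-1,1,1⟩, ⟨1,-1,1,-1,-1,1,-1,1⟩),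
    (⟨-4,0,0,0,0,0,0,0⟩, ⟨-1,-1,-1,-1,1,1,-1,-1⟩, ⟨-1,1,1,-1,1,-1,-1,1⟩),
    (⟨-4,0,0,0,0,0,0,0⟩, ⟨-1,-1,-1,-1,1,1,-1,-1⟩, ⟨1,-1,-1,1,-1,1,1,-1⟩),
    (⟨-4,0,0,0,0,0,0,0⟩, ⟨-1,-1,1,1,-1,-1,-1,-1⟩, ⟨-1,1,1,-1,-1,1,1,-1⟩),
    (⟨-4,0,0,0,0,0,0,0⟩, ⟨-1,-1,1,1,-1,-1,-1,-1⟩, ⟨1,-1,-1,1,1,-1,-1,1⟩),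
    (⟨-4,0,0,0,0,0,0,0⟩, ⟨-1,-1,1,1,1,1,1,1⟩, ⟨-1,1,-1,1,-1,1,-1,1⟩),
    (⟨-4,0,0,0,0,0,0,0⟩, ⟨-1,-1,1,1,1,1,1,1⟩, ⟨1,-1,1,-1,1,-1,1,-1⟩),
    (⟨-4,0,0,0,0,0,0,0⟩, ⟨-1,1,-1,1,-1,1,-1,1⟩, ⟨-1,-1,1,1,1,1,1,1⟩),
    (⟨-4,0,0,0,0,0,0,0⟩, ⟨-1,1,-1,1,-1,1,-1,1⟩, ⟨1,1,-1,-1,-1,-1,-1,-1⟩),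
    (⟨-4,0,0,0,0,0,0,0⟩, ⟨-1,1,-1,1,1,-1,1,-1⟩, ⟨-1,-1,-1,-1,-1,-1,1,1⟩),
    (⟨-4,0,0,0,0,0,0,0⟩, ⟨-1,1,-1,1,1,-1,1,-1⟩, ⟨1,1,1,1,1,1,-1,-1⟩),
    (⟨-4,0,0,0,0,0,0,0⟩, ⟨-1,1,1,-1,-1,1,1,-1⟩, ⟨-1,-1,1,1,-1,-1,-1,-1⟩)]

/-- part of `lineRep` -/
def lineRepPart2 : List IV :=
  [(⟨-4,0,0,0,0,0,0,0⟩, ⟨-1,1,1,-1,-1,1,1,-1⟩, ⟨1,1,-1,-1,1,1,1,1⟩),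
    (⟨-4,0,0,0,0,0,0,0⟩, ⟨-1,1,1,-1,1,-1,-1,1⟩, ⟨-1,-1,-1,-1,1,1,-1,-1⟩),
    (⟨-4,0,0,0,0,0,0,0⟩, ⟨-1,1,1,-1,1,-1,-1,1⟩, ⟨1,1,1,1,-1,-1,1,1⟩),
    (⟨-4,0,0,0,0,0,0,0⟩, ⟨0,-2,-2,0,-2,0,-2,0⟩, ⟨-4,0,0,0,0,0,0,0⟩),
    (⟨-4,0,0,0,0,0,0,0⟩, ⟨0,-2,-2,0,-2,0,-2,0⟩, ⟨4,0,0,0,0,0,0,0⟩),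
    (⟨-4,0,0,0,0,0,0,0⟩, ⟨0,-2,-2,0,2,0,2,0⟩, ⟨0,0,-4,0,0,0,0,0⟩),
    (⟨-4,0,0,0,0,0,0,0⟩, ⟨0,-2,-2,0,2,0,2,0⟩, ⟨0,0,4,0,0,0,0,0⟩),
    (⟨-4,0,0,0,0,0,0,0⟩, ⟨0,-2,2,0,-2,0,2,0⟩, ⟨0,0,0,0,-4,0,0,0⟩),
    (⟨-4,0,0,0,0,0,0,0⟩, ⟨0,-2,2,0,-2,0,2,0⟩, ⟨0,0,0,0,4,0,0,0⟩),
    (⟨-4,0,0,0,0,0,0,0⟩, ⟨0,-2,2,0,2,0,-2,0⟩, ⟨0,0,0,0,0,0,-4,0⟩),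
    (⟨-4,0,0,0,0,0,0,0⟩, ⟨0,-2,2,0,2,0,-2,0⟩, ⟨0,0,0,0,0,0,4,0⟩),
    (⟨-4,0,0,0,0,0,0,0⟩, ⟨0,0,-4,0,0,0,0,0⟩, ⟨-2,0,-2,0,-2,0,0,-2⟩),
    (⟨-4,0,0,0,0,0,0,0⟩, ⟨0,0,-4,0,0,0,0,0⟩, ⟨-2,0,0,2,2,0,-2,0⟩),
    (⟨-4,0,0,0,0,0,0,0⟩, ⟨0,0,-4,0,0,0,0,0⟩, ⟨-2,0,2,0,0,-2,2,0⟩),
    (⟨-4,0,0,0,0,0,0,0⟩, ⟨0,0,-4,0,0,0,0,0⟩, ⟨0,-2,-2,0,2,0,2,0⟩),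
    (⟨-4,0,0,0,0,0,0,0⟩, ⟨0,0,-4,0,0,0,0,0⟩, ⟨0,2,2,0,-2,0,-2,0⟩),
    (⟨-4,0,0,0,0,0,0,0⟩, ⟨0,0,-4,0,0,0,0,0⟩, ⟨2,0,-2,0,0,2,-2,0⟩),
    (⟨-4,0,0,0,0,0,0,0⟩, ⟨0,0,-4,0,0,0,0,0⟩, ⟨2,0,0,-2,-2,0,2,0⟩),
    (⟨-4,0,0,0,0,0,0,0⟩, ⟨0,0,-4,0,0,0,0,0⟩, ⟨2,0,2,0,2,0,0,2⟩),
    (⟨-4,0,0,0,0,0,0,0⟩, ⟨0,0,0,0,-4,0,0,0⟩, ⟨-2,0,-2,0,0,2,2,0⟩),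
    (⟨-4,0,0,0,0,0,0,0⟩, ⟨0,0,0,0,-4,0,0,0⟩, ⟨-2,0,0,-2,-2,0,-2,0⟩),
    (⟨-4,0,0,0,0,0,0,0⟩, ⟨0,0,0,0,-4,0,0,0⟩, ⟨-2,0,2,0,2,0,0,-2⟩),
    (⟨-4,0,0,0,0,0,0,0⟩, ⟨0,0,0,0,-4,0,0,0⟩, ⟨0,-2,2,0,-2,0,2,0⟩),
    (⟨-4,0,0,0,0,0,0,0⟩, ⟨0,0,0,0,-4,0,0,0⟩, ⟨0,2,-2,0,2,0,-2,0⟩),
    (⟨-4,0,0,0,0,0,0,0⟩, ⟨0,0,0,0,-4,0,0,0⟩, ⟨2,0,-2,0,-2,0,0,2⟩),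
    (⟨-4,0,0,0,0,0,0,0⟩, ⟨0,0,0,0,-4,0,0,0⟩, ⟨2,0,0,2,2,0,2,0⟩),
    (⟨-4,0,0,0,0,0,0,0⟩, ⟨0,0,0,0,-4,0,0,0⟩, ⟨2,0,2,0,0,-2,-2,0⟩),
    (⟨-4,0,0,0,0,0,0,0⟩, ⟨0,0,0,0,0,0,-4,0⟩, ⟨-2,0,-2,0,0,-2,-2,0⟩),
    (⟨-4,0,0,0,0,0,0,0⟩, ⟨0,0,0,0,0,0,-4,0⟩, ⟨-2,0,0,-2,2,0,2,0⟩),
    (⟨-4,0,0,0,0,0,0,0⟩, ⟨0,0,0,0,0,0,-4,0⟩, ⟨-2,0,2,0,-2,0,0,2⟩),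
    (⟨-4,0,0,0,0,0,0,0⟩, ⟨0,0,0,0,0,0,-4,0⟩, ⟨0,-2,2,0,2,0,-2,0⟩),
    (⟨-4,0,0,0,0,0,0,0⟩, ⟨0,0,0,0,0,0,-4,0⟩, ⟨0,2,-2,0,-2,0,2,0⟩),
    (⟨-4,0,0,0,0,0,0,0⟩, ⟨0,0,0,0,0,0,-4,0⟩, ⟨2,0,-2,0,2,0,0,-2⟩),
    (⟨-4,0,0,0,0,0,0,0⟩, ⟨0,0,0,0,0,0,-4,0⟩, ⟨2,0,0,2,-2,0,-2,0⟩),
    (⟨-4,0,0,0,0,0,0,0⟩, ⟨0,0,0,0,0,0,-4,0⟩, ⟨2,0,2,0,0,2,2,0⟩),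
    (⟨-4,0,0,0,0,0,0,0⟩, ⟨0,0,0,0,0,0,4,0⟩, ⟨-2,0,-2,0,0,-2,-2,0⟩),
    (⟨-4,0,0,0,0,0,0,0⟩, ⟨0,0,0,0,0,0,4,0⟩, ⟨-2,0,0,-2,2,0,2,0⟩),
    (⟨-4,0,0,0,0,0,0,0⟩, ⟨0,0,0,0,0,0,4,0⟩, ⟨-2,0,2,0,-2,0,0,2⟩),
    (⟨-4,0,0,0,0,0,0,0⟩, ⟨0,0,0,0,0,0,4,0⟩, ⟨0,-2,2,0,2,0,-2,0⟩),
    (⟨-4,0,0,0,0,0,0,0⟩, ⟨0,0,0,0,0,0,4,0⟩, ⟨0,2,-2,0,-2,0,2,0⟩),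
    (⟨-4,0,0,0,0,0,0,0⟩, ⟨0,0,0,0,0,0,4,0⟩, ⟨2,0,-2,0,2,0,0,-2⟩),
    (⟨-4,0,0,0,0,0,0,0⟩, ⟨0,0,0,0,0,0,4,0⟩, ⟨2,0,0,2,-2,0,-2,0⟩),
    (⟨-4,0,0,0,0,0,0,0⟩, ⟨0,0,0,0,0,0,4,0⟩, ⟨2,0,2,0,0,2,2,0⟩),
    (⟨-4,0,0,0,0,0,0,0⟩, ⟨0,0,0,0,4,0,0,0⟩, ⟨-2,0,-2,0,0,2,2,0⟩),
    (⟨-4,0,0,0,0,0,0,0⟩, ⟨0,0,0,0,4,0,0,0⟩, ⟨-2,0,0,-2,-2,0,-2,0⟩),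
    (⟨-4,0,0,0,0,0,0,0⟩, ⟨0,0,0,0,4,0,0,0⟩, ⟨-2,0,2,0,2,0,0,-2⟩),
    (⟨-4,0,0,0,0,0,0,0⟩, ⟨0,0,0,0,4,0,0,0⟩, ⟨0,-2,2,0,-2,0,2,0⟩),
    (⟨-4,0,0,0,0,0,0,0⟩, ⟨0,0,0,0,4,0,0,0⟩, ⟨0,2,-2,0,2,0,-2,0⟩),
    (⟨-4,0,0,0,0,0,0,0⟩, ⟨0,0,0,0,4,0,0,0⟩, ⟨2,0,-2,0,-2,0,0,2⟩),
    (⟨-4,0,0,0,0,0,0,0⟩, ⟨0,0,0,0,4,0,0,0⟩, ⟨2,0,0,2,2,0,2,0⟩),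
    (⟨-4,0,0,0,0,0,0,0⟩, ⟨0,0,0,0,4,0,0,0⟩, ⟨2,0,2,0,0,-2,-2,0⟩),
    (⟨-4,0,0,0,0,0,0,0⟩, ⟨0,0,4,0,0,0,0,0⟩, ⟨-2,0,-2,0,-2,0,0,-2⟩),
    (⟨-4,0,0,0,0,0,0,0⟩, ⟨0,0,4,0,0,0,0,0⟩, ⟨-2,0,0,2,2,0,-2,0⟩),
    (⟨-4,0,0,0,0,0,0,0⟩, ⟨0,0,4,0,0,0,0,0⟩, ⟨-2,0,2,0,0,-2,2,0⟩),
    (⟨-4,0,0,0,0,0,0,0⟩, ⟨0,0,4,0,0,0,0,0⟩, ⟨0,-2,-2,0,2,0,2,0⟩),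
    (⟨-4,0,0,0,0,0,0,0⟩, ⟨0,0,4,0,0,0,0,0⟩, ⟨0,2,2,0,-2,0,-2,0⟩),
    (⟨-4,0,0,0,0,0,0,0⟩, ⟨0,0,4,0,0,0,0,0⟩, ⟨2,0,-2,0,0,2,-2,0⟩),
    (⟨-4,0,0,0,0,0,0,0⟩, ⟨0,0,4,0,0,0,0,0⟩, ⟨2,0,0,-2,-2,0,2,0⟩),
    (⟨-4,0,0,0,0,0,0,0⟩, ⟨0,0,4,0,0,0,0,0⟩, ⟨2,0,2,0,2,0,0,2⟩),
    (⟨-4,0,0,0,0,0,0,0⟩, ⟨0,2,-2,0,-2,0,2,0⟩, ⟨0,0,0,0,0,0,-4,0⟩),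
    (⟨-4,0,0,0,0,0,0,0⟩, ⟨0,2,-2,0,-2,0,2,0⟩, ⟨0,0,0,0,0,0,4,0⟩),
    (⟨-4,0,0,0,0,0,0,0⟩, ⟨0,2,-2,0,2,0,-2,0⟩, ⟨0,0,0,0,-4,0,0,0⟩),
    (⟨-4,0,0,0,0,0,0,0⟩, ⟨0,2,-2,0,2,0,-2,0⟩, ⟨0,0,0,0,4,0,0,0⟩)]

/-- part of `lineRep` -/
def lineRepPart3 : List IV :=
  [(⟨-4,0,0,0,0,0,0,0⟩, ⟨0,2,2,0,-2,0,-2,0⟩, ⟨0,0,-4,0,0,0,0,0⟩),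
    (⟨-4,0,0,0,0,0,0,0⟩, ⟨0,2,2,0,-2,0,-2,0⟩, ⟨0,0,4,0,0,0,0,0⟩),
    (⟨-4,0,0,0,0,0,0,0⟩, ⟨0,2,2,0,2,0,2,0⟩, ⟨-4,0,0,0,0,0,0,0⟩),
    (⟨-4,0,0,0,0,0,0,0⟩, ⟨0,2,2,0,2,0,2,0⟩, ⟨4,0,0,0,0,0,0,0⟩),
    (⟨-4,0,0,0,0,0,0,0⟩, ⟨1,-1,-1,1,-1,1,1,-1⟩, ⟨-1,-1,-1,-1,1,1,-1,-1⟩),
    (⟨-4,0,0,0,0,0,0,0⟩, ⟨1,-1,-1,1,-1,1,1,-1⟩, ⟨1,1,1,1,-1,-1,1,1⟩),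
    (⟨-4,0,0,0,0,0,0,0⟩, ⟨1,-1,-1,1,1,-1,-1,1⟩, ⟨-1,-1,1,1,-1,-1,-1,-1⟩),
    (⟨-4,0,0,0,0,0,0,0⟩, ⟨1,-1,-1,1,1,-1,-1,1⟩, ⟨1,1,-1,-1,1,1,1,1⟩),
    (⟨-4,0,0,0,0,0,0,0⟩, ⟨1,-1,1,-1,-1,1,-1,1⟩, ⟨-1,-1,-1,-1,-1,-1,1,1⟩),
    (⟨-4,0,0,0,0,0,0,0⟩, ⟨1,-1,1,-1,-1,1,-1,1⟩, ⟨1,1,1,1,1,1,-1,-1⟩),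
    (⟨-4,0,0,0,0,0,0,0⟩, ⟨1,-1,1,-1,1,-1,1,-1⟩, ⟨-1,-1,1,1,1,1,1,1⟩),
    (⟨-4,0,0,0,0,0,0,0⟩, ⟨1,-1,1,-1,1,-1,1,-1⟩, ⟨1,1,-1,-1,-1,-1,-1,-1⟩),
    (⟨-4,0,0,0,0,0,0,0⟩, ⟨1,1,-1,-1,-1,-1,-1,-1⟩, ⟨-1,1,-1,1,-1,1,-1,1⟩),
    (⟨-4,0,0,0,0,0,0,0⟩, ⟨1,1,-1,-1,-1,-1,-1,-1⟩, ⟨1,-1,1,-1,1,-1,1,-1⟩),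
    (⟨-4,0,0,0,0,0,0,0⟩, ⟨1,1,-1,-1,1,1,1,1⟩, ⟨-1,1,1,-1,-1,1,1,-1⟩),
    (⟨-4,0,0,0,0,0,0,0⟩, ⟨1,1,-1,-1,1,1,1,1⟩, ⟨1,-1,-1,1,1,-1,-1,1⟩),
    (⟨-4,0,0,0,0,0,0,0⟩, ⟨1,1,1,1,-1,-1,1,1⟩, ⟨-1,1,1,-1,1,-1,-1,1⟩),
    (⟨-4,0,0,0,0,0,0,0⟩, ⟨1,1,1,1,-1,-1,1,1⟩, ⟨1,-1,-1,1,-1,1,1,-1⟩),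
    (⟨-4,0,0,0,0,0,0,0⟩, ⟨1,1,1,1,1,1,-1,-1⟩, ⟨-1,1,-1,1,1,-1,1,-1⟩),
    (⟨-4,0,0,0,0,0,0,0⟩, ⟨1,1,1,1,1,1,-1,-1⟩, ⟨1,-1,1,-1,-1,1,-1,1⟩),
    (⟨-4,0,0,0,0,0,0,0⟩, ⟨2,0,-2,0,-2,0,0,2⟩, ⟨0,0,0,0,-4,0,0,0⟩),
    (⟨-4,0,0,0,0,0,0,0⟩, ⟨2,0,-2,0,-2,0,0,2⟩, ⟨0,0,0,0,4,0,0,0⟩),
    (⟨-4,0,0,0,0,0,0,0⟩, ⟨2,0,-2,0,0,-2,2,0⟩, ⟨-4,0,0,0,0,0,0,0⟩),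
    (⟨-4,0,0,0,0,0,0,0⟩, ⟨2,0,-2,0,0,-2,2,0⟩, ⟨4,0,0,0,0,0,0,0⟩),
    (⟨-4,0,0,0,0,0,0,0⟩, ⟨2,0,-2,0,0,2,-2,0⟩, ⟨0,0,-4,0,0,0,0,0⟩),
    (⟨-4,0,0,0,0,0,0,0⟩, ⟨2,0,-2,0,0,2,-2,0⟩, ⟨0,0,4,0,0,0,0,0⟩),
    (⟨-4,0,0,0,0,0,0,0⟩, ⟨2,0,-2,0,2,0,0,-2⟩, ⟨0,0,0,0,0,0,-4,0⟩),
    (⟨-4,0,0,0,0,0,0,0⟩, ⟨2,0,-2,0,2,0,0,-2⟩, ⟨0,0,0,0,0,0,4,0⟩),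
    (⟨-4,0,0,0,0,0,0,0⟩, ⟨2,0,0,-2,-2,0,2,0⟩, ⟨0,0,-4,0,0,0,0,0⟩),
    (⟨-4,0,0,0,0,0,0,0⟩, ⟨2,0,0,-2,-2,0,2,0⟩, ⟨0,0,4,0,0,0,0,0⟩),
    (⟨-4,0,0,0,0,0,0,0⟩, ⟨2,0,0,-2,2,0,-2,0⟩, ⟨-4,0,0,0,0,0,0,0⟩),
    (⟨-4,0,0,0,0,0,0,0⟩, ⟨2,0,0,-2,2,0,-2,0⟩, ⟨4,0,0,0,0,0,0,0⟩),
    (⟨-4,0,0,0,0,0,0,0⟩, ⟨2,0,0,2,-2,0,-2,0⟩, ⟨0,0,0,0,0,0,-4,0⟩),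
    (⟨-4,0,0,0,0,0,0,0⟩, ⟨2,0,0,2,-2,0,-2,0⟩, ⟨0,0,0,0,0,0,4,0⟩),
    (⟨-4,0,0,0,0,0,0,0⟩, ⟨2,0,0,2,2,0,2,0⟩, ⟨0,0,0,0,-4,0,0,0⟩),
    (⟨-4,0,0,0,0,0,0,0⟩, ⟨2,0,0,2,2,0,2,0⟩, ⟨0,0,0,0,4,0,0,0⟩),
    (⟨-4,0,0,0,0,0,0,0⟩, ⟨2,0,2,0,-2,0,0,-2⟩, ⟨-4,0,0,0,0,0,0,0⟩),
    (⟨-4,0,0,0,0,0,0,0⟩, ⟨2,0,2,0,-2,0,0,-2⟩, ⟨4,0,0,0,0,0,0,0⟩),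
    (⟨-4,0,0,0,0,0,0,0⟩, ⟨2,0,2,0,0,-2,-2,0⟩, ⟨0,0,0,0,-4,0,0,0⟩),
    (⟨-4,0,0,0,0,0,0,0⟩, ⟨2,0,2,0,0,-2,-2,0⟩, ⟨0,0,0,0,4,0,0,0⟩),
    (⟨-4,0,0,0,0,0,0,0⟩, ⟨2,0,2,0,0,2,2,0⟩, ⟨0,0,0,0,0,0,-4,0⟩),
    (⟨-4,0,0,0,0,0,0,0⟩, ⟨2,0,2,0,0,2,2,0⟩, ⟨0,0,0,0,0,0,4,0⟩),
    (⟨-4,0,0,0,0,0,0,0⟩, ⟨2,0,2,0,2,0,0,2⟩, ⟨0,0,-4,0,0,0,0,0⟩),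
    (⟨-4,0,0,0,0,0,0,0⟩, ⟨2,0,2,0,2,0,0,2⟩, ⟨0,0,4,0,0,0,0,0⟩),
    (⟨-4,0,0,0,0,0,0,0⟩, ⟨4,0,0,0,0,0,0,0⟩, ⟨-2,0,-2,0,2,0,0,2⟩),
    (⟨-4,0,0,0,0,0,0,0⟩, ⟨4,0,0,0,0,0,0,0⟩, ⟨-2,0,0,2,-2,0,2,0⟩),
    (⟨-4,0,0,0,0,0,0,0⟩, ⟨4,0,0,0,0,0,0,0⟩, ⟨-2,0,2,0,0,2,-2,0⟩),
    (⟨-4,0,0,0,0,0,0,0⟩, ⟨4,0,0,0,0,0,0,0⟩, ⟨0,-2,-2,0,-2,0,-2,0⟩),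
    (⟨-4,0,0,0,0,0,0,0⟩, ⟨4,0,0,0,0,0,0,0⟩, ⟨0,2,2,0,2,0,2,0⟩),
    (⟨-4,0,0,0,0,0,0,0⟩, ⟨4,0,0,0,0,0,0,0⟩, ⟨2,0,-2,0,0,-2,2,0⟩),
    (⟨-4,0,0,0,0,0,0,0⟩, ⟨4,0,0,0,0,0,0,0⟩, ⟨2,0,0,-2,2,0,-2,0⟩),
    (⟨-4,0,0,0,0,0,0,0⟩, ⟨4,0,0,0,0,0,0,0⟩, ⟨2,0,2,0,-2,0,0,-2⟩),
    (⟨-3,-1,-2,0,-1,-1,0,0⟩, ⟨-3,1,0,0,1,-1,-2,0⟩, ⟨-1,1,-2,0,1,1,0,0⟩),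
    (⟨-3,-1,-2,0,-1,-1,0,0⟩, ⟨-3,1,0,0,1,-1,-2,0⟩, ⟨1,-1,2,0,-1,-1,0,0⟩),
    (⟨-3,-1,-2,0,-1,-1,0,0⟩, ⟨-2,0,-1,1,0,0,3,-1⟩, ⟨0,0,-1,-1,-2,0,1,-1⟩),
    (⟨-3,-1,-2,0,-1,-1,0,0⟩, ⟨-2,0,-1,1,0,0,3,-1⟩, ⟨0,0,1,1,2,0,-1,1⟩),
    (⟨-3,-1,-2,0,-1,-1,0,0⟩, ⟨-2,0,1,-1,0,0,1,1⟩, ⟨0,0,-3,1,-2,0,-1,1⟩),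
    (⟨-3,-1,-2,0,-1,-1,0,0⟩, ⟨-2,0,1,-1,0,0,1,1⟩, ⟨0,0,3,-1,2,0,1,-1⟩),
    (⟨-3,-1,-2,0,-1,-1,0,0⟩, ⟨-1,-1,0,0,-1,1,-2,0⟩, ⟨-1,1,2,0,-3,1,0,0⟩),
    (⟨-3,-1,-2,0,-1,-1,0,0⟩, ⟨-1,-1,0,0,-1,1,-2,0⟩, ⟨1,-1,-2,0,3,-1,0,0⟩),
    (⟨-3,-1,-2,0,-1,-1,0,0⟩, ⟨-1,1,-2,0,1,1,0,0⟩, ⟨-3,1,0,0,1,-1,-2,0⟩),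
    (⟨-3,-1,-2,0,-1,-1,0,0⟩, ⟨-1,1,-2,0,1,1,0,0⟩, ⟨3,-1,0,0,-1,1,2,0⟩),
    (⟨-3,-1,-2,0,-1,-1,0,0⟩, ⟨-1,1,2,0,-3,1,0,0⟩, ⟨-1,-1,0,0,-1,1,-2,0⟩)]

/-- part of `lineRep` -/
def lineRepPart4 : List IV :=
  [(⟨-3,-1,-2,0,-1,-1,0,0⟩, ⟨-1,1,2,0,-3,1,0,0⟩, ⟨1,1,0,0,1,-1,2,0⟩),
    (⟨-3,-1,-2,0,-1,-1,0,0⟩, ⟨0,0,-3,1,-2,0,-1,1⟩, ⟨-2,0,1,-1,0,0,1,1⟩),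
    (⟨-3,-1,-2,0,-1,-1,0,0⟩, ⟨0,0,-3,1,-2,0,-1,1⟩, ⟨2,0,-1,1,0,0,-1,-1⟩),
    (⟨-3,-1,-2,0,-1,-1,0,0⟩, ⟨0,0,-1,-1,-2,0,1,-1⟩, ⟨-2,0,-1,1,0,0,3,-1⟩),
    (⟨-3,-1,-2,0,-1,-1,0,0⟩, ⟨0,0,-1,-1,-2,0,1,-1⟩, ⟨2,0,1,-1,0,0,-3,1⟩),
    (⟨-3,-1,-2,0,-1,-1,0,0⟩, ⟨0,0,1,1,2,0,-1,1⟩, ⟨-2,0,-1,1,0,0,3,-1⟩),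
    (⟨-3,-1,-2,0,-1,-1,0,0⟩, ⟨0,0,1,1,2,0,-1,1⟩, ⟨2,0,1,-1,0,0,-3,1⟩),
    (⟨-3,-1,-2,0,-1,-1,0,0⟩, ⟨0,0,3,-1,2,0,1,-1⟩, ⟨-2,0,1,-1,0,0,1,1⟩),
    (⟨-3,-1,-2,0,-1,-1,0,0⟩, ⟨0,0,3,-1,2,0,1,-1⟩, ⟨2,0,-1,1,0,0,-1,-1⟩),
    (⟨-3,-1,-2,0,-1,-1,0,0⟩, ⟨1,-1,-2,0,3,-1,0,0⟩, ⟨-1,-1,0,0,-1,1,-2,0⟩),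
    (⟨-3,-1,-2,0,-1,-1,0,0⟩, ⟨1,-1,-2,0,3,-1,0,0⟩, ⟨1,1,0,0,1,-1,2,0⟩),
    (⟨-3,-1,-2,0,-1,-1,0,0⟩, ⟨1,-1,2,0,-1,-1,0,0⟩, ⟨-3,1,0,0,1,-1,-2,0⟩),
    (⟨-3,-1,-2,0,-1,-1,0,0⟩, ⟨1,-1,2,0,-1,-1,0,0⟩, ⟨3,-1,0,0,-1,1,2,0⟩),
    (⟨-3,-1,-2,0,-1,-1,0,0⟩, ⟨1,1,0,0,1,-1,2,0⟩, ⟨-1,1,2,0,-3,1,0,0⟩),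
    (⟨-3,-1,-2,0,-1,-1,0,0⟩, ⟨1,1,0,0,1,-1,2,0⟩, ⟨1,-1,-2,0,3,-1,0,0⟩),
    (⟨-3,-1,-2,0,-1,-1,0,0⟩, ⟨2,0,-1,1,0,0,-1,-1⟩, ⟨0,0,-3,1,-2,0,-1,1⟩),
    (⟨-3,-1,-2,0,-1,-1,0,0⟩, ⟨2,0,-1,1,0,0,-1,-1⟩, ⟨0,0,3,-1,2,0,1,-1⟩),
    (⟨-3,-1,-2,0,-1,-1,0,0⟩, ⟨2,0,1,-1,0,0,-3,1⟩, ⟨0,0,-1,-1,-2,0,1,-1⟩),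
    (⟨-3,-1,-2,0,-1,-1,0,0⟩, ⟨2,0,1,-1,0,0,-3,1⟩, ⟨0,0,1,1,2,0,-1,1⟩),
    (⟨-3,-1,-2,0,-1,-1,0,0⟩, ⟨3,-1,0,0,-1,1,2,0⟩, ⟨-1,1,-2,0,1,1,0,0⟩),
    (⟨-3,-1,-2,0,-1,-1,0,0⟩, ⟨3,-1,0,0,-1,1,2,0⟩, ⟨1,-1,2,0,-1,-1,0,0⟩),
    (⟨-3,1,-2,0,0,0,-1,1⟩, ⟨-3,-1,0,0,2,0,1,1⟩, ⟨0,0,-1,1,-1,-1,-2,0⟩),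
    (⟨-3,1,-2,0,0,0,-1,1⟩, ⟨-3,-1,0,0,2,0,1,1⟩, ⟨0,0,1,-1,1,1,2,0⟩),
    (⟨-3,1,-2,0,0,0,-1,1⟩, ⟨-2,0,-1,-1,-3,-1,0,0⟩, ⟨-1,-1,-2,0,0,0,1,-1⟩),
    (⟨-3,1,-2,0,0,0,-1,1⟩, ⟨-2,0,-1,-1,-3,-1,0,0⟩, ⟨1,1,2,0,0,0,-1,1⟩),
    (⟨-3,1,-2,0,0,0,-1,1⟩, ⟨-2,0,1,1,-1,1,0,0⟩, ⟨-1,-1,2,0,0,0,-3,-1⟩),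
    (⟨-3,1,-2,0,0,0,-1,1⟩, ⟨-2,0,1,1,-1,1,0,0⟩, ⟨1,1,-2,0,0,0,3,1⟩),
    (⟨-3,1,-2,0,0,0,-1,1⟩, ⟨-1,-1,-2,0,0,0,1,-1⟩, ⟨-2,0,-1,-1,-3,-1,0,0⟩),
    (⟨-3,1,-2,0,0,0,-1,1⟩, ⟨-1,-1,-2,0,0,0,1,-1⟩, ⟨2,0,1,1,3,1,0,0⟩),
    (⟨-3,1,-2,0,0,0,-1,1⟩, ⟨-1,-1,2,0,0,0,-3,-1⟩, ⟨-2,0,1,1,-1,1,0,0⟩),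
    (⟨-3,1,-2,0,0,0,-1,1⟩, ⟨-1,-1,2,0,0,0,-3,-1⟩, ⟨2,0,-1,-1,1,-1,0,0⟩),
    (⟨-3,1,-2,0,0,0,-1,1⟩, ⟨-1,1,0,0,2,0,-1,-1⟩, ⟨0,0,-3,-1,1,1,-2,0⟩),
    (⟨-3,1,-2,0,0,0,-1,1⟩, ⟨-1,1,0,0,2,0,-1,-1⟩, ⟨0,0,3,1,-1,-1,2,0⟩),
    (⟨-3,1,-2,0,0,0,-1,1⟩, ⟨0,0,-3,-1,1,1,-2,0⟩, ⟨-1,1,0,0,2,0,-1,-1⟩),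
    (⟨-3,1,-2,0,0,0,-1,1⟩, ⟨0,0,-3,-1,1,1,-2,0⟩, ⟨1,-1,0,0,-2,0,1,1⟩),
    (⟨-3,1,-2,0,0,0,-1,1⟩, ⟨0,0,-1,1,-1,-1,-2,0⟩, ⟨-3,-1,0,0,2,0,1,1⟩),
    (⟨-3,1,-2,0,0,0,-1,1⟩, ⟨0,0,-1,1,-1,-1,-2,0⟩, ⟨3,1,0,0,-2,0,-1,-1⟩),
    (⟨-3,1,-2,0,0,0,-1,1⟩, ⟨0,0,1,-1,1,1,2,0⟩, ⟨-3,-1,0,0,2,0,1,1⟩),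
    (⟨-3,1,-2,0,0,0,-1,1⟩, ⟨0,0,1,-1,1,1,2,0⟩, ⟨3,1,0,0,-2,0,-1,-1⟩),
    (⟨-3,1,-2,0,0,0,-1,1⟩, ⟨0,0,3,1,-1,-1,2,0⟩, ⟨-1,1,0,0,2,0,-1,-1⟩),
    (⟨-3,1,-2,0,0,0,-1,1⟩, ⟨0,0,3,1,-1,-1,2,0⟩, ⟨1,-1,0,0,-2,0,1,1⟩),
    (⟨-3,1,-2,0,0,0,-1,1⟩, ⟨1,-1,0,0,-2,0,1,1⟩, ⟨0,0,-3,-1,1,1,-2,0⟩),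
    (⟨-3,1,-2,0,0,0,-1,1⟩, ⟨1,-1,0,0,-2,0,1,1⟩, ⟨0,0,3,1,-1,-1,2,0⟩),
    (⟨-3,1,-2,0,0,0,-1,1⟩, ⟨1,1,-2,0,0,0,3,1⟩, ⟨-2,0,1,1,-1,1,0,0⟩),
    (⟨-3,1,-2,0,0,0,-1,1⟩, ⟨1,1,-2,0,0,0,3,1⟩, ⟨2,0,-1,-1,1,-1,0,0⟩),
    (⟨-3,1,-2,0,0,0,-1,1⟩, ⟨1,1,2,0,0,0,-1,1⟩, ⟨-2,0,-1,-1,-3,-1,0,0⟩),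
    (⟨-3,1,-2,0,0,0,-1,1⟩, ⟨1,1,2,0,0,0,-1,1⟩, ⟨2,0,1,1,3,1,0,0⟩),
    (⟨-3,1,-2,0,0,0,-1,1⟩, ⟨2,0,-1,-1,1,-1,0,0⟩, ⟨-1,-1,2,0,0,0,-3,-1⟩),
    (⟨-3,1,-2,0,0,0,-1,1⟩, ⟨2,0,-1,-1,1,-1,0,0⟩, ⟨1,1,-2,0,0,0,3,1⟩),
    (⟨-3,1,-2,0,0,0,-1,1⟩, ⟨2,0,1,1,3,1,0,0⟩, ⟨-1,-1,-2,0,0,0,1,-1⟩),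
    (⟨-3,1,-2,0,0,0,-1,1⟩, ⟨2,0,1,1,3,1,0,0⟩, ⟨1,1,2,0,0,0,-1,1⟩),
    (⟨-3,1,-2,0,0,0,-1,1⟩, ⟨3,1,0,0,-2,0,-1,-1⟩, ⟨0,0,-1,1,-1,-1,-2,0⟩),
    (⟨-3,1,-2,0,0,0,-1,1⟩, ⟨3,1,0,0,-2,0,-1,-1⟩, ⟨0,0,1,-1,1,1,2,0⟩),
    (⟨0,0,0,0,0,0,0,0⟩, ⟨8,0,0,0,0,0,0,0⟩, ⟨0,0,0,0,0,0,0,0⟩),
    (⟨0,0,0,0,0,0,0,0⟩, ⟨-4,0,-4,0,0,0,0,0⟩, ⟨-4,0,-4,0,0,0,0,0⟩),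
    (⟨0,0,0,0,0,0,0,0⟩, ⟨-4,0,-4,0,0,0,0,0⟩, ⟨-4,0,4,0,0,0,0,0⟩),
    (⟨0,0,0,0,0,0,0,0⟩, ⟨-4,0,-4,0,0,0,0,0⟩, ⟨0,0,0,0,-4,0,-4,0⟩),
    (⟨0,0,0,0,0,0,0,0⟩, ⟨-4,0,-4,0,0,0,0,0⟩, ⟨0,0,0,0,-4,0,4,0⟩),
    (⟨0,0,0,0,0,0,0,0⟩, ⟨-4,0,-4,0,0,0,0,0⟩, ⟨0,0,0,0,4,0,-4,0⟩),
    (⟨0,0,0,0,0,0,0,0⟩, ⟨-4,0,-4,0,0,0,0,0⟩, ⟨0,0,0,0,4,0,4,0⟩),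
    (⟨0,0,0,0,0,0,0,0⟩, ⟨-4,0,-4,0,0,0,0,0⟩, ⟨4,0,-4,0,0,0,0,0⟩),
    (⟨0,0,0,0,0,0,0,0⟩, ⟨-4,0,-4,0,0,0,0,0⟩, ⟨4,0,4,0,0,0,0,0⟩),
    (⟨0,0,0,0,0,0,0,0⟩, ⟨0,0,0,0,0,0,0,0⟩, ⟨8,0,0,0,0,0,0,0⟩)]

/-- the representatives -/
def lineRep : List IV :=
  lineRepPart0 ++ lineRepPart1 ++ lineRepPart2 ++ lineRepPart3 ++ lineRepPart4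

/-- unit and line of each vector found by the search -/
def foundW : List (ℕ × ℕ) :=
  [(0, 245), (0, 246), (0, 247), (0, 248), (0, 249), (0, 250), (0, 255), (0, 256), (0, 257), (0, 258), (0, 263), (0, 264), (0, 265), (0, 266), (0, 267), (0, 268), (0, 241), (0, 242), (0, 243), (0, 244), (0, 251), (0, 252), (0, 253), (0, 254), (0, 259), (0, 260), (0, 261), (0, 262), (0, 269), (0, 270), (0, 271), (0, 272), (0, 277), (0, 278), (0, 279), (0, 280), (0, 283), (0, 284), (0, 287), (0, 288), (0, 289), (0, 290), (0, 293), (0, 294), (0, 297), (0, 298), (0, 299), (0,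 300), (0, 273), (0, 274), (0, 275), (0, 276), (0, 281), (0, 282), (0, 285), (0, 286), (0, 291), (0, 292), (0, 295), (0, 296), (0, 301), (0, 302), (0, 303), (0, 304), (0, 5), (0, 6), (0, 7), (0, 8), (0, 9), (0, 10), (0, 11), (0, 12), (0, 1), (0, 2), (0, 3), (0, 4), (0, 13), (0, 14), (0, 15), (0, 16), (0, 17), (0, 18), (0, 19), (0, 20), (0, 21), (0, 22), (0, 23), (0, 24), (0, 25), (0, 26), (0, 27), (0, 28), (0, 29), (0, 30), (0, 31), (0, 32), (0, 33), (0, 34), (0, 35), (0, 36), (0, 37), (0, 38), (0, 39), (0, 40), (0, 41), (0, 42), (0, 43), (0, 44), (0, 45),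 (0, 46), (0, 47), (0, 48), (0, 49), (0, 50), (0, 51), (0, 52), (0, 53), (0, 54), (0, 55), (0, 56), (0, 57), (0, 58), (0, 59), (0, 60), (0, 61), (0, 62), (0, 63), (0, 64), (0, 65), (0, 66), (0, 67), (0, 68), (0, 69), (0, 70), (0, 71), (0, 72), (0, 73), (0, 74), (0, 75), (0, 76), (0, 77), (0, 78), (0, 79), (0, 80)]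

end Cfsg.Agent.Janko2
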