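import Cfsg.Agent.Janko2.OutTables
import Cfsg.Prelude.Def_KGroupFacts

/-!
The automorphism group of the Hall–Janko group: inner automorphisms have index 2.
-/

set_option autoImplicit false

namespace Cfsg.Agent.Janko2.OutAut

open Cfsg.Spor

/-- an element of the group from a word -/
noncomputable def kW (w : List ℕ) : ↥K := ⟨elW w, elW_mem w⟩

/-- the involution of a line, in the group -/
noncomputable def tK (x : Fin 315) : ↥K := ⟨tp x, tp_mem x⟩

theorem kW_nil : kW [] = 1 := rfl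

theorem kW_append (v w : List ℕ) : kW (v ++ w) = kW v * kW w := Subtype.ext (elW_append v w)

theorem kW_eq {v w : List ℕ} (hv : goodW v = true) (hw : goodW w = true) (h : same v w = true) :
    kW v = kW w := Subtype.ext (elW_eq_of_same hv hw h)

theorem tK_eq (x : Fin 315) : tK x = kW (lineWord x.val) := Subtype.ext (tp_eq x)

theorem tK_conj (g : ↥K) (x : Fin 315) : g * tK x * g⁻¹ = tK (g.1 x) :=
  Subtype.ext (tp_conj g.2 x)

theorem tK_injective : Function.Injective tK :=
  fun _ _ h => tp_injective (congrArg Subtype.val h)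

/-- evaluation of a word of two letters -/
def ev2 {G : Type*} [Monoid G] (a z : G) (r : List Bool) : G :=
  (r.map fun b => if b then z else a).prod

theorem map_ev2 {G H : Type*} [Monoid G] [Monoid H] (f : G →* H) (a z : G) :
    ∀ r : List Bool, f (ev2 a z r) = ev2 (f a) (f z) r
  | [] => map_one f
  | b :: r => by
    have ih := map_ev2 f a z r
    simp only [ev2, List.map_cons, List.prod_cons, map_mul] at ih ⊢
    rw [ih]
    cases b <;> rfl

theorem kW_subW (a z : List ℕ) : ∀ r : List Bool, kW (subW a z r) = ev2 (kW a) (kW z) r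
  | [] => kW_nil
  | b :: r => by
    have ih := kW_subW a z r
    simp only [subW, ev2, List.flatMap_cons, List.map_cons, List.prod_cons] at ih ⊢
    rw [kW_append, ih]
    cases b <;> rfl

/-- the element of order 7 -/
noncomputable def sev : ↥K := kW sevenWord

theorem kW_powW : ∀ i, kW (powW i) = sev ^ i
  | 0 => rfl
  | i + 1 => by
    rw [pow_succ', ← kW_powW i, sev, ← kW_append]
    rfl

theorem sev_order : orderOf sev = 7 := by
  haveI : Fact (Nat.Prime 7) := ⟨by norm_num⟩
  obtain ⟨hg, h7, hne, hp⟩ := seven_table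
  have hg7 := List.all_eq_true.1 hp 7 (List.mem_range.2 (by norm_num))
  refine orderOf_eq_prime ?_ ?_
  · rw [← kW_powW, kW_eq hg7 rfl h7, kW_nil]
  · intro h
    rw [same_of_elW_eq hg rfl ((congrArg Subtype.val h).trans elW_nil.symm)] at hne
    exact Bool.noConfusion hne

theorem exists_conj_pow {i : ℕ} (hi : ¬ 7 ∣ i) : ∃ h : ↥K, h * sev ^ i * h⁻¹ = sev := by
  rw [pow_mod_orderOf sev i |>.symm, sev_order]
  have h0 : i % 7 ≠ 0 := fun h => hi (Nat.dvd_of_mod_eq_zero h)
  obtain ⟨j, hj⟩ : ∃ j : Fin 6, i % 7 = j.val + 1 := ⟨⟨i % 7 - 1, by omega⟩, by simp only; omega⟩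
  obtain ⟨hg, hs⟩ := norm_table j
  have hp := List.all_eq_true.1 seven_table.2.2.2 (j.val + 1) (List.mem_range.2 (by omega))
  have h := kW_eq (goodW_append hg hp) (goodW_append seven_table.1 hg) hs
  rw [kW_append, kW_append, kW_powW] at h
  refine ⟨kW (normWords.getD j.val []), ?_⟩
  rw [hj, h]
  exact mul_inv_cancel_right _ _

/-- every element of order 7 is conjugate to the chosen one -/
theorem exists_conj_seven {y : ↥K} (hy : orderOf y = 7) : ∃ g : ↥K, g * y * g⁻¹ = sev := by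
  haveI : Fact (Nat.Prime 7) := ⟨by norm_num⟩
  have hf : (Nat.card ↥K).factorization 7 = 1 := by
    rw [card_K, show (604800 : ℕ) = 7 * 86400 by norm_num,
      Nat.factorization_mul (by norm_num) (by norm_num), Finsupp.add_apply,
      (by norm_num : Nat.Prime 7).factorization_self,
      Nat.factorization_eq_zero_of_not_dvd (by norm_num : ¬ 7 ∣ 86400)]
  have hc : ∀ u : ↥K, orderOf u = 7 →
      Nat.card (Subgroup.zpowers u) = 7 ^ (Nat.card ↥K).factorization 7 := fun u hu => by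
    rw [Nat.card_zpowers, hu, hf, pow_one]
  obtain ⟨g, hg⟩ := MulAction.exists_smul_eq ↥K (Sylow.ofCard _ (hc y hy))
    (Sylow.ofCard _ (hc sev sev_order))
  have hm : g * y * g⁻¹ ∈ Subgroup.zpowers sev := by
    have e : ((g • Sylow.ofCard _ (hc y hy) : Sylow 7 ↥K) : Subgroup ↥K) = Subgroup.zpowers sev := by
      rw [hg]; rfl
    rw [← e, Sylow.coe_subgroup_smul]
    exact ⟨y, Subgroup.mem_zpowers y, rfl⟩
  obtain ⟨i, hi⟩ := (mem_powers_iff_mem_zpowers.2 hm : g * y * g⁻¹ ∈ Submonoid.powers sev)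
  have hi7 : ¬ 7 ∣ i := by
    intro hd
    have h1 : g * y * g⁻¹ = 1 := by
      rw [← hi]
      exact orderOf_dvd_iff_pow_eq_one.1 (sev_order ▸ hd)
    rw [conj_eq_one_iff] at h1
    rw [h1, orderOf_one] at hy
    norm_num at hy
  obtain ⟨h, hh⟩ := exists_conj_pow hi7
  refine ⟨h * g, ?_⟩
  rw [← hh, ← (show g * y * g⁻¹ = sev ^ i from hi.symm)]
  group

theorem tK_zero_facts : tK 0 * tK 0 = 1 ∧ tK 0 ≠ 1 ∧ kW rootFour * kW rootFour = tK 0 := by
  obtain ⟨hr, hs, hne, h1⟩ := root_table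
  have e : tK 0 = kW axisWord := Subtype.ext tp_zero
  refine ⟨Subtype.ext (tp_mul_self 0), ?_, ?_⟩
  · intro h
    rw [e] at h
    rw [same_of_elW_eq axis_table.1 rfl ((congrArg Subtype.val h).trans elW_nil.symm)] at hne
    exact Bool.noConfusion hne
  · rw [e, ← kW_append, kW_eq (goodW_append hr hr) axis_table.1 hs]

/-- a non-trivial square of an element of order 4 is the involution of a line -/
theorem square_eq_tK {y : ↥K} (h4 : y * y * (y * y) = 1) (h2 : y * y ≠ 1) :
    ∃ x, y * y = tK x := by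
  haveI : Fact (Nat.Prime 2) := ⟨Nat.prime_two⟩
  have hpow : y.1 ^ 2 ^ 2 = 1 := by
    have e := congrArg Subtype.val h4
    simp only [Subgroup.coe_mul, Subgroup.coe_one] at e
    rw [← e, show (2 : ℕ) ^ 2 = 2 + 2 by norm_num, pow_add, pow_two]
  obtain ⟨p, hp⟩ := Equiv.Perm.exists_fixed_point_of_prime (p := 2) (n := 2)
    (by rw [Fintype.card_fin]; norm_num) hpow
  obtain ⟨g, hg, rfl⟩ := K_transitive p
  set G : ↥K := ⟨g, hg⟩
  obtain ⟨w, hw, hgw, ew⟩ := exists_word_stab (G⁻¹ * y * G).2 (by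
    show (g⁻¹ * y.1 * g) 0 = 0
    rw [Equiv.Perm.mul_apply, Equiv.Perm.mul_apply, hp]
    exact g.symm_apply_apply 0)
  have eW : G⁻¹ * y * G = kW w := Subtype.ext ew
  have hsq : kW (w ++ w) = G⁻¹ * (y * y) * G := by rw [kW_append, ← eW]; group
  have h := List.all_eq_true.1 square_table w hw
  simp only [Bool.and_eq_true, Bool.or_eq_true, Bool.not_eq_true', List.any_eq_true] at h
  rcases h.2 with h1 | h1 | ⟨x, -, hx, h1⟩
  · exfalso
    apply h2
    have e := kW_eq (goodW_append hgw hgw) rfl h1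
    rw [hsq, kW_nil] at e
    calc y * y = G * (G⁻¹ * (y * y) * G) * G⁻¹ := by group
      _ = 1 := by rw [e]; group
  · exfalso
    have e : kW ((w ++ w) ++ (w ++ w)) = 1 := by
      rw [kW_append, hsq]
      calc G⁻¹ * (y * y) * G * (G⁻¹ * (y * y) * G) = G⁻¹ * (y * y * (y * y)) * G := by group
        _ = 1 := by rw [h4]; group
    have hgg := goodW_append hgw hgw
    rw [same_of_elW_eq (goodW_append hgg hgg) rfl
      ((congrArg Subtype.val e).trans elW_nil.symm)] at h1
    exact Bool.noConfusion h1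
  · have hx' : x < 315 := Nat.blt_eq.mp hx
    have e := kW_eq (goodW_append hgw hgw) (line_table ⟨x, hx'⟩).2.1 h1
    rw [hsq, ← tK_eq ⟨x, hx'⟩] at e
    refine ⟨g ⟨x, hx'⟩, ?_⟩
    rw [← tK_conj G, ← e]
    group

theorem aut_tK (φ : MulAut ↥K) (x : Fin 315) : ∃ x', φ (tK x) = tK x' := by
  obtain ⟨h0, hne, hr⟩ := tK_zero_facts
  obtain ⟨x1, e1⟩ := square_eq_tK (y := φ (kW rootFour))
    (by rw [← map_mul, hr, ← map_mul, h0, map_one])
    (by rw [← map_mul, hr]; exact (φ.map_eq_one_iff).not.2 hne)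
  rw [← map_mul, hr] at e1
  obtain ⟨g, hg, rfl⟩ := K_transitive x
  refine ⟨(φ ⟨g, hg⟩).1 x1, ?_⟩
  rw [← tK_conj (φ ⟨g, hg⟩), ← e1, ← tK_conj ⟨g, hg⟩ 0, map_mul, map_mul, map_inv]

theorem el_mem_gen (k : Fin 4) : (⟨el k.val, el_mem k.val⟩ : ↥K) =
    ev2 sev (tK 76) (genWords.getD k.val []) := by
  obtain ⟨hg, hs, -⟩ := gen_words_table k
  have hk : goodW [k.val] = true := goodW_iff.2 fun j hj => by
    rw [List.mem_singleton] at hj; omega
  rw [tK_eq, sev, show ((76 : Fin 315) : ℕ) = 76 from rfl, ← kW_subW, kW_eq hg hk hs]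
  exact Subtype.ext (elW_single k.val).symm

theorem aut_ext {φ ψ : MulAut ↥K} (ha : φ sev = ψ sev) (hz : φ (tK 76) = ψ (tK 76)) : φ = ψ := by
  apply MulEquiv.ext
  intro y
  have hle : K ≤ (φ.toMonoidHom.eqLocus ψ.toMonoidHom).map K.subtype := by
    refine (Subgroup.closure_le _).2 ?_
    rintro _ ⟨k, rfl⟩
    refine ⟨⟨el k.val, el_mem k.val⟩, ?_, (el_eq_tp k).trans rfl⟩
    show φ _ = ψ _
    rw [el_mem_gen]
    calc φ (ev2 sev (tK 76) _) = ev2 (φ sev) (φ (tK 76)) _ := map_ev2 φ.toMonoidHom _ _ _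
      _ = ev2 (ψ sev) (ψ (tK 76)) _ := by rw [ha, hz]
      _ = ψ (ev2 sev (tK 76) _) := (map_ev2 ψ.toMonoidHom _ _ _).symm
  obtain ⟨z, hz', e⟩ := hle y.2
  rw [← Subtype.ext e]
  exact hz'

/-- the outer permutation -/
def outPerm : Equiv.Perm (Fin 315) where
  toFun x := ⟨outApp x.val, (out_bij x).1⟩
  invFun x := ⟨outInvTab.getD x.val 0, (out_bij x).2.1⟩
  left_inv x := Fin.ext (out_bij x).2.2.1
  right_inv x := Fin.ext (out_bij x).2.2.2

theorem outPerm_gen (k : Fin 4) : outPerm * el k.val * outPerm⁻¹ =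
    elW (subW sevenWord (lineWord 6) (genWords.getD k.val [])) := by
  rw [mul_inv_eq_iff_eq_mul]
  ext x
  rw [Equiv.Perm.mul_apply, Equiv.Perm.mul_apply, applyW_val (gen_words_table k).2.2]
  show outApp (el k.val x).val = _
  rw [el_apply (by omega)]
  exact (out_conj.2 x).2 k

theorem outPerm_sev : outPerm * elW sevenWord * outPerm⁻¹ = elW sevenWord := by
  rw [mul_inv_eq_iff_eq_mul]
  ext x
  rw [Equiv.Perm.mul_apply, Equiv.Perm.mul_apply, applyW_val seven_table.1]
  show outApp (elW sevenWord x).val = _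
  rw [applyW_val seven_table.1]
  exact (out_conj.2 x).1

theorem outPerm_conj_mem {g : Equiv.Perm (Fin 315)} (hg : g ∈ K) :
    outPerm * g * outPerm⁻¹ ∈ K := by
  have hle : K ≤ K.comap (MulAut.conj outPerm).toMonoidHom := by
    refine (Subgroup.closure_le _).2 ?_
    rintro _ ⟨k, rfl⟩
    show outPerm * rho (genG k) * outPerm⁻¹ ∈ K
    rw [show rho (genG k) = el k.val from (el_eq_tp k).symm, outPerm_gen]
    exact elW_mem _
  exact hle hg

/-- the outer automorphism as a homomorphism -/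
noncomputable def outHom : ↥K →* ↥K where
  toFun g := ⟨outPerm * g.1 * outPerm⁻¹, outPerm_conj_mem g.2⟩
  map_one' := Subtype.ext (by simp)
  map_mul' g h := Subtype.ext (by simp [mul_assoc])

/-- the outer automorphism -/
noncomputable def outAut : MulAut ↥K :=
  MulEquiv.ofBijective outHom (Finite.injective_iff_bijective.1 fun _ _ h =>
    Subtype.ext (mul_left_cancel (mul_right_cancel (congrArg Subtype.val h))))

theorem outAut_sev : outAut sev = sev := Subtype.ext outPerm_sev

theorem outAut_tK : outAut (tK 76) = tK 6 := by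
  apply Subtype.ext
  show outPerm * tp 76 * outPerm⁻¹ = tp 6
  have hk : gline 0 = 76 := Fin.ext axis_table.2.1
  rw [← hk, ← el_eq_tp, outPerm_gen, tp_eq]
  rfl

theorem outAut_not_inner (g : ↥K) : MulAut.conj g ≠ outAut := by
  intro h
  have hg : g.1 = outPerm := by
    refine Equiv.ext fun x => ?_
    obtain ⟨u, hu, ex⟩ := K_transitive x
    obtain ⟨v, hv, e76⟩ := K_transitive 76
    set U : ↥K := ⟨u * v⁻¹, mul_mem hu (inv_mem hv)⟩
    have eU : U.1 76 = x := by
      show u (v⁻¹ 76) = x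
      rw [← e76]
      exact (congrArg u (v.symm_apply_apply 0)).trans ex
    have e1 : g * tK x * g⁻¹ = tK ((outAut U).1 6) := by
      rw [← MulAut.conj_apply, h, ← eU, ← tK_conj U, map_mul, map_mul, map_inv, outAut_tK, tK_conj]
    rw [tK_conj] at e1
    rw [tK_injective e1]
    show (outPerm * U.1 * outPerm⁻¹) 6 = outPerm x
    have h6 : outPerm 76 = 6 := Fin.ext out_conj.1
    rw [Equiv.Perm.mul_apply, Equiv.Perm.mul_apply,
      show outPerm⁻¹ 6 = 76 by rw [← h6]; exact outPerm.symm_apply_apply 76, eU]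
  set x0 : Fin 315 := outPerm 0
  have hK : (elW (lineT x0.val))⁻¹ * g.1 ∈ K := mul_mem (inv_mem (elW_mem _)) g.2
  obtain ⟨w, hw, hgw, ew⟩ := exists_word_stab hK (by
    rw [Equiv.Perm.mul_apply, hg]
    show (elW (lineT x0.val))⁻¹ x0 = 0
    conv_lhs => arg 2; rw [← elW_lineT_zero x0]
    exact (elW (lineT x0.val)).symm_apply_apply 0)
  rw [inv_mul_eq_iff_eq_mul, ← elW_append, hg] at ew
  have hc := List.all_eq_true.1 out_not_word w hw
  rw [Bool.not_eq_true'] at hc
  have hyes : outSame (lineT (outApp 0) ++ w) = true := by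
    rw [outSame, List.all_eq_true]
    intro p hp
    have hlt : p < 315 := by
      have : ∀ q ∈ sixPts, q < 315 := by decide
      exact this p hp
    have e := congrArg (fun f : Equiv.Perm (Fin 315) => (f ⟨p, hlt⟩ : ℕ)) ew
    simp only [applyW_val (goodW_append (line_table x0).1 hgw)] at e
    rw [show outApp 0 = x0.val from rfl, ← e]
    exact Nat.beq_refl _
  rw [hyes] at hc
  exact Bool.noConfusion hc

theorem aut_cases (φ : MulAut ↥K) :
    ∃ g : ↥K, φ = MulAut.conj g ∨ φ = MulAut.conj g * outAut := by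
  obtain ⟨c, hc⟩ := exists_conj_seven (y := φ sev) (by rw [φ.orderOf_eq, sev_order])
  set ψ : MulAut ↥K := MulAut.conj c * φ with hψ
  have hpsi : ψ sev = sev := hc
  obtain ⟨x, hx⟩ := aut_tK ψ 76
  rcases cand_table x with h | h
  · exfalso
    obtain ⟨r, hr, h⟩ := List.any_eq_true.1 h
    simp only [Bool.and_eq_true, Bool.not_eq_true'] at h
    have h76 := List.all_eq_true.1 rel_table r hr
    simp only [Bool.and_eq_true] at h76
    have e1 : ev2 sev (tK 76) r = 1 := by
      rw [tK_eq, sev, ← kW_subW]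
      exact (kW_eq h76.1 rfl h76.2).trans kW_nil
    have e2 : kW (subW sevenWord (lineWord x.val) r) = 1 := by
      rw [kW_subW, ← tK_eq, ← hx, show kW sevenWord = sev from rfl]
      conv_lhs => rw [← hpsi]
      exact (map_ev2 ψ.toMonoidHom _ _ r).symm.trans ((congrArg ψ e1).trans (map_one ψ))
    rw [same_of_elW_eq h.1 rfl ((congrArg Subtype.val e2).trans elW_nil.symm)] at h
    exact Bool.noConfusion h.2
  · obtain ⟨i, hi, h⟩ := List.any_eq_true.1 h
    have hgi := List.all_eq_true.1 seven_table.2.2.2 i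
      (List.mem_range.2 (by have := List.mem_range.1 hi; omega))
    have hfix : MulAut.conj (kW (powW i)) sev = sev := by
      rw [kW_powW, MulAut.conj_apply, ← pow_succ, pow_succ', mul_inv_cancel_right]
    have hback : ∀ θ : MulAut ↥K, ψ = MulAut.conj (kW (powW i)) * θ →
        φ = MulAut.conj (c⁻¹ * kW (powW i)) * θ := fun θ hθ => by
      rw [map_mul, map_inv, mul_assoc, ← hθ, hψ, inv_mul_cancel_left]
    rcases (Bool.or_eq_true _ _).mp h with h | h
    · refine ⟨c⁻¹ * kW (powW i), Or.inl ?_⟩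
      rw [← mul_one (MulAut.conj (c⁻¹ * kW (powW i)))]
      refine hback 1 (aut_ext ?_ ?_)
      · rw [mul_one, hpsi, hfix]
      · rw [mul_one, hx, MulAut.conj_apply, tK_conj]
        exact congrArg tK (Fin.ext ((Nat.eq_of_beq_eq_true h).trans (applyW_val hgi 76).symm))
    · refine ⟨c⁻¹ * kW (powW i), Or.inr (hback _ (aut_ext ?_ ?_))⟩
      · rw [hpsi, MulAut.mul_apply, outAut_sev, hfix]
      · rw [hx, MulAut.mul_apply, outAut_tK, MulAut.conj_apply, tK_conj]
        exact congrArg tK (Fin.ext ((Nat.eq_of_beq_eq_true h).trans (applyW_val hgi 6).symm))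

theorem card_out_K : Nat.card (Cfsg.Out ↥K) = 2 := by
  rw [Nat.card_eq_two_iff]
  refine ⟨1, QuotientGroup.mk' _ outAut, ?_, ?_⟩
  · intro h
    obtain ⟨g, hg⟩ := (QuotientGroup.eq_one_iff outAut).1 h.symm
    exact outAut_not_inner g hg
  · refine Set.eq_univ_of_forall fun q => ?_
    obtain ⟨φ, rfl⟩ := QuotientGroup.mk'_surjective _ q
    obtain ⟨g, rfl | rfl⟩ := aut_cases φ
    · exact Or.inl ((QuotientGroup.eq_one_iff _).2 ⟨g, rfl⟩)
    · refine Or.inr ?_
      rw [Set.mem_singleton_iff, map_mul]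
      rw [show QuotientGroup.mk' (Cfsg.Inn ↥K) (MulAut.conj g) = 1 from
        (QuotientGroup.eq_one_iff _).2 ⟨g, rfl⟩, one_mul]

theorem card_out_J2 : Nat.card (Cfsg.Out J2) = 2 := by
  rw [← card_out_K]
  show (Cfsg.Inn J2).index = (Cfsg.Inn ↥K).index
  rw [← Subgroup.index_map_equiv (Cfsg.Inn J2) (MulAut.congr j2Equiv)]
  congr 1
  ext φ
  constructor
  · rintro ⟨_, ⟨g, rfl⟩, rfl⟩
    refine ⟨j2Equiv g, MulEquiv.ext fun y => ?_⟩
    simp [MulAut.congr]
  · rintro ⟨g, rfl⟩
    refine ⟨MulAut.conj (j2Equiv.symm g), ⟨_, rfl⟩, MulEquiv.ext fun y => ?_⟩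
    simp [MulAut.congr]

end Cfsg.Agent.Janko2.OutAut
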