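import Mathlib.Data.Nat.Basic

/-!
Tables for the automorphisms of the Hall–Janko group on the 315 lines.
-/

set_option autoImplicit false

namespace Cfsg.Agent.Janko2

/-- the word of the involution fixing line 0 -/
def axisWord : List ℕ :=
  [13, 11, 14]

/-- the word of an element of order 7 -/
def sevenWord : List ℕ :=
  [0, 1, 2, 0, 3]

/-- a word of an element squaring to the involution fixing line 0 -/
def rootFour : List ℕ :=
  [9, 14]

/-- words conjugating the powers of the element of order 7 to it -/
def normWords : List (List ℕ) :=
  [[], [0, 2, 0, 3, 13, 9, 11, 14, 14], [0, 1, 0, 3, 14, 9, 31, 31, 11, 14], [0, 1, 0, 3, 13, 11,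
   14], [0, 2, 0, 3, 9, 13, 14, 31, 11], [9, 9, 14, 31]]

/-- the generators as words in the element of order 7 and one involution -/
def genWords : List (List Bool) :=
  [[true], [false, false, false, true, false, true, false, true, false, false, false, true, false,
   false, true, false, false, false, true, false, true, false, false], [false, false, true, false,
   true, false, false, false, false, false, true, false, false, false, true, false, true, false,
   false, false, true, false, true, false, true], [true, false, true, false, false, true, false,
   true, false, true, false, true, false, false, true, false, true, false, true, false, false, true,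
   false, true, false, true]]

/-- relators separating the images of the involution -/
def relWords : List (List Bool) :=
  [[false, true, false, true, false, false, false, false, false, false, true, false, true, false,
   true, false, false, false, false, false, false, true, false, true, false, true, false, false,
   false, false, false, false, true, false, true, false, true, false, false, false, false, false,
   false, true, false, true, false, true, false, false, false, false, false, false, true], [false,
   true, false, false, false, false, false, true, false, false, true, false, true, false, false,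
   false, false, false, true, false, false, true, false, true, false, false, false, false, false,
   true, false, false, true, false, true, false, false, false, false, false, true, false, false,
   true, false, true, false, false, false, false, false, true, false, false, true, false, true,
   false, false, false, false, false, true, false, false, true]]

/-- a permutation normalising the group but outside it -/
def outTab : List ℕ :=
  [29, 48, 304, 222, 3, 78, 187, 37, 287, 250, 144, 10, 154, 172, 69, 242, 90, 49, 269, 286, 62,
   204, 127, 66, 125, 40, 206, 72, 36, 123, 257, 284, 208, 265, 58, 8, 75, 164, 77, 261, 139, 53,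
   282, 151, 13, 98, 185, 214, 278, 121, 31, 0, 148, 27, 186, 190, 25, 24, 140, 156, 22, 188, 313,
   18, 202, 180, 38, 301, 160, 189, 210, 268, 92, 56, 297, 34, 6, 54, 253, 147, 15, 23, 73, 258, 11,
   232, 300, 238, 177, 264, 227, 245, 195, 2, 150, 41, 197, 231, 310, 217, 105, 28, 67, 19, 7, 230,
   293, 43, 209, 292, 183, 79, 114, 198, 213, 220, 182, 240, 59, 32, 290, 51, 179, 17, 263, 107,
   205, 161, 95, 159, 136, 68, 97, 281, 130, 116, 299, 178, 244, 128, 81, 260, 248, 153, 262, 224,
   207, 312, 103, 237, 76, 196, 157, 175, 176, 14, 174, 171, 314, 169, 170, 70, 303, 30, 89, 47,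
   134, 241, 221, 9, 45, 167, 283, 246, 21, 83, 100, 166, 142, 295, 280, 203, 239, 291, 302, 252,
   101, 243, 163, 162, 223, 4, 146, 118, 57, 82, 60, 273, 308, 91, 113, 271, 311, 229, 126, 55, 193,
   168, 64, 109, 194, 254, 129, 184, 111, 256, 108, 149, 305, 99, 307, 247, 279, 26, 44, 212, 117,
   137, 132, 226, 276, 289, 93, 33, 124, 215, 112, 141, 85, 115, 309, 120, 288, 275, 50, 298, 110,
   274, 12, 192, 87, 102, 285, 35, 106, 96, 158, 277, 42, 296, 88, 84, 74, 65, 294, 122, 94, 52,
   143, 86, 104, 152, 1, 46, 236, 145, 16, 267, 80, 39, 255, 235, 216, 266, 211, 234, 259, 272, 5,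
   201, 228, 218, 71, 63, 155, 251, 61, 191, 233, 219, 138, 199, 249, 270, 225, 133, 119, 181, 20,
   135, 165, 306, 131, 200, 173]

/-- the inverse permutation -/
def outInvTab : List ℕ :=
  [51, 272, 93, 4, 191, 288, 76, 104, 35, 169, 11, 84, 248, 44, 155, 80, 276, 123, 63, 103, 308,
   174, 60, 81, 57, 56, 223, 53, 101, 0, 163, 50, 119, 233, 75, 253, 28, 7, 66, 279, 25, 95, 258,
   107, 224, 170, 273, 165, 1, 17, 244, 121, 267, 41, 77, 205, 73, 194, 34, 118, 196, 296, 20, 293,
   208, 263, 23, 102, 131, 14, 161, 292, 27, 82, 262, 36, 150, 38, 5, 111, 278, 140, 195, 175, 261,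
   238, 269, 250, 260, 164, 16, 199, 72, 232, 266, 128, 255, 132, 45, 219, 176, 186, 251, 148, 270,
   100, 254, 125, 216, 209, 246, 214, 236, 200, 112, 239, 135, 226, 193, 306, 241, 49, 265, 29, 234,
   24, 204, 22, 139, 212, 134, 312, 228, 305, 166, 309, 130, 227, 300, 40, 58, 237, 178, 268, 10,
   275, 192, 79, 52, 217, 94, 43, 271, 143, 12, 294, 59, 152, 256, 129, 68, 127, 189, 188, 37, 310,
   177, 171, 207, 159, 160, 157, 13, 314, 156, 153, 154, 88, 137, 122, 65, 307, 116, 110, 213, 46,
   54, 6, 61, 69, 55, 297, 249, 206, 210, 92, 151, 96, 113, 301, 313, 289, 64, 181, 21, 126, 26,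
   146, 32, 108, 70, 284, 225, 114, 47, 235, 282, 99, 291, 299, 115, 168, 3, 190, 145, 304, 229, 90,
   290, 203, 105, 97, 85, 298, 285, 281, 274, 149, 87, 182, 117, 167, 15, 187, 138, 91, 173, 221,
   142, 302, 9, 295, 185, 78, 211, 280, 215, 30, 83, 286, 141, 39, 144, 124, 89, 33, 283, 277, 71,
   18, 303, 201, 287, 197, 247, 243, 230, 257, 48, 222, 180, 133, 42, 172, 31, 252, 19, 8, 242, 231,
   120, 183, 109, 106, 264, 179, 259, 74, 245, 136, 86, 67, 184, 162, 2, 218, 311, 220, 198, 240,
   98, 202, 147, 62, 158]

end Cfsg.Agent.Janko2
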