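import Cfsg.Agent.Janko2.OutWords

/-!
The computations behind the automorphism group of the Hall–Janko group.
-/

set_option autoImplicit false

namespace Cfsg.Agent.Janko2.OutAut

/-- substitution in a word of two letters -/
def subW (a z : List ℕ) (r : List Bool) : List ℕ := r.flatMap fun b => if b then z else a

/-- the powers of the element of order 7 -/
def powW (i : ℕ) : List ℕ := (List.replicate i sevenWord).flatten

/-- a line permutation normalising the group, on numbers -/
def outApp (x : ℕ) : ℕ := outTab.getD x 0

/-- agreement of a word with the outer permutation on the six points -/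
def outSame (w : List ℕ) : Bool := sixPts.all fun p => Nat.beq (applyW w p) (outApp p)

theorem seven_table : goodW sevenWord = true ∧ same (powW 7) [] = true ∧
    same sevenWord [] = false ∧ ((List.range 8).all fun i => goodW (powW i)) = true := by
  decide +kernel

theorem norm_table : ∀ j : Fin 6, goodW (normWords.getD j.val []) = true ∧
    same (normWords.getD j.val [] ++ powW (j.val + 1)) (sevenWord ++ normWords.getD j.val []) = true := by
  decide +kernel

theorem root_table : goodW rootFour = true ∧ same (rootFour ++ rootFour) axisWord = true ∧
    same axisWord [] = false ∧ same (axisWord ++ axisWord) [] = true := by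
  decide +kernel

theorem square_table : ((levelWords 1 4).all fun w => goodW w &&
    (same (w ++ w) [] || (!same ((w ++ w) ++ (w ++ w)) [] ||
      [0, 305, 306, 307, 308, 309, 310, 311, 312, 313, 314].any fun x =>
        Nat.blt x 315 && same (w ++ w) (lineWord x)))) = true := by
  decide +kernel

theorem gen_words_table : ∀ k : Fin 4,
    goodW (subW sevenWord (lineWord 76) (genWords.getD k.val [])) = true ∧
    same (subW sevenWord (lineWord 76) (genWords.getD k.val [])) [k.val] = true ∧
    goodW (subW sevenWord (lineWord 6) (genWords.getD k.val [])) = true := by
  decide +kernel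

theorem rel_table : (relWords.all fun r =>
    goodW (subW sevenWord (lineWord 76) r) && same (subW sevenWord (lineWord 76) r) []) = true := by
  decide +kernel

theorem cand_table : ∀ x : Fin 315,
    (relWords.any fun r =>
      goodW (subW sevenWord (lineWord x.val) r) && !same (subW sevenWord (lineWord x.val) r) []) = true ∨
    ((List.range 7).any fun i =>
      Nat.beq x.val (applyW (powW i) 76) || Nat.beq x.val (applyW (powW i) 6)) = true := by
  decide +kernel

theorem out_bij : ∀ x : Fin 315, outApp x.val < 315 ∧ outInvTab.getD x.val 0 < 315 ∧
    outInvTab.getD (outApp x.val) 0 = x.val ∧ outApp (outInvTab.getD x.val 0) = x.val := by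
  decide +kernel

theorem out_conj : outApp 76 = 6 ∧ ∀ x : Fin 315,
    outApp (applyW sevenWord x.val) = applyW sevenWord (outApp x.val) ∧
    ∀ k : Fin 4, outApp (papp k.val x.val) =
      applyW (subW sevenWord (lineWord 6) (genWords.getD k.val [])) (outApp x.val) := by
  decide +kernel

theorem out_not_word : ((levelWords 1 4).all fun w => !outSame (lineT (outApp 0) ++ w)) = true := by
  decide +kernel

end Cfsg.Agent.Janko2.OutAut
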