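import Cfsg.Agent.Janko2.Simple
import Cfsg.Agent.Janko2.OutData

/-!
The elements of the Hall–Janko group on the 315 lines as words: the stabiliser of line 0 as a list
of 1920 words, and the involution attached to each line as a word.
-/

set_option autoImplicit false

namespace Cfsg.Agent.Janko2.OutAut

/-- two words agree on the six points -/
def same (v w : List ℕ) : Bool := sixPts.all fun p => Nat.beq (applyW v p) (applyW w p)

/-- all letters of the word are tabled -/
def goodW (w : List ℕ) : Bool := w.all fun k => Nat.blt k 32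

theorem goodW_iff {w : List ℕ} : goodW w = true ↔ ∀ k ∈ w, k < 32 := by
  simp [goodW, List.all_eq_true]

theorem goodW_append {v w : List ℕ} (hv : goodW v = true) (hw : goodW w = true) :
    goodW (v ++ w) = true := by
  rw [goodW, List.all_append, Bool.and_eq_true]
  exact ⟨hv, hw⟩

theorem applyW_val {w : List ℕ} (h : goodW w = true) (x : Fin 315) :
    (elW w x : ℕ) = applyW w x.val := elW_apply (goodW_iff.1 h) x

theorem elW_eq_of_same {v w : List ℕ} (hv : goodW v = true) (hw : goodW w = true)
    (h : same v w = true) : elW v = elW w :=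
  eq_of_six (elW_mem v) (elW_mem w) fun x hx => Fin.ext <| by
    rw [applyW_val hv, applyW_val hw]
    exact Nat.eq_of_beq_eq_true (List.all_eq_true.1 h x.val hx)

theorem same_of_elW_eq {v w : List ℕ} (hv : goodW v = true) (hw : goodW w = true)
    (h : elW v = elW w) : same v w = true := by
  rw [same, List.all_eq_true]
  intro p hp
  have hlt : p < 315 := by
    have : ∀ q ∈ sixPts, q < 315 := by decide
    exact this p hp
  have e := congrArg (fun g : Equiv.Perm (Fin 315) => (g ⟨p, hlt⟩ : ℕ)) h
  simp only [applyW_val hv, applyW_val hw] at e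
  simp [e]

theorem elW_nil : elW [] = 1 := rfl

theorem elW_single (k : ℕ) : elW [k] = el k := by simp [elW]

theorem same_nil_iff {w : List ℕ} (h : goodW w = true) : same w [] = true ↔ elW w = 1 :=
  ⟨fun e => (elW_eq_of_same h rfl e).trans elW_nil, fun e => same_of_elW_eq h rfl (e.trans elW_nil.symm)⟩

/-- the orbits of the base points are closed -/
theorem orb_table : ∀ i : Fin 5,
    ((sL i.val).all fun k => Nat.blt k 32 &&
      (orbL i.val).all fun o => (orbL i.val).contains (papp k o)) = true ∧
    ((tL i.val).all fun w => goodW w && w.all fun k => (sL i.val).contains k) = true ∧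
    (orbL i.val).contains (bL i.val) = true ∧ bL i.val < 315 := by
  decide +kernel

theorem orb_closed (i : Fin 5) {g : Equiv.Perm (Fin 315)} (hg : g ∈ levelGrp i.val) :
    ∀ o : Fin 315, o.val ∈ orbL i.val → (g o).val ∈ orbL i.val := by
  obtain ⟨hS, -, -, -⟩ := orb_table i
  rw [levelGrp, ← Subgroup.mem_toSubmonoid, Subgroup.closure_toSubmonoid_of_finite] at hg
  induction hg using Submonoid.closure_induction with
  | mem x hx =>
    obtain ⟨a, rfl⟩ := hx
    intro o ho
    have h := List.all_eq_true.1 hS _ (List.get_mem _ a)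
    simp only [Bool.and_eq_true, Nat.blt_eq, List.all_eq_true] at h
    rw [sE, el_apply h.1]
    exact List.contains_iff_mem.1 (h.2 _ ho)
  | one => exact fun o ho => ho
  | mul x y _ _ hx hy => exact fun o ho => hx _ (hy o ho)

/-- the words of the elements of a level, with `n` levels to go -/
def levelWords : ℕ → ℕ → List (List ℕ)
  | _, 0 => [[]]
  | i, n + 1 => (tL i).flatMap fun t => (levelWords (i + 1) n).map fun w => t ++ w

theorem exists_word : ∀ n i : ℕ, i + n = 5 → ∀ g ∈ levelGrp i,
    ∃ w ∈ levelWords i n, goodW w = true ∧ g = elW w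
  | 0, i, hi, g, hg => by
    obtain rfl : i = 5 := by omega
    have e : sL 5 = [] := by decide +kernel
    have h5 : levelGrp 5 = ⊥ := by
      rw [levelGrp, Subgroup.closure_eq_bot_iff]
      rintro _ ⟨a, rfl⟩
      exact absurd a.2 (by simp [List.length_eq_zero_iff.2 e])
    rw [h5, Subgroup.mem_bot] at hg
    exact ⟨[], List.mem_singleton.2 rfl, rfl, hg⟩
  | n + 1, i, hi, g, hg => by
    set j : Fin 5 := ⟨i, by omega⟩ with hj
    obtain ⟨-, hT, hb, hlt⟩ := orb_table j
    have hgb := orb_closed j hg ⟨bL i, hlt⟩ (List.contains_iff_mem.1 hb)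
    obtain ⟨t, ht, et⟩ := List.mem_map.1 hgb
    have htt := List.all_eq_true.1 hT t ht
    simp only [Bool.and_eq_true, List.all_eq_true] at htt
    have htm : elW t ∈ levelGrp i := elW_mem_level fun k hk => List.contains_iff_mem.1 (htt.2 k hk)
    have hfix : ((elW t)⁻¹ * g) ⟨bL i, hlt⟩ = ⟨bL i, hlt⟩ := by
      have e : elW t ⟨bL i, hlt⟩ = g ⟨bL i, hlt⟩ := Fin.ext ((applyW_val htt.1 _).trans et)
      rw [Equiv.Perm.mul_apply, ← e]
      exact (elW t).symm_apply_apply _
    have hh : (elW t)⁻¹ * g ∈ levelGrp (i + 1) := by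
      refine (level_step j).2 _ (mul_mem (inv_mem htm) hg) ?_
      have e : (⟨bL j.val % 315, Nat.mod_lt _ (by norm_num)⟩ : Fin 315) = ⟨bL i, hlt⟩ :=
        Fin.ext (Nat.mod_eq_of_lt hlt)
      rw [e, hfix]
    obtain ⟨w, hw, hwg, ew⟩ := exists_word n (i + 1) (by omega) _ hh
    refine ⟨t ++ w, ?_, goodW_append htt.1 hwg, ?_⟩
    · rw [levelWords]
      exact List.mem_flatMap.2 ⟨t, ht, List.mem_map.2 ⟨w, hw, rfl⟩⟩
    · rw [elW_append, ← ew, mul_inv_cancel_left]

theorem exists_word_stab {g : Equiv.Perm (Fin 315)} (hg : g ∈ K) (h0 : g 0 = 0) :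
    ∃ w ∈ levelWords 1 4, goodW w = true ∧ g = elW w :=
  exists_word 4 1 rfl g (mem_level_one hg h0)

/-- a word moving line 0 to the given line -/
def lineT (x : ℕ) : List ℕ := ((tL 0).find? fun w => Nat.beq (applyW w 0) x).getD []

/-- the word of the involution attached to a line -/
def lineWord (x : ℕ) : List ℕ := lineT x ++ axisWord ++ (lineT x).reverse

theorem line_table : ∀ x : Fin 315, goodW (lineT x.val) = true ∧ goodW (lineWord x.val) = true ∧
    applyW (lineT x.val) 0 = x.val ∧
    same (lineWord x.val ++ lineT x.val) (lineT x.val ++ axisWord) = true ∧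
    (x.val = 0 ∨ same (lineWord x.val) axisWord = false) := by
  decide +kernel

theorem axis_table : goodW axisWord = true ∧ genLines.getD 0 0 = 76 ∧
    same ([0] ++ lineT 76) (lineT 76 ++ axisWord) = true ∧ goodW ([0] ++ lineT 76) = true := by
  decide +kernel

theorem el_eq_tp (k : Fin 4) : el k.val = tp (gline k) :=
  Equiv.ext fun x => Fin.ext (by rw [el_apply (by omega)]; exact (genG_table k x).symm)

theorem elW_lineT_zero (x : Fin 315) : elW (lineT x.val) 0 = x :=
  Fin.ext ((applyW_val (line_table x).1 0).trans (line_table x).2.2.1)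

theorem tp_zero : tp 0 = elW axisWord := by
  obtain ⟨hg, h76, hs, hg'⟩ := axis_table
  have h := elW_eq_of_same hg' (goodW_append (line_table 76).1 hg) hs
  rw [elW_append, elW_append, elW_single] at h
  have hk : gline 0 = 76 := Fin.ext h76
  have e0 : el 0 = tp 76 := by rw [← hk]; exact el_eq_tp 0
  have h2 : elW (lineT (76 : Fin 315).val) * tp 0 * (elW (lineT (76 : Fin 315).val))⁻¹ = tp 76 := by
    rw [tp_conj (elW_mem _), elW_lineT_zero]
  rw [e0, ← h2] at h
  rw [show ((76 : Fin 315) : ℕ) = 76 from rfl, inv_mul_cancel_right] at h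
  exact mul_left_cancel h

theorem tp_eq (x : Fin 315) : tp x = elW (lineWord x.val) := by
  obtain ⟨ht, hw, -, hs, -⟩ := line_table x
  have h := elW_eq_of_same (goodW_append hw ht) (goodW_append ht axis_table.1) hs
  rw [elW_append, elW_append, ← tp_zero] at h
  have h2 := tp_conj (elW_mem (lineT x.val)) (0 : Fin 315)
  rw [elW_lineT_zero] at h2
  rw [← h2, ← h, mul_inv_cancel_right]

theorem tp_injective : Function.Injective tp := by
  intro x y h
  obtain ⟨g, hg, rfl⟩ := K_transitive y
  have h2 : tp (g⁻¹ x) = tp 0 := by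
    rw [← tp_conj (inv_mem hg), h, ← tp_conj hg]
    group
  have h3 : g⁻¹ x = 0 := by
    obtain ⟨-, hw, -, -, h0 | hne⟩ := line_table (g⁻¹ x)
    · exact Fin.ext h0
    · rw [tp_eq, tp_zero] at h2
      rw [same_of_elW_eq hw axis_table.1 h2] at hne
      exact Bool.noConfusion hne
  rw [← h3]
  exact (g.apply_symm_apply x).symm

end Cfsg.Agent.Janko2.OutAut
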