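import Cfsg.Agent.Janko2.Parity

/-!
Tables: icosians of small norm.
-/

set_option autoImplicit false

namespace Cfsg.Agent.Janko2

/-- coordinate pairs of weight at most 32 -/
def p32 : List (ℤ × ℤ) :=
  [(-5, -1), (-5, 1), (-4, 0), (-3, -1), (-3, 1), (-2, -2), (-2, 0), (-2, 2), (-1, -1), (-1, 1), (0, -2), (0, 0), (0, 2), (1, -1), (1, 1), (2, -2), (2, 0), (2, 2), (3, -1), (3, 1), (4, 0), (5, -1), (5, 1)]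

/-- part of `small` -/
def smallPart0 : List IQ :=
  [⟨-4,0,-4,0,0,0,0,0⟩,
    ⟨-4,0,-2,0,-1,1,-1,-1⟩,
    ⟨-4,0,-2,0,-1,1,1,1⟩,
    ⟨-4,0,-2,0,1,-1,-1,-1⟩,
    ⟨-4,0,-2,0,1,-1,1,1⟩,
    ⟨-4,0,-1,-1,-2,0,-1,1⟩,
    ⟨-4,0,-1,-1,-2,0,1,-1⟩,
    ⟨-4,0,-1,-1,2,0,-1,1⟩,
    ⟨-4,0,-1,-1,2,0,1,-1⟩,
    ⟨-4,0,-1,1,-1,-1,-2,0⟩,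
    ⟨-4,0,-1,1,-1,-1,2,0⟩,
    ⟨-4,0,-1,1,1,1,-2,0⟩,
    ⟨-4,0,-1,1,1,1,2,0⟩,
    ⟨-4,0,0,0,-4,0,0,0⟩,
    ⟨-4,0,0,0,0,0,-4,0⟩,
    ⟨-4,0,0,0,0,0,0,0⟩,
    ⟨-4,0,0,0,0,0,4,0⟩,
    ⟨-4,0,0,0,4,0,0,0⟩,
    ⟨-4,0,1,-1,-1,-1,-2,0⟩,
    ⟨-4,0,1,-1,-1,-1,2,0⟩,
    ⟨-4,0,1,-1,1,1,-2,0⟩,
    ⟨-4,0,1,-1,1,1,2,0⟩,
    ⟨-4,0,1,1,-2,0,-1,1⟩,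
    ⟨-4,0,1,1,-2,0,1,-1⟩,
    ⟨-4,0,1,1,2,0,-1,1⟩,
    ⟨-4,0,1,1,2,0,1,-1⟩,
    ⟨-4,0,2,0,-1,1,-1,-1⟩,
    ⟨-4,0,2,0,-1,1,1,1⟩,
    ⟨-4,0,2,0,1,-1,-1,-1⟩,
    ⟨-4,0,2,0,1,-1,1,1⟩,
    ⟨-4,0,4,0,0,0,0,0⟩,
    ⟨-3,-1,-3,1,0,0,-2,0⟩,
    ⟨-3,-1,-3,1,0,0,2,0⟩,
    ⟨-3,-1,-2,0,-3,1,0,0⟩,
    ⟨-3,-1,-2,0,-1,-1,0,0⟩,
    ⟨-3,-1,-2,0,1,1,0,0⟩,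
    ⟨-3,-1,-2,0,3,-1,0,0⟩,
    ⟨-3,-1,-1,-1,0,0,-2,0⟩,
    ⟨-3,-1,-1,-1,0,0,2,0⟩,
    ⟨-3,-1,-1,1,-1,1,-1,1⟩,
    ⟨-3,-1,-1,1,-1,1,1,-1⟩,
    ⟨-3,-1,-1,1,1,-1,-1,1⟩,
    ⟨-3,-1,-1,1,1,-1,1,-1⟩,
    ⟨-3,-1,0,0,-2,0,-3,1⟩,
    ⟨-3,-1,0,0,-2,0,-1,-1⟩,
    ⟨-3,-1,0,0,-2,0,1,1⟩,
    ⟨-3,-1,0,0,-2,0,3,-1⟩,
    ⟨-3,-1,0,0,2,0,-3,1⟩,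
    ⟨-3,-1,0,0,2,0,-1,-1⟩,
    ⟨-3,-1,0,0,2,0,1,1⟩,
    ⟨-3,-1,0,0,2,0,3,-1⟩,
    ⟨-3,-1,1,-1,-1,1,-1,1⟩,
    ⟨-3,-1,1,-1,-1,1,1,-1⟩,
    ⟨-3,-1,1,-1,1,-1,-1,1⟩,
    ⟨-3,-1,1,-1,1,-1,1,-1⟩,
    ⟨-3,-1,1,1,0,0,-2,0⟩,
    ⟨-3,-1,1,1,0,0,2,0⟩,
    ⟨-3,-1,2,0,-3,1,0,0⟩,
    ⟨-3,-1,2,0,-1,-1,0,0⟩,
    ⟨-3,-1,2,0,1,1,0,0⟩,
    ⟨-3,-1,2,0,3,-1,0,0⟩,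
    ⟨-3,-1,3,-1,0,0,-2,0⟩,
    ⟨-3,-1,3,-1,0,0,2,0⟩,
    ⟨-3,1,-3,-1,-2,0,0,0⟩,
    ⟨-3,1,-3,-1,2,0,0,0⟩,
    ⟨-3,1,-2,0,0,0,-3,-1⟩,
    ⟨-3,1,-2,0,0,0,-1,1⟩,
    ⟨-3,1,-2,0,0,0,1,-1⟩,
    ⟨-3,1,-2,0,0,0,3,1⟩,
    ⟨-3,1,-1,-1,-1,-1,-1,-1⟩,
    ⟨-3,1,-1,-1,-1,-1,1,1⟩,
    ⟨-3,1,-1,-1,1,1,-1,-1⟩,
    ⟨-3,1,-1,-1,1,1,1,1⟩,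
    ⟨-3,1,-1,1,-2,0,0,0⟩,
    ⟨-3,1,-1,1,2,0,0,0⟩,
    ⟨-3,1,0,0,-3,-1,-2,0⟩,
    ⟨-3,1,0,0,-3,-1,2,0⟩,
    ⟨-3,1,0,0,-1,1,-2,0⟩,
    ⟨-3,1,0,0,-1,1,2,0⟩,
    ⟨-3,1,0,0,1,-1,-2,0⟩,
    ⟨-3,1,0,0,1,-1,2,0⟩,
    ⟨-3,1,0,0,3,1,-2,0⟩,
    ⟨-3,1,0,0,3,1,2,0⟩,
    ⟨-3,1,1,-1,-2,0,0,0⟩,
    ⟨-3,1,1,-1,2,0,0,0⟩,
    ⟨-3,1,1,1,-1,-1,-1,-1⟩,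
    ⟨-3,1,1,1,-1,-1,1,1⟩,
    ⟨-3,1,1,1,1,1,-1,-1⟩,
    ⟨-3,1,1,1,1,1,1,1⟩,
    ⟨-3,1,2,0,0,0,-3,-1⟩,
    ⟨-3,1,2,0,0,0,-1,1⟩,
    ⟨-3,1,2,0,0,0,1,-1⟩,
    ⟨-3,1,2,0,0,0,3,1⟩,
    ⟨-3,1,3,1,-2,0,0,0⟩,
    ⟨-3,1,3,1,2,0,0,0⟩,
    ⟨-2,-2,0,0,0,0,0,0⟩,
    ⟨-2,0,-4,0,-1,-1,-1,1⟩,
    ⟨-2,0,-4,0,-1,-1,1,-1⟩,
    ⟨-2,0,-4,0,1,1,-1,1⟩,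
    ⟨-2,0,-4,0,1,1,1,-1⟩,
    ⟨-2,0,-3,-1,0,0,-3,1⟩,
    ⟨-2,0,-3,-1,0,0,-1,-1⟩,
    ⟨-2,0,-3,-1,0,0,1,1⟩,
    ⟨-2,0,-3,-1,0,0,3,-1⟩,
    ⟨-2,0,-3,1,-3,-1,0,0⟩,
    ⟨-2,0,-3,1,-1,1,0,0⟩,
    ⟨-2,0,-3,1,1,-1,0,0⟩,
    ⟨-2,0,-3,1,3,1,0,0⟩,
    ⟨-2,0,-2,0,-2,0,-2,0⟩,
    ⟨-2,0,-2,0,-2,0,0,-2⟩,
    ⟨-2,0,-2,0,-2,0,0,2⟩,
    ⟨-2,0,-2,0,-2,0,2,0⟩,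
    ⟨-2,0,-2,0,0,-2,-2,0⟩,
    ⟨-2,0,-2,0,0,-2,2,0⟩,
    ⟨-2,0,-2,0,0,2,-2,0⟩,
    ⟨-2,0,-2,0,0,2,2,0⟩,
    ⟨-2,0,-2,0,2,0,-2,0⟩,
    ⟨-2,0,-2,0,2,0,0,-2⟩,
    ⟨-2,0,-2,0,2,0,0,2⟩,
    ⟨-2,0,-2,0,2,0,2,0⟩]

/-- part of `small` -/
def smallPart1 : List IQ :=
  [⟨-2,0,-1,-1,-3,-1,0,0⟩,
    ⟨-2,0,-1,-1,-1,1,-4,0⟩,
    ⟨-2,0,-1,-1,-1,1,0,0⟩,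
    ⟨-2,0,-1,-1,-1,1,4,0⟩,
    ⟨-2,0,-1,-1,1,-1,-4,0⟩,
    ⟨-2,0,-1,-1,1,-1,0,0⟩,
    ⟨-2,0,-1,-1,1,-1,4,0⟩,
    ⟨-2,0,-1,-1,3,1,0,0⟩,
    ⟨-2,0,-1,1,-4,0,-1,-1⟩,
    ⟨-2,0,-1,1,-4,0,1,1⟩,
    ⟨-2,0,-1,1,0,0,-3,1⟩,
    ⟨-2,0,-1,1,0,0,-1,-1⟩,
    ⟨-2,0,-1,1,0,0,1,1⟩,
    ⟨-2,0,-1,1,0,0,3,-1⟩,
    ⟨-2,0,-1,1,4,0,-1,-1⟩,
    ⟨-2,0,-1,1,4,0,1,1⟩,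
    ⟨-2,0,0,-2,-2,0,-2,0⟩,
    ⟨-2,0,0,-2,-2,0,2,0⟩,
    ⟨-2,0,0,-2,2,0,-2,0⟩,
    ⟨-2,0,0,-2,2,0,2,0⟩,
    ⟨-2,0,0,0,-3,1,-3,-1⟩,
    ⟨-2,0,0,0,-3,1,-1,1⟩,
    ⟨-2,0,0,0,-3,1,1,-1⟩,
    ⟨-2,0,0,0,-3,1,3,1⟩,
    ⟨-2,0,0,0,-1,-1,-3,-1⟩,
    ⟨-2,0,0,0,-1,-1,-1,1⟩,
    ⟨-2,0,0,0,-1,-1,1,-1⟩,
    ⟨-2,0,0,0,-1,-1,3,1⟩,
    ⟨-2,0,0,0,1,1,-3,-1⟩,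
    ⟨-2,0,0,0,1,1,-1,1⟩,
    ⟨-2,0,0,0,1,1,1,-1⟩,
    ⟨-2,0,0,0,1,1,3,1⟩,
    ⟨-2,0,0,0,3,-1,-3,-1⟩,
    ⟨-2,0,0,0,3,-1,-1,1⟩,
    ⟨-2,0,0,0,3,-1,1,-1⟩,
    ⟨-2,0,0,0,3,-1,3,1⟩,
    ⟨-2,0,0,2,-2,0,-2,0⟩,
    ⟨-2,0,0,2,-2,0,2,0⟩,
    ⟨-2,0,0,2,2,0,-2,0⟩,
    ⟨-2,0,0,2,2,0,2,0⟩,
    ⟨-2,0,1,-1,-4,0,-1,-1⟩,
    ⟨-2,0,1,-1,-4,0,1,1⟩,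
    ⟨-2,0,1,-1,0,0,-3,1⟩,
    ⟨-2,0,1,-1,0,0,-1,-1⟩,
    ⟨-2,0,1,-1,0,0,1,1⟩,
    ⟨-2,0,1,-1,0,0,3,-1⟩,
    ⟨-2,0,1,-1,4,0,-1,-1⟩,
    ⟨-2,0,1,-1,4,0,1,1⟩,
    ⟨-2,0,1,1,-3,-1,0,0⟩,
    ⟨-2,0,1,1,-1,1,-4,0⟩,
    ⟨-2,0,1,1,-1,1,0,0⟩,
    ⟨-2,0,1,1,-1,1,4,0⟩,
    ⟨-2,0,1,1,1,-1,-4,0⟩,
    ⟨-2,0,1,1,1,-1,0,0⟩,
    ⟨-2,0,1,1,1,-1,4,0⟩,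
    ⟨-2,0,1,1,3,1,0,0⟩,
    ⟨-2,0,2,0,-2,0,-2,0⟩,
    ⟨-2,0,2,0,-2,0,0,-2⟩,
    ⟨-2,0,2,0,-2,0,0,2⟩,
    ⟨-2,0,2,0,-2,0,2,0⟩,
    ⟨-2,0,2,0,0,-2,-2,0⟩,
    ⟨-2,0,2,0,0,-2,2,0⟩,
    ⟨-2,0,2,0,0,2,-2,0⟩,
    ⟨-2,0,2,0,0,2,2,0⟩,
    ⟨-2,0,2,0,2,0,-2,0⟩,
    ⟨-2,0,2,0,2,0,0,-2⟩,
    ⟨-2,0,2,0,2,0,0,2⟩,
    ⟨-2,0,2,0,2,0,2,0⟩,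
    ⟨-2,0,3,-1,-3,-1,0,0⟩,
    ⟨-2,0,3,-1,-1,1,0,0⟩,
    ⟨-2,0,3,-1,1,-1,0,0⟩,
    ⟨-2,0,3,-1,3,1,0,0⟩,
    ⟨-2,0,3,1,0,0,-3,1⟩,
    ⟨-2,0,3,1,0,0,-1,-1⟩,
    ⟨-2,0,3,1,0,0,1,1⟩,
    ⟨-2,0,3,1,0,0,3,-1⟩,
    ⟨-2,0,4,0,-1,-1,-1,1⟩,
    ⟨-2,0,4,0,-1,-1,1,-1⟩,
    ⟨-2,0,4,0,1,1,-1,1⟩,
    ⟨-2,0,4,0,1,1,1,-1⟩,
    ⟨-2,2,0,0,0,0,0,0⟩,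
    ⟨-1,-1,-4,0,-1,1,-2,0⟩,
    ⟨-1,-1,-4,0,-1,1,2,0⟩,
    ⟨-1,-1,-4,0,1,-1,-2,0⟩,
    ⟨-1,-1,-4,0,1,-1,2,0⟩,
    ⟨-1,-1,-3,-1,-2,0,0,0⟩,
    ⟨-1,-1,-3,-1,2,0,0,0⟩,
    ⟨-1,-1,-3,1,-1,-1,-1,-1⟩,
    ⟨-1,-1,-3,1,-1,-1,1,1⟩,
    ⟨-1,-1,-3,1,1,1,-1,-1⟩,
    ⟨-1,-1,-3,1,1,1,1,1⟩,
    ⟨-1,-1,-2,0,-4,0,-1,1⟩,
    ⟨-1,-1,-2,0,-4,0,1,-1⟩,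
    ⟨-1,-1,-2,0,0,0,-3,-1⟩,
    ⟨-1,-1,-2,0,0,0,-1,1⟩,
    ⟨-1,-1,-2,0,0,0,1,-1⟩,
    ⟨-1,-1,-2,0,0,0,3,1⟩,
    ⟨-1,-1,-2,0,4,0,-1,1⟩,
    ⟨-1,-1,-2,0,4,0,1,-1⟩,
    ⟨-1,-1,-1,-1,-3,1,-1,-1⟩,
    ⟨-1,-1,-1,-1,-3,1,1,1⟩,
    ⟨-1,-1,-1,-1,-1,-1,-3,1⟩,
    ⟨-1,-1,-1,-1,-1,-1,-1,-1⟩,
    ⟨-1,-1,-1,-1,-1,-1,1,1⟩,
    ⟨-1,-1,-1,-1,-1,-1,3,-1⟩,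
    ⟨-1,-1,-1,-1,1,1,-3,1⟩,
    ⟨-1,-1,-1,-1,1,1,-1,-1⟩,
    ⟨-1,-1,-1,-1,1,1,1,1⟩,
    ⟨-1,-1,-1,-1,1,1,3,-1⟩,
    ⟨-1,-1,-1,-1,3,-1,-1,-1⟩,
    ⟨-1,-1,-1,-1,3,-1,1,1⟩,
    ⟨-1,-1,-1,1,-2,0,-4,0⟩,
    ⟨-1,-1,-1,1,-2,0,0,0⟩,
    ⟨-1,-1,-1,1,-2,0,4,0⟩,
    ⟨-1,-1,-1,1,0,-2,0,0⟩,
    ⟨-1,-1,-1,1,0,2,0,0⟩,
    ⟨-1,-1,-1,1,2,0,-4,0⟩,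
    ⟨-1,-1,-1,1,2,0,0,0⟩,
    ⟨-1,-1,-1,1,2,0,4,0⟩,
    ⟨-1,-1,0,-2,0,0,-1,1⟩]

/-- part of `small` -/
def smallPart2 : List IQ :=
  [⟨-1,-1,0,-2,0,0,1,-1⟩,
    ⟨-1,-1,0,0,-3,-1,-2,0⟩,
    ⟨-1,-1,0,0,-3,-1,2,0⟩,
    ⟨-1,-1,0,0,-1,1,-2,0⟩,
    ⟨-1,-1,0,0,-1,1,0,-2⟩,
    ⟨-1,-1,0,0,-1,1,0,2⟩,
    ⟨-1,-1,0,0,-1,1,2,0⟩,
    ⟨-1,-1,0,0,1,-1,-2,0⟩,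
    ⟨-1,-1,0,0,1,-1,0,-2⟩,
    ⟨-1,-1,0,0,1,-1,0,2⟩,
    ⟨-1,-1,0,0,1,-1,2,0⟩,
    ⟨-1,-1,0,0,3,1,-2,0⟩,
    ⟨-1,-1,0,0,3,1,2,0⟩,
    ⟨-1,-1,0,2,0,0,-1,1⟩,
    ⟨-1,-1,0,2,0,0,1,-1⟩,
    ⟨-1,-1,1,-1,-2,0,-4,0⟩,
    ⟨-1,-1,1,-1,-2,0,0,0⟩,
    ⟨-1,-1,1,-1,-2,0,4,0⟩,
    ⟨-1,-1,1,-1,0,-2,0,0⟩,
    ⟨-1,-1,1,-1,0,2,0,0⟩,
    ⟨-1,-1,1,-1,2,0,-4,0⟩,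
    ⟨-1,-1,1,-1,2,0,0,0⟩,
    ⟨-1,-1,1,-1,2,0,4,0⟩,
    ⟨-1,-1,1,1,-3,1,-1,-1⟩,
    ⟨-1,-1,1,1,-3,1,1,1⟩,
    ⟨-1,-1,1,1,-1,-1,-3,1⟩,
    ⟨-1,-1,1,1,-1,-1,-1,-1⟩,
    ⟨-1,-1,1,1,-1,-1,1,1⟩,
    ⟨-1,-1,1,1,-1,-1,3,-1⟩,
    ⟨-1,-1,1,1,1,1,-3,1⟩,
    ⟨-1,-1,1,1,1,1,-1,-1⟩,
    ⟨-1,-1,1,1,1,1,1,1⟩,
    ⟨-1,-1,1,1,1,1,3,-1⟩,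
    ⟨-1,-1,1,1,3,-1,-1,-1⟩,
    ⟨-1,-1,1,1,3,-1,1,1⟩,
    ⟨-1,-1,2,0,-4,0,-1,1⟩,
    ⟨-1,-1,2,0,-4,0,1,-1⟩,
    ⟨-1,-1,2,0,0,0,-3,-1⟩,
    ⟨-1,-1,2,0,0,0,-1,1⟩,
    ⟨-1,-1,2,0,0,0,1,-1⟩,
    ⟨-1,-1,2,0,0,0,3,1⟩,
    ⟨-1,-1,2,0,4,0,-1,1⟩,
    ⟨-1,-1,2,0,4,0,1,-1⟩,
    ⟨-1,-1,3,-1,-1,-1,-1,-1⟩,
    ⟨-1,-1,3,-1,-1,-1,1,1⟩,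
    ⟨-1,-1,3,-1,1,1,-1,-1⟩,
    ⟨-1,-1,3,-1,1,1,1,1⟩,
    ⟨-1,-1,3,1,-2,0,0,0⟩,
    ⟨-1,-1,3,1,2,0,0,0⟩,
    ⟨-1,-1,4,0,-1,1,-2,0⟩,
    ⟨-1,-1,4,0,-1,1,2,0⟩,
    ⟨-1,-1,4,0,1,-1,-2,0⟩,
    ⟨-1,-1,4,0,1,-1,2,0⟩,
    ⟨-1,1,-4,0,-2,0,-1,-1⟩,
    ⟨-1,1,-4,0,-2,0,1,1⟩,
    ⟨-1,1,-4,0,2,0,-1,-1⟩,
    ⟨-1,1,-4,0,2,0,1,1⟩,
    ⟨-1,1,-3,-1,-1,1,-1,1⟩,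
    ⟨-1,1,-3,-1,-1,1,1,-1⟩,
    ⟨-1,1,-3,-1,1,-1,-1,1⟩,
    ⟨-1,1,-3,-1,1,-1,1,-1⟩,
    ⟨-1,1,-3,1,0,0,-2,0⟩,
    ⟨-1,1,-3,1,0,0,2,0⟩,
    ⟨-1,1,-2,0,-3,1,0,0⟩,
    ⟨-1,1,-2,0,-1,-1,-4,0⟩,
    ⟨-1,1,-2,0,-1,-1,0,0⟩,
    ⟨-1,1,-2,0,-1,-1,4,0⟩,
    ⟨-1,1,-2,0,1,1,-4,0⟩,
    ⟨-1,1,-2,0,1,1,0,0⟩,
    ⟨-1,1,-2,0,1,1,4,0⟩,
    ⟨-1,1,-2,0,3,-1,0,0⟩,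
    ⟨-1,1,-1,-1,-4,0,-2,0⟩,
    ⟨-1,1,-1,-1,-4,0,2,0⟩,
    ⟨-1,1,-1,-1,0,0,-2,0⟩,
    ⟨-1,1,-1,-1,0,0,0,-2⟩,
    ⟨-1,1,-1,-1,0,0,0,2⟩,
    ⟨-1,1,-1,-1,0,0,2,0⟩,
    ⟨-1,1,-1,-1,4,0,-2,0⟩,
    ⟨-1,1,-1,-1,4,0,2,0⟩,
    ⟨-1,1,-1,1,-3,-1,-1,1⟩,
    ⟨-1,1,-1,1,-3,-1,1,-1⟩,
    ⟨-1,1,-1,1,-1,1,-3,-1⟩,
    ⟨-1,1,-1,1,-1,1,-1,1⟩,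
    ⟨-1,1,-1,1,-1,1,1,-1⟩,
    ⟨-1,1,-1,1,-1,1,3,1⟩,
    ⟨-1,1,-1,1,1,-1,-3,-1⟩,
    ⟨-1,1,-1,1,1,-1,-1,1⟩,
    ⟨-1,1,-1,1,1,-1,1,-1⟩,
    ⟨-1,1,-1,1,1,-1,3,1⟩,
    ⟨-1,1,-1,1,3,1,-1,1⟩,
    ⟨-1,1,-1,1,3,1,1,-1⟩,
    ⟨-1,1,0,-2,-1,-1,0,0⟩,
    ⟨-1,1,0,-2,1,1,0,0⟩,
    ⟨-1,1,0,0,-2,0,-3,1⟩,
    ⟨-1,1,0,0,-2,0,-1,-1⟩,
    ⟨-1,1,0,0,-2,0,1,1⟩,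
    ⟨-1,1,0,0,-2,0,3,-1⟩,
    ⟨-1,1,0,0,0,-2,-1,-1⟩,
    ⟨-1,1,0,0,0,-2,1,1⟩,
    ⟨-1,1,0,0,0,2,-1,-1⟩,
    ⟨-1,1,0,0,0,2,1,1⟩,
    ⟨-1,1,0,0,2,0,-3,1⟩,
    ⟨-1,1,0,0,2,0,-1,-1⟩,
    ⟨-1,1,0,0,2,0,1,1⟩,
    ⟨-1,1,0,0,2,0,3,-1⟩,
    ⟨-1,1,0,2,-1,-1,0,0⟩,
    ⟨-1,1,0,2,1,1,0,0⟩,
    ⟨-1,1,1,-1,-3,-1,-1,1⟩,
    ⟨-1,1,1,-1,-3,-1,1,-1⟩,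
    ⟨-1,1,1,-1,-1,1,-3,-1⟩,
    ⟨-1,1,1,-1,-1,1,-1,1⟩,
    ⟨-1,1,1,-1,-1,1,1,-1⟩,
    ⟨-1,1,1,-1,-1,1,3,1⟩,
    ⟨-1,1,1,-1,1,-1,-3,-1⟩,
    ⟨-1,1,1,-1,1,-1,-1,1⟩,
    ⟨-1,1,1,-1,1,-1,1,-1⟩,
    ⟨-1,1,1,-1,1,-1,3,1⟩,
    ⟨-1,1,1,-1,3,1,-1,1⟩,
    ⟨-1,1,1,-1,3,1,1,-1⟩,
    ⟨-1,1,1,1,-4,0,-2,0⟩]

/-- part of `small` -/
def smallPart3 : List IQ :=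
  [⟨-1,1,1,1,-4,0,2,0⟩,
    ⟨-1,1,1,1,0,0,-2,0⟩,
    ⟨-1,1,1,1,0,0,0,-2⟩,
    ⟨-1,1,1,1,0,0,0,2⟩,
    ⟨-1,1,1,1,0,0,2,0⟩,
    ⟨-1,1,1,1,4,0,-2,0⟩,
    ⟨-1,1,1,1,4,0,2,0⟩,
    ⟨-1,1,2,0,-3,1,0,0⟩,
    ⟨-1,1,2,0,-1,-1,-4,0⟩,
    ⟨-1,1,2,0,-1,-1,0,0⟩,
    ⟨-1,1,2,0,-1,-1,4,0⟩,
    ⟨-1,1,2,0,1,1,-4,0⟩,
    ⟨-1,1,2,0,1,1,0,0⟩,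
    ⟨-1,1,2,0,1,1,4,0⟩,
    ⟨-1,1,2,0,3,-1,0,0⟩,
    ⟨-1,1,3,-1,0,0,-2,0⟩,
    ⟨-1,1,3,-1,0,0,2,0⟩,
    ⟨-1,1,3,1,-1,1,-1,1⟩,
    ⟨-1,1,3,1,-1,1,1,-1⟩,
    ⟨-1,1,3,1,1,-1,-1,1⟩,
    ⟨-1,1,3,1,1,-1,1,-1⟩,
    ⟨-1,1,4,0,-2,0,-1,-1⟩,
    ⟨-1,1,4,0,-2,0,1,1⟩,
    ⟨-1,1,4,0,2,0,-1,-1⟩,
    ⟨-1,1,4,0,2,0,1,1⟩,
    ⟨0,-2,-2,0,-2,0,-2,0⟩,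
    ⟨0,-2,-2,0,-2,0,2,0⟩,
    ⟨0,-2,-2,0,2,0,-2,0⟩,
    ⟨0,-2,-2,0,2,0,2,0⟩,
    ⟨0,-2,-1,-1,-1,1,0,0⟩,
    ⟨0,-2,-1,-1,1,-1,0,0⟩,
    ⟨0,-2,-1,1,0,0,-1,-1⟩,
    ⟨0,-2,-1,1,0,0,1,1⟩,
    ⟨0,-2,0,0,-1,-1,-1,1⟩,
    ⟨0,-2,0,0,-1,-1,1,-1⟩,
    ⟨0,-2,0,0,1,1,-1,1⟩,
    ⟨0,-2,0,0,1,1,1,-1⟩,
    ⟨0,-2,1,-1,0,0,-1,-1⟩,
    ⟨0,-2,1,-1,0,0,1,1⟩,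
    ⟨0,-2,1,1,-1,1,0,0⟩,
    ⟨0,-2,1,1,1,-1,0,0⟩,
    ⟨0,-2,2,0,-2,0,-2,0⟩,
    ⟨0,-2,2,0,-2,0,2,0⟩,
    ⟨0,-2,2,0,2,0,-2,0⟩,
    ⟨0,-2,2,0,2,0,2,0⟩,
    ⟨0,0,-4,0,-4,0,0,0⟩,
    ⟨0,0,-4,0,0,0,-4,0⟩,
    ⟨0,0,-4,0,0,0,0,0⟩,
    ⟨0,0,-4,0,0,0,4,0⟩,
    ⟨0,0,-4,0,4,0,0,0⟩,
    ⟨0,0,-3,-1,-3,1,-2,0⟩,
    ⟨0,0,-3,-1,-3,1,2,0⟩,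
    ⟨0,0,-3,-1,-1,-1,-2,0⟩,
    ⟨0,0,-3,-1,-1,-1,2,0⟩,
    ⟨0,0,-3,-1,1,1,-2,0⟩,
    ⟨0,0,-3,-1,1,1,2,0⟩,
    ⟨0,0,-3,-1,3,-1,-2,0⟩,
    ⟨0,0,-3,-1,3,-1,2,0⟩,
    ⟨0,0,-3,1,-2,0,-3,-1⟩,
    ⟨0,0,-3,1,-2,0,-1,1⟩,
    ⟨0,0,-3,1,-2,0,1,-1⟩,
    ⟨0,0,-3,1,-2,0,3,1⟩,
    ⟨0,0,-3,1,2,0,-3,-1⟩,
    ⟨0,0,-3,1,2,0,-1,1⟩,
    ⟨0,0,-3,1,2,0,1,-1⟩,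
    ⟨0,0,-3,1,2,0,3,1⟩,
    ⟨0,0,-2,-2,0,0,0,0⟩,
    ⟨0,0,-2,0,-3,-1,-3,1⟩,
    ⟨0,0,-2,0,-3,-1,-1,-1⟩,
    ⟨0,0,-2,0,-3,-1,1,1⟩,
    ⟨0,0,-2,0,-3,-1,3,-1⟩,
    ⟨0,0,-2,0,-1,1,-3,1⟩,
    ⟨0,0,-2,0,-1,1,-1,-1⟩,
    ⟨0,0,-2,0,-1,1,1,1⟩,
    ⟨0,0,-2,0,-1,1,3,-1⟩,
    ⟨0,0,-2,0,1,-1,-3,1⟩,
    ⟨0,0,-2,0,1,-1,-1,-1⟩,
    ⟨0,0,-2,0,1,-1,1,1⟩,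
    ⟨0,0,-2,0,1,-1,3,-1⟩,
    ⟨0,0,-2,0,3,1,-3,1⟩,
    ⟨0,0,-2,0,3,1,-1,-1⟩,
    ⟨0,0,-2,0,3,1,1,1⟩,
    ⟨0,0,-2,0,3,1,3,-1⟩,
    ⟨0,0,-2,2,0,0,0,0⟩,
    ⟨0,0,-1,-1,-2,0,-3,-1⟩,
    ⟨0,0,-1,-1,-2,0,-1,1⟩,
    ⟨0,0,-1,-1,-2,0,1,-1⟩,
    ⟨0,0,-1,-1,-2,0,3,1⟩,
    ⟨0,0,-1,-1,0,-2,-1,1⟩,
    ⟨0,0,-1,-1,0,-2,1,-1⟩,
    ⟨0,0,-1,-1,0,2,-1,1⟩,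
    ⟨0,0,-1,-1,0,2,1,-1⟩,
    ⟨0,0,-1,-1,2,0,-3,-1⟩,
    ⟨0,0,-1,-1,2,0,-1,1⟩,
    ⟨0,0,-1,-1,2,0,1,-1⟩,
    ⟨0,0,-1,-1,2,0,3,1⟩,
    ⟨0,0,-1,1,-3,1,-2,0⟩,
    ⟨0,0,-1,1,-3,1,2,0⟩,
    ⟨0,0,-1,1,-1,-1,-2,0⟩,
    ⟨0,0,-1,1,-1,-1,0,-2⟩,
    ⟨0,0,-1,1,-1,-1,0,2⟩,
    ⟨0,0,-1,1,-1,-1,2,0⟩,
    ⟨0,0,-1,1,1,1,-2,0⟩,
    ⟨0,0,-1,1,1,1,0,-2⟩,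
    ⟨0,0,-1,1,1,1,0,2⟩,
    ⟨0,0,-1,1,1,1,2,0⟩,
    ⟨0,0,-1,1,3,-1,-2,0⟩,
    ⟨0,0,-1,1,3,-1,2,0⟩,
    ⟨0,0,0,-2,-1,1,-1,-1⟩,
    ⟨0,0,0,-2,-1,1,1,1⟩,
    ⟨0,0,0,-2,1,-1,-1,-1⟩,
    ⟨0,0,0,-2,1,-1,1,1⟩,
    ⟨0,0,0,0,-4,0,-4,0⟩,
    ⟨0,0,0,0,-4,0,0,0⟩,
    ⟨0,0,0,0,-4,0,4,0⟩,
    ⟨0,0,0,0,-2,-2,0,0⟩,
    ⟨0,0,0,0,-2,2,0,0⟩,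
    ⟨0,0,0,0,0,0,-4,0⟩,
    ⟨0,0,0,0,0,0,-2,-2⟩,
    ⟨0,0,0,0,0,0,-2,2⟩]

/-- part of `small` -/
def smallPart4 : List IQ :=
  [⟨0,0,0,0,0,0,0,0⟩,
    ⟨0,0,0,0,0,0,2,-2⟩,
    ⟨0,0,0,0,0,0,2,2⟩,
    ⟨0,0,0,0,0,0,4,0⟩,
    ⟨0,0,0,0,2,-2,0,0⟩,
    ⟨0,0,0,0,2,2,0,0⟩,
    ⟨0,0,0,0,4,0,-4,0⟩,
    ⟨0,0,0,0,4,0,0,0⟩,
    ⟨0,0,0,0,4,0,4,0⟩,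
    ⟨0,0,0,2,-1,1,-1,-1⟩,
    ⟨0,0,0,2,-1,1,1,1⟩,
    ⟨0,0,0,2,1,-1,-1,-1⟩,
    ⟨0,0,0,2,1,-1,1,1⟩,
    ⟨0,0,1,-1,-3,1,-2,0⟩,
    ⟨0,0,1,-1,-3,1,2,0⟩,
    ⟨0,0,1,-1,-1,-1,-2,0⟩,
    ⟨0,0,1,-1,-1,-1,0,-2⟩,
    ⟨0,0,1,-1,-1,-1,0,2⟩,
    ⟨0,0,1,-1,-1,-1,2,0⟩,
    ⟨0,0,1,-1,1,1,-2,0⟩,
    ⟨0,0,1,-1,1,1,0,-2⟩,
    ⟨0,0,1,-1,1,1,0,2⟩,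
    ⟨0,0,1,-1,1,1,2,0⟩,
    ⟨0,0,1,-1,3,-1,-2,0⟩,
    ⟨0,0,1,-1,3,-1,2,0⟩,
    ⟨0,0,1,1,-2,0,-3,-1⟩,
    ⟨0,0,1,1,-2,0,-1,1⟩,
    ⟨0,0,1,1,-2,0,1,-1⟩,
    ⟨0,0,1,1,-2,0,3,1⟩,
    ⟨0,0,1,1,0,-2,-1,1⟩,
    ⟨0,0,1,1,0,-2,1,-1⟩,
    ⟨0,0,1,1,0,2,-1,1⟩,
    ⟨0,0,1,1,0,2,1,-1⟩,
    ⟨0,0,1,1,2,0,-3,-1⟩,
    ⟨0,0,1,1,2,0,-1,1⟩,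
    ⟨0,0,1,1,2,0,1,-1⟩,
    ⟨0,0,1,1,2,0,3,1⟩,
    ⟨0,0,2,-2,0,0,0,0⟩,
    ⟨0,0,2,0,-3,-1,-3,1⟩,
    ⟨0,0,2,0,-3,-1,-1,-1⟩,
    ⟨0,0,2,0,-3,-1,1,1⟩,
    ⟨0,0,2,0,-3,-1,3,-1⟩,
    ⟨0,0,2,0,-1,1,-3,1⟩,
    ⟨0,0,2,0,-1,1,-1,-1⟩,
    ⟨0,0,2,0,-1,1,1,1⟩,
    ⟨0,0,2,0,-1,1,3,-1⟩,
    ⟨0,0,2,0,1,-1,-3,1⟩,
    ⟨0,0,2,0,1,-1,-1,-1⟩,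
    ⟨0,0,2,0,1,-1,1,1⟩,
    ⟨0,0,2,0,1,-1,3,-1⟩,
    ⟨0,0,2,0,3,1,-3,1⟩,
    ⟨0,0,2,0,3,1,-1,-1⟩,
    ⟨0,0,2,0,3,1,1,1⟩,
    ⟨0,0,2,0,3,1,3,-1⟩,
    ⟨0,0,2,2,0,0,0,0⟩,
    ⟨0,0,3,-1,-2,0,-3,-1⟩,
    ⟨0,0,3,-1,-2,0,-1,1⟩,
    ⟨0,0,3,-1,-2,0,1,-1⟩,
    ⟨0,0,3,-1,-2,0,3,1⟩,
    ⟨0,0,3,-1,2,0,-3,-1⟩,
    ⟨0,0,3,-1,2,0,-1,1⟩,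
    ⟨0,0,3,-1,2,0,1,-1⟩,
    ⟨0,0,3,-1,2,0,3,1⟩,
    ⟨0,0,3,1,-3,1,-2,0⟩,
    ⟨0,0,3,1,-3,1,2,0⟩,
    ⟨0,0,3,1,-1,-1,-2,0⟩,
    ⟨0,0,3,1,-1,-1,2,0⟩,
    ⟨0,0,3,1,1,1,-2,0⟩,
    ⟨0,0,3,1,1,1,2,0⟩,
    ⟨0,0,3,1,3,-1,-2,0⟩,
    ⟨0,0,3,1,3,-1,2,0⟩,
    ⟨0,0,4,0,-4,0,0,0⟩,
    ⟨0,0,4,0,0,0,-4,0⟩,
    ⟨0,0,4,0,0,0,0,0⟩,
    ⟨0,0,4,0,0,0,4,0⟩,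
    ⟨0,0,4,0,4,0,0,0⟩,
    ⟨0,2,-2,0,-2,0,-2,0⟩,
    ⟨0,2,-2,0,-2,0,2,0⟩,
    ⟨0,2,-2,0,2,0,-2,0⟩,
    ⟨0,2,-2,0,2,0,2,0⟩,
    ⟨0,2,-1,-1,-1,1,0,0⟩,
    ⟨0,2,-1,-1,1,-1,0,0⟩,
    ⟨0,2,-1,1,0,0,-1,-1⟩,
    ⟨0,2,-1,1,0,0,1,1⟩,
    ⟨0,2,0,0,-1,-1,-1,1⟩,
    ⟨0,2,0,0,-1,-1,1,-1⟩,
    ⟨0,2,0,0,1,1,-1,1⟩,
    ⟨0,2,0,0,1,1,1,-1⟩,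
    ⟨0,2,1,-1,0,0,-1,-1⟩,
    ⟨0,2,1,-1,0,0,1,1⟩,
    ⟨0,2,1,1,-1,1,0,0⟩,
    ⟨0,2,1,1,1,-1,0,0⟩,
    ⟨0,2,2,0,-2,0,-2,0⟩,
    ⟨0,2,2,0,-2,0,2,0⟩,
    ⟨0,2,2,0,2,0,-2,0⟩,
    ⟨0,2,2,0,2,0,2,0⟩,
    ⟨1,-1,-4,0,-2,0,-1,-1⟩,
    ⟨1,-1,-4,0,-2,0,1,1⟩,
    ⟨1,-1,-4,0,2,0,-1,-1⟩,
    ⟨1,-1,-4,0,2,0,1,1⟩,
    ⟨1,-1,-3,-1,-1,1,-1,1⟩,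
    ⟨1,-1,-3,-1,-1,1,1,-1⟩,
    ⟨1,-1,-3,-1,1,-1,-1,1⟩,
    ⟨1,-1,-3,-1,1,-1,1,-1⟩,
    ⟨1,-1,-3,1,0,0,-2,0⟩,
    ⟨1,-1,-3,1,0,0,2,0⟩,
    ⟨1,-1,-2,0,-3,1,0,0⟩,
    ⟨1,-1,-2,0,-1,-1,-4,0⟩,
    ⟨1,-1,-2,0,-1,-1,0,0⟩,
    ⟨1,-1,-2,0,-1,-1,4,0⟩,
    ⟨1,-1,-2,0,1,1,-4,0⟩,
    ⟨1,-1,-2,0,1,1,0,0⟩,
    ⟨1,-1,-2,0,1,1,4,0⟩,
    ⟨1,-1,-2,0,3,-1,0,0⟩,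
    ⟨1,-1,-1,-1,-4,0,-2,0⟩,
    ⟨1,-1,-1,-1,-4,0,2,0⟩,
    ⟨1,-1,-1,-1,0,0,-2,0⟩,
    ⟨1,-1,-1,-1,0,0,0,-2⟩,
    ⟨1,-1,-1,-1,0,0,0,2⟩,
    ⟨1,-1,-1,-1,0,0,2,0⟩]

/-- part of `small` -/
def smallPart5 : List IQ :=
  [⟨1,-1,-1,-1,4,0,-2,0⟩,
    ⟨1,-1,-1,-1,4,0,2,0⟩,
    ⟨1,-1,-1,1,-3,-1,-1,1⟩,
    ⟨1,-1,-1,1,-3,-1,1,-1⟩,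
    ⟨1,-1,-1,1,-1,1,-3,-1⟩,
    ⟨1,-1,-1,1,-1,1,-1,1⟩,
    ⟨1,-1,-1,1,-1,1,1,-1⟩,
    ⟨1,-1,-1,1,-1,1,3,1⟩,
    ⟨1,-1,-1,1,1,-1,-3,-1⟩,
    ⟨1,-1,-1,1,1,-1,-1,1⟩,
    ⟨1,-1,-1,1,1,-1,1,-1⟩,
    ⟨1,-1,-1,1,1,-1,3,1⟩,
    ⟨1,-1,-1,1,3,1,-1,1⟩,
    ⟨1,-1,-1,1,3,1,1,-1⟩,
    ⟨1,-1,0,-2,-1,-1,0,0⟩,
    ⟨1,-1,0,-2,1,1,0,0⟩,
    ⟨1,-1,0,0,-2,0,-3,1⟩,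
    ⟨1,-1,0,0,-2,0,-1,-1⟩,
    ⟨1,-1,0,0,-2,0,1,1⟩,
    ⟨1,-1,0,0,-2,0,3,-1⟩,
    ⟨1,-1,0,0,0,-2,-1,-1⟩,
    ⟨1,-1,0,0,0,-2,1,1⟩,
    ⟨1,-1,0,0,0,2,-1,-1⟩,
    ⟨1,-1,0,0,0,2,1,1⟩,
    ⟨1,-1,0,0,2,0,-3,1⟩,
    ⟨1,-1,0,0,2,0,-1,-1⟩,
    ⟨1,-1,0,0,2,0,1,1⟩,
    ⟨1,-1,0,0,2,0,3,-1⟩,
    ⟨1,-1,0,2,-1,-1,0,0⟩,
    ⟨1,-1,0,2,1,1,0,0⟩,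
    ⟨1,-1,1,-1,-3,-1,-1,1⟩,
    ⟨1,-1,1,-1,-3,-1,1,-1⟩,
    ⟨1,-1,1,-1,-1,1,-3,-1⟩,
    ⟨1,-1,1,-1,-1,1,-1,1⟩,
    ⟨1,-1,1,-1,-1,1,1,-1⟩,
    ⟨1,-1,1,-1,-1,1,3,1⟩,
    ⟨1,-1,1,-1,1,-1,-3,-1⟩,
    ⟨1,-1,1,-1,1,-1,-1,1⟩,
    ⟨1,-1,1,-1,1,-1,1,-1⟩,
    ⟨1,-1,1,-1,1,-1,3,1⟩,
    ⟨1,-1,1,-1,3,1,-1,1⟩,
    ⟨1,-1,1,-1,3,1,1,-1⟩,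
    ⟨1,-1,1,1,-4,0,-2,0⟩,
    ⟨1,-1,1,1,-4,0,2,0⟩,
    ⟨1,-1,1,1,0,0,-2,0⟩,
    ⟨1,-1,1,1,0,0,0,-2⟩,
    ⟨1,-1,1,1,0,0,0,2⟩,
    ⟨1,-1,1,1,0,0,2,0⟩,
    ⟨1,-1,1,1,4,0,-2,0⟩,
    ⟨1,-1,1,1,4,0,2,0⟩,
    ⟨1,-1,2,0,-3,1,0,0⟩,
    ⟨1,-1,2,0,-1,-1,-4,0⟩,
    ⟨1,-1,2,0,-1,-1,0,0⟩,
    ⟨1,-1,2,0,-1,-1,4,0⟩,
    ⟨1,-1,2,0,1,1,-4,0⟩,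
    ⟨1,-1,2,0,1,1,0,0⟩,
    ⟨1,-1,2,0,1,1,4,0⟩,
    ⟨1,-1,2,0,3,-1,0,0⟩,
    ⟨1,-1,3,-1,0,0,-2,0⟩,
    ⟨1,-1,3,-1,0,0,2,0⟩,
    ⟨1,-1,3,1,-1,1,-1,1⟩,
    ⟨1,-1,3,1,-1,1,1,-1⟩,
    ⟨1,-1,3,1,1,-1,-1,1⟩,
    ⟨1,-1,3,1,1,-1,1,-1⟩,
    ⟨1,-1,4,0,-2,0,-1,-1⟩,
    ⟨1,-1,4,0,-2,0,1,1⟩,
    ⟨1,-1,4,0,2,0,-1,-1⟩,
    ⟨1,-1,4,0,2,0,1,1⟩,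
    ⟨1,1,-4,0,-1,1,-2,0⟩,
    ⟨1,1,-4,0,-1,1,2,0⟩,
    ⟨1,1,-4,0,1,-1,-2,0⟩,
    ⟨1,1,-4,0,1,-1,2,0⟩,
    ⟨1,1,-3,-1,-2,0,0,0⟩,
    ⟨1,1,-3,-1,2,0,0,0⟩,
    ⟨1,1,-3,1,-1,-1,-1,-1⟩,
    ⟨1,1,-3,1,-1,-1,1,1⟩,
    ⟨1,1,-3,1,1,1,-1,-1⟩,
    ⟨1,1,-3,1,1,1,1,1⟩,
    ⟨1,1,-2,0,-4,0,-1,1⟩,
    ⟨1,1,-2,0,-4,0,1,-1⟩,
    ⟨1,1,-2,0,0,0,-3,-1⟩,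
    ⟨1,1,-2,0,0,0,-1,1⟩,
    ⟨1,1,-2,0,0,0,1,-1⟩,
    ⟨1,1,-2,0,0,0,3,1⟩,
    ⟨1,1,-2,0,4,0,-1,1⟩,
    ⟨1,1,-2,0,4,0,1,-1⟩,
    ⟨1,1,-1,-1,-3,1,-1,-1⟩,
    ⟨1,1,-1,-1,-3,1,1,1⟩,
    ⟨1,1,-1,-1,-1,-1,-3,1⟩,
    ⟨1,1,-1,-1,-1,-1,-1,-1⟩,
    ⟨1,1,-1,-1,-1,-1,1,1⟩,
    ⟨1,1,-1,-1,-1,-1,3,-1⟩,
    ⟨1,1,-1,-1,1,1,-3,1⟩,
    ⟨1,1,-1,-1,1,1,-1,-1⟩,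
    ⟨1,1,-1,-1,1,1,1,1⟩,
    ⟨1,1,-1,-1,1,1,3,-1⟩,
    ⟨1,1,-1,-1,3,-1,-1,-1⟩,
    ⟨1,1,-1,-1,3,-1,1,1⟩,
    ⟨1,1,-1,1,-2,0,-4,0⟩,
    ⟨1,1,-1,1,-2,0,0,0⟩,
    ⟨1,1,-1,1,-2,0,4,0⟩,
    ⟨1,1,-1,1,0,-2,0,0⟩,
    ⟨1,1,-1,1,0,2,0,0⟩,
    ⟨1,1,-1,1,2,0,-4,0⟩,
    ⟨1,1,-1,1,2,0,0,0⟩,
    ⟨1,1,-1,1,2,0,4,0⟩,
    ⟨1,1,0,-2,0,0,-1,1⟩,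
    ⟨1,1,0,-2,0,0,1,-1⟩,
    ⟨1,1,0,0,-3,-1,-2,0⟩,
    ⟨1,1,0,0,-3,-1,2,0⟩,
    ⟨1,1,0,0,-1,1,-2,0⟩,
    ⟨1,1,0,0,-1,1,0,-2⟩,
    ⟨1,1,0,0,-1,1,0,2⟩,
    ⟨1,1,0,0,-1,1,2,0⟩,
    ⟨1,1,0,0,1,-1,-2,0⟩,
    ⟨1,1,0,0,1,-1,0,-2⟩,
    ⟨1,1,0,0,1,-1,0,2⟩,
    ⟨1,1,0,0,1,-1,2,0⟩,
    ⟨1,1,0,0,3,1,-2,0⟩,
    ⟨1,1,0,0,3,1,2,0⟩]

/-- part of `small` -/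
def smallPart6 : List IQ :=
  [⟨1,1,0,2,0,0,-1,1⟩,
    ⟨1,1,0,2,0,0,1,-1⟩,
    ⟨1,1,1,-1,-2,0,-4,0⟩,
    ⟨1,1,1,-1,-2,0,0,0⟩,
    ⟨1,1,1,-1,-2,0,4,0⟩,
    ⟨1,1,1,-1,0,-2,0,0⟩,
    ⟨1,1,1,-1,0,2,0,0⟩,
    ⟨1,1,1,-1,2,0,-4,0⟩,
    ⟨1,1,1,-1,2,0,0,0⟩,
    ⟨1,1,1,-1,2,0,4,0⟩,
    ⟨1,1,1,1,-3,1,-1,-1⟩,
    ⟨1,1,1,1,-3,1,1,1⟩,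
    ⟨1,1,1,1,-1,-1,-3,1⟩,
    ⟨1,1,1,1,-1,-1,-1,-1⟩,
    ⟨1,1,1,1,-1,-1,1,1⟩,
    ⟨1,1,1,1,-1,-1,3,-1⟩,
    ⟨1,1,1,1,1,1,-3,1⟩,
    ⟨1,1,1,1,1,1,-1,-1⟩,
    ⟨1,1,1,1,1,1,1,1⟩,
    ⟨1,1,1,1,1,1,3,-1⟩,
    ⟨1,1,1,1,3,-1,-1,-1⟩,
    ⟨1,1,1,1,3,-1,1,1⟩,
    ⟨1,1,2,0,-4,0,-1,1⟩,
    ⟨1,1,2,0,-4,0,1,-1⟩,
    ⟨1,1,2,0,0,0,-3,-1⟩,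
    ⟨1,1,2,0,0,0,-1,1⟩,
    ⟨1,1,2,0,0,0,1,-1⟩,
    ⟨1,1,2,0,0,0,3,1⟩,
    ⟨1,1,2,0,4,0,-1,1⟩,
    ⟨1,1,2,0,4,0,1,-1⟩,
    ⟨1,1,3,-1,-1,-1,-1,-1⟩,
    ⟨1,1,3,-1,-1,-1,1,1⟩,
    ⟨1,1,3,-1,1,1,-1,-1⟩,
    ⟨1,1,3,-1,1,1,1,1⟩,
    ⟨1,1,3,1,-2,0,0,0⟩,
    ⟨1,1,3,1,2,0,0,0⟩,
    ⟨1,1,4,0,-1,1,-2,0⟩,
    ⟨1,1,4,0,-1,1,2,0⟩,
    ⟨1,1,4,0,1,-1,-2,0⟩,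
    ⟨1,1,4,0,1,-1,2,0⟩,
    ⟨2,-2,0,0,0,0,0,0⟩,
    ⟨2,0,-4,0,-1,-1,-1,1⟩,
    ⟨2,0,-4,0,-1,-1,1,-1⟩,
    ⟨2,0,-4,0,1,1,-1,1⟩,
    ⟨2,0,-4,0,1,1,1,-1⟩,
    ⟨2,0,-3,-1,0,0,-3,1⟩,
    ⟨2,0,-3,-1,0,0,-1,-1⟩,
    ⟨2,0,-3,-1,0,0,1,1⟩,
    ⟨2,0,-3,-1,0,0,3,-1⟩,
    ⟨2,0,-3,1,-3,-1,0,0⟩,
    ⟨2,0,-3,1,-1,1,0,0⟩,
    ⟨2,0,-3,1,1,-1,0,0⟩,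
    ⟨2,0,-3,1,3,1,0,0⟩,
    ⟨2,0,-2,0,-2,0,-2,0⟩,
    ⟨2,0,-2,0,-2,0,0,-2⟩,
    ⟨2,0,-2,0,-2,0,0,2⟩,
    ⟨2,0,-2,0,-2,0,2,0⟩,
    ⟨2,0,-2,0,0,-2,-2,0⟩,
    ⟨2,0,-2,0,0,-2,2,0⟩,
    ⟨2,0,-2,0,0,2,-2,0⟩,
    ⟨2,0,-2,0,0,2,2,0⟩,
    ⟨2,0,-2,0,2,0,-2,0⟩,
    ⟨2,0,-2,0,2,0,0,-2⟩,
    ⟨2,0,-2,0,2,0,0,2⟩,
    ⟨2,0,-2,0,2,0,2,0⟩,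
    ⟨2,0,-1,-1,-3,-1,0,0⟩,
    ⟨2,0,-1,-1,-1,1,-4,0⟩,
    ⟨2,0,-1,-1,-1,1,0,0⟩,
    ⟨2,0,-1,-1,-1,1,4,0⟩,
    ⟨2,0,-1,-1,1,-1,-4,0⟩,
    ⟨2,0,-1,-1,1,-1,0,0⟩,
    ⟨2,0,-1,-1,1,-1,4,0⟩,
    ⟨2,0,-1,-1,3,1,0,0⟩,
    ⟨2,0,-1,1,-4,0,-1,-1⟩,
    ⟨2,0,-1,1,-4,0,1,1⟩,
    ⟨2,0,-1,1,0,0,-3,1⟩,
    ⟨2,0,-1,1,0,0,-1,-1⟩,
    ⟨2,0,-1,1,0,0,1,1⟩,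
    ⟨2,0,-1,1,0,0,3,-1⟩,
    ⟨2,0,-1,1,4,0,-1,-1⟩,
    ⟨2,0,-1,1,4,0,1,1⟩,
    ⟨2,0,0,-2,-2,0,-2,0⟩,
    ⟨2,0,0,-2,-2,0,2,0⟩,
    ⟨2,0,0,-2,2,0,-2,0⟩,
    ⟨2,0,0,-2,2,0,2,0⟩,
    ⟨2,0,0,0,-3,1,-3,-1⟩,
    ⟨2,0,0,0,-3,1,-1,1⟩,
    ⟨2,0,0,0,-3,1,1,-1⟩,
    ⟨2,0,0,0,-3,1,3,1⟩,
    ⟨2,0,0,0,-1,-1,-3,-1⟩,
    ⟨2,0,0,0,-1,-1,-1,1⟩,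
    ⟨2,0,0,0,-1,-1,1,-1⟩,
    ⟨2,0,0,0,-1,-1,3,1⟩,
    ⟨2,0,0,0,1,1,-3,-1⟩,
    ⟨2,0,0,0,1,1,-1,1⟩,
    ⟨2,0,0,0,1,1,1,-1⟩,
    ⟨2,0,0,0,1,1,3,1⟩,
    ⟨2,0,0,0,3,-1,-3,-1⟩,
    ⟨2,0,0,0,3,-1,-1,1⟩,
    ⟨2,0,0,0,3,-1,1,-1⟩,
    ⟨2,0,0,0,3,-1,3,1⟩,
    ⟨2,0,0,2,-2,0,-2,0⟩,
    ⟨2,0,0,2,-2,0,2,0⟩,
    ⟨2,0,0,2,2,0,-2,0⟩,
    ⟨2,0,0,2,2,0,2,0⟩,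
    ⟨2,0,1,-1,-4,0,-1,-1⟩,
    ⟨2,0,1,-1,-4,0,1,1⟩,
    ⟨2,0,1,-1,0,0,-3,1⟩,
    ⟨2,0,1,-1,0,0,-1,-1⟩,
    ⟨2,0,1,-1,0,0,1,1⟩,
    ⟨2,0,1,-1,0,0,3,-1⟩,
    ⟨2,0,1,-1,4,0,-1,-1⟩,
    ⟨2,0,1,-1,4,0,1,1⟩,
    ⟨2,0,1,1,-3,-1,0,0⟩,
    ⟨2,0,1,1,-1,1,-4,0⟩,
    ⟨2,0,1,1,-1,1,0,0⟩,
    ⟨2,0,1,1,-1,1,4,0⟩,
    ⟨2,0,1,1,1,-1,-4,0⟩,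
    ⟨2,0,1,1,1,-1,0,0⟩,
    ⟨2,0,1,1,1,-1,4,0⟩]

/-- part of `small` -/
def smallPart7 : List IQ :=
  [⟨2,0,1,1,3,1,0,0⟩,
    ⟨2,0,2,0,-2,0,-2,0⟩,
    ⟨2,0,2,0,-2,0,0,-2⟩,
    ⟨2,0,2,0,-2,0,0,2⟩,
    ⟨2,0,2,0,-2,0,2,0⟩,
    ⟨2,0,2,0,0,-2,-2,0⟩,
    ⟨2,0,2,0,0,-2,2,0⟩,
    ⟨2,0,2,0,0,2,-2,0⟩,
    ⟨2,0,2,0,0,2,2,0⟩,
    ⟨2,0,2,0,2,0,-2,0⟩,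
    ⟨2,0,2,0,2,0,0,-2⟩,
    ⟨2,0,2,0,2,0,0,2⟩,
    ⟨2,0,2,0,2,0,2,0⟩,
    ⟨2,0,3,-1,-3,-1,0,0⟩,
    ⟨2,0,3,-1,-1,1,0,0⟩,
    ⟨2,0,3,-1,1,-1,0,0⟩,
    ⟨2,0,3,-1,3,1,0,0⟩,
    ⟨2,0,3,1,0,0,-3,1⟩,
    ⟨2,0,3,1,0,0,-1,-1⟩,
    ⟨2,0,3,1,0,0,1,1⟩,
    ⟨2,0,3,1,0,0,3,-1⟩,
    ⟨2,0,4,0,-1,-1,-1,1⟩,
    ⟨2,0,4,0,-1,-1,1,-1⟩,
    ⟨2,0,4,0,1,1,-1,1⟩,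
    ⟨2,0,4,0,1,1,1,-1⟩,
    ⟨2,2,0,0,0,0,0,0⟩,
    ⟨3,-1,-3,-1,-2,0,0,0⟩,
    ⟨3,-1,-3,-1,2,0,0,0⟩,
    ⟨3,-1,-2,0,0,0,-3,-1⟩,
    ⟨3,-1,-2,0,0,0,-1,1⟩,
    ⟨3,-1,-2,0,0,0,1,-1⟩,
    ⟨3,-1,-2,0,0,0,3,1⟩,
    ⟨3,-1,-1,-1,-1,-1,-1,-1⟩,
    ⟨3,-1,-1,-1,-1,-1,1,1⟩,
    ⟨3,-1,-1,-1,1,1,-1,-1⟩,
    ⟨3,-1,-1,-1,1,1,1,1⟩,
    ⟨3,-1,-1,1,-2,0,0,0⟩,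
    ⟨3,-1,-1,1,2,0,0,0⟩,
    ⟨3,-1,0,0,-3,-1,-2,0⟩,
    ⟨3,-1,0,0,-3,-1,2,0⟩,
    ⟨3,-1,0,0,-1,1,-2,0⟩,
    ⟨3,-1,0,0,-1,1,2,0⟩,
    ⟨3,-1,0,0,1,-1,-2,0⟩,
    ⟨3,-1,0,0,1,-1,2,0⟩,
    ⟨3,-1,0,0,3,1,-2,0⟩,
    ⟨3,-1,0,0,3,1,2,0⟩,
    ⟨3,-1,1,-1,-2,0,0,0⟩,
    ⟨3,-1,1,-1,2,0,0,0⟩,
    ⟨3,-1,1,1,-1,-1,-1,-1⟩,
    ⟨3,-1,1,1,-1,-1,1,1⟩,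
    ⟨3,-1,1,1,1,1,-1,-1⟩,
    ⟨3,-1,1,1,1,1,1,1⟩,
    ⟨3,-1,2,0,0,0,-3,-1⟩,
    ⟨3,-1,2,0,0,0,-1,1⟩,
    ⟨3,-1,2,0,0,0,1,-1⟩,
    ⟨3,-1,2,0,0,0,3,1⟩,
    ⟨3,-1,3,1,-2,0,0,0⟩,
    ⟨3,-1,3,1,2,0,0,0⟩,
    ⟨3,1,-3,1,0,0,-2,0⟩,
    ⟨3,1,-3,1,0,0,2,0⟩,
    ⟨3,1,-2,0,-3,1,0,0⟩,
    ⟨3,1,-2,0,-1,-1,0,0⟩,
    ⟨3,1,-2,0,1,1,0,0⟩,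
    ⟨3,1,-2,0,3,-1,0,0⟩,
    ⟨3,1,-1,-1,0,0,-2,0⟩,
    ⟨3,1,-1,-1,0,0,2,0⟩,
    ⟨3,1,-1,1,-1,1,-1,1⟩,
    ⟨3,1,-1,1,-1,1,1,-1⟩,
    ⟨3,1,-1,1,1,-1,-1,1⟩,
    ⟨3,1,-1,1,1,-1,1,-1⟩,
    ⟨3,1,0,0,-2,0,-3,1⟩,
    ⟨3,1,0,0,-2,0,-1,-1⟩,
    ⟨3,1,0,0,-2,0,1,1⟩,
    ⟨3,1,0,0,-2,0,3,-1⟩,
    ⟨3,1,0,0,2,0,-3,1⟩,
    ⟨3,1,0,0,2,0,-1,-1⟩,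
    ⟨3,1,0,0,2,0,1,1⟩,
    ⟨3,1,0,0,2,0,3,-1⟩,
    ⟨3,1,1,-1,-1,1,-1,1⟩,
    ⟨3,1,1,-1,-1,1,1,-1⟩,
    ⟨3,1,1,-1,1,-1,-1,1⟩,
    ⟨3,1,1,-1,1,-1,1,-1⟩,
    ⟨3,1,1,1,0,0,-2,0⟩,
    ⟨3,1,1,1,0,0,2,0⟩,
    ⟨3,1,2,0,-3,1,0,0⟩,
    ⟨3,1,2,0,-1,-1,0,0⟩,
    ⟨3,1,2,0,1,1,0,0⟩,
    ⟨3,1,2,0,3,-1,0,0⟩,
    ⟨3,1,3,-1,0,0,-2,0⟩,
    ⟨3,1,3,-1,0,0,2,0⟩,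
    ⟨4,0,-4,0,0,0,0,0⟩,
    ⟨4,0,-2,0,-1,1,-1,-1⟩,
    ⟨4,0,-2,0,-1,1,1,1⟩,
    ⟨4,0,-2,0,1,-1,-1,-1⟩,
    ⟨4,0,-2,0,1,-1,1,1⟩,
    ⟨4,0,-1,-1,-2,0,-1,1⟩,
    ⟨4,0,-1,-1,-2,0,1,-1⟩,
    ⟨4,0,-1,-1,2,0,-1,1⟩,
    ⟨4,0,-1,-1,2,0,1,-1⟩,
    ⟨4,0,-1,1,-1,-1,-2,0⟩,
    ⟨4,0,-1,1,-1,-1,2,0⟩,
    ⟨4,0,-1,1,1,1,-2,0⟩,
    ⟨4,0,-1,1,1,1,2,0⟩,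
    ⟨4,0,0,0,-4,0,0,0⟩,
    ⟨4,0,0,0,0,0,-4,0⟩,
    ⟨4,0,0,0,0,0,0,0⟩,
    ⟨4,0,0,0,0,0,4,0⟩,
    ⟨4,0,0,0,4,0,0,0⟩,
    ⟨4,0,1,-1,-1,-1,-2,0⟩,
    ⟨4,0,1,-1,-1,-1,2,0⟩,
    ⟨4,0,1,-1,1,1,-2,0⟩,
    ⟨4,0,1,-1,1,1,2,0⟩,
    ⟨4,0,1,1,-2,0,-1,1⟩,
    ⟨4,0,1,1,-2,0,1,-1⟩,
    ⟨4,0,1,1,2,0,-1,1⟩,
    ⟨4,0,1,1,2,0,1,-1⟩,
    ⟨4,0,2,0,-1,1,-1,-1⟩,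
    ⟨4,0,2,0,-1,1,1,1⟩,
    ⟨4,0,2,0,1,-1,-1,-1⟩,
    ⟨4,0,2,0,1,-1,1,1⟩]

/-- part of `small` -/
def smallPart8 : List IQ :=
  [⟨4,0,4,0,0,0,0,0⟩]

/-- all icosians with trace norm at most 32, in lexicographic order -/
def small : List IQ :=
  smallPart0 ++ smallPart1 ++ smallPart2 ++ smallPart3 ++ smallPart4 ++ smallPart5 ++ smallPart6 ++ smallPart7 ++ smallPart8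

/-- part of `grp0` -/
def grp0Part0 : List (IQ × ℕ × ℕ) :=
  [(⟨0,0,0,0,0,0,0,0⟩, 0, 0)]

/-- elements of norm (0, 0), with labels -/
def grp0 : List (IQ × ℕ × ℕ) :=
  grp0Part0

/-- part of `grp16` -/
def grp16Part0 : List (IQ × ℕ × ℕ) :=
  [(⟨-4,0,0,0,0,0,0,0⟩, 8, 8),
    (⟨-2,0,-2,0,-2,0,-2,0⟩, 12, 2),
    (⟨-2,0,-2,0,-2,0,2,0⟩, 4, 6),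
    (⟨-2,0,-2,0,2,0,-2,0⟩, 4, 3),
    (⟨-2,0,-2,0,2,0,2,0⟩, 12, 7),
    (⟨-2,0,-1,-1,-1,1,0,0⟩, 10, 10),
    (⟨-2,0,-1,-1,1,-1,0,0⟩, 14, 4),
    (⟨-2,0,-1,1,0,0,-1,-1⟩, 11, 10),
    (⟨-2,0,-1,1,0,0,1,1⟩, 7, 9),
    (⟨-2,0,0,0,-1,-1,-1,1⟩, 5, 10),
    (⟨-2,0,0,0,-1,-1,1,-1⟩, 1, 13),
    (⟨-2,0,0,0,1,1,-1,1⟩, 9, 5),
    (⟨-2,0,0,0,1,1,1,-1⟩, 13, 2),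
    (⟨-2,0,1,-1,0,0,-1,-1⟩, 15, 1),
    (⟨-2,0,1,-1,0,0,1,1⟩, 3, 2),
    (⟨-2,0,1,1,-1,1,0,0⟩, 6, 12),
    (⟨-2,0,1,1,1,-1,0,0⟩, 2, 2),
    (⟨-2,0,2,0,-2,0,-2,0⟩, 4, 15),
    (⟨-2,0,2,0,-2,0,2,0⟩, 12, 11),
    (⟨-2,0,2,0,2,0,-2,0⟩, 12, 14),
    (⟨-2,0,2,0,2,0,2,0⟩, 4, 10),
    (⟨-1,-1,-2,0,0,0,-1,1⟩, 2, 12),
    (⟨-1,-1,-2,0,0,0,1,-1⟩, 6, 11),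
    (⟨-1,-1,-1,1,-2,0,0,0⟩, 13, 5),
    (⟨-1,-1,-1,1,2,0,0,0⟩, 5, 4),
    (⟨-1,-1,0,0,-1,1,-2,0⟩, 3, 9),
    (⟨-1,-1,0,0,-1,1,2,0⟩, 11, 13),
    (⟨-1,-1,0,0,1,-1,-2,0⟩, 7, 7),
    (⟨-1,-1,0,0,1,-1,2,0⟩, 15, 3),
    (⟨-1,-1,1,-1,-2,0,0,0⟩, 9, 14),
    (⟨-1,-1,1,-1,2,0,0,0⟩, 1, 15),
    (⟨-1,-1,2,0,0,0,-1,1⟩, 10, 1),
    (⟨-1,-1,2,0,0,0,1,-1⟩, 14, 6),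
    (⟨-1,1,-2,0,-1,-1,0,0⟩, 15, 11),
    (⟨-1,1,-2,0,1,1,0,0⟩, 3, 4),
    (⟨-1,1,-1,-1,0,0,-2,0⟩, 1, 7),
    (⟨-1,1,-1,-1,0,0,2,0⟩, 9, 3),
    (⟨-1,1,0,0,-2,0,-1,-1⟩, 14, 14),
    (⟨-1,1,0,0,-2,0,1,1⟩, 2, 13),
    (⟨-1,1,0,0,2,0,-1,-1⟩, 6, 15),
    (⟨-1,1,0,0,2,0,1,1⟩, 10, 12),
    (⟨-1,1,1,1,0,0,-2,0⟩, 13, 1),
    (⟨-1,1,1,1,0,0,2,0⟩, 5, 5),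
    (⟨-1,1,2,0,-1,-1,0,0⟩, 7, 6),
    (⟨-1,1,2,0,1,1,0,0⟩, 11, 9),
    (⟨0,0,-4,0,0,0,0,0⟩, 8, 13),
    (⟨0,0,-2,0,-1,1,-1,-1⟩, 9, 8),
    (⟨0,0,-2,0,-1,1,1,1⟩, 5, 11),
    (⟨0,0,-2,0,1,-1,-1,-1⟩, 13, 6),
    (⟨0,0,-2,0,1,-1,1,1⟩, 1, 5),
    (⟨0,0,-1,-1,-2,0,-1,1⟩, 7, 8),
    (⟨0,0,-1,-1,-2,0,1,-1⟩, 3, 15),
    (⟨0,0,-1,-1,2,0,-1,1⟩, 15, 9),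
    (⟨0,0,-1,-1,2,0,1,-1⟩, 11, 14),
    (⟨0,0,-1,1,-1,-1,-2,0⟩, 6, 8),
    (⟨0,0,-1,1,-1,-1,2,0⟩, 14, 12),
    (⟨0,0,-1,1,1,1,-2,0⟩, 10, 7),
    (⟨0,0,-1,1,1,1,2,0⟩, 2, 3),
    (⟨0,0,0,0,-4,0,0,0⟩, 8, 1),
    (⟨0,0,0,0,0,0,-4,0⟩, 8, 4),
    (⟨0,0,0,0,0,0,4,0⟩, 8, 4),
    (⟨0,0,0,0,4,0,0,0⟩, 8, 1),
    (⟨0,0,1,-1,-1,-1,-2,0⟩, 2, 3),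
    (⟨0,0,1,-1,-1,-1,2,0⟩, 10, 7),
    (⟨0,0,1,-1,1,1,-2,0⟩, 14, 12),
    (⟨0,0,1,-1,1,1,2,0⟩, 6, 8),
    (⟨0,0,1,1,-2,0,-1,1⟩, 11, 14),
    (⟨0,0,1,1,-2,0,1,-1⟩, 15, 9),
    (⟨0,0,1,1,2,0,-1,1⟩, 3, 15),
    (⟨0,0,1,1,2,0,1,-1⟩, 7, 8),
    (⟨0,0,2,0,-1,1,-1,-1⟩, 1, 5),
    (⟨0,0,2,0,-1,1,1,1⟩, 13, 6),
    (⟨0,0,2,0,1,-1,-1,-1⟩, 5, 11),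
    (⟨0,0,2,0,1,-1,1,1⟩, 9, 8),
    (⟨0,0,4,0,0,0,0,0⟩, 8, 13),
    (⟨1,-1,-2,0,-1,-1,0,0⟩, 11, 9),
    (⟨1,-1,-2,0,1,1,0,0⟩, 7, 6),
    (⟨1,-1,-1,-1,0,0,-2,0⟩, 5, 5),
    (⟨1,-1,-1,-1,0,0,2,0⟩, 13, 1),
    (⟨1,-1,0,0,-2,0,-1,-1⟩, 10, 12),
    (⟨1,-1,0,0,-2,0,1,1⟩, 6, 15),
    (⟨1,-1,0,0,2,0,-1,-1⟩, 2, 13),
    (⟨1,-1,0,0,2,0,1,1⟩, 14, 14),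
    (⟨1,-1,1,1,0,0,-2,0⟩, 9, 3),
    (⟨1,-1,1,1,0,0,2,0⟩, 1, 7),
    (⟨1,-1,2,0,-1,-1,0,0⟩, 3, 4),
    (⟨1,-1,2,0,1,1,0,0⟩, 15, 11),
    (⟨1,1,-2,0,0,0,-1,1⟩, 14, 6),
    (⟨1,1,-2,0,0,0,1,-1⟩, 10, 1),
    (⟨1,1,-1,1,-2,0,0,0⟩, 1, 15),
    (⟨1,1,-1,1,2,0,0,0⟩, 9, 14),
    (⟨1,1,0,0,-1,1,-2,0⟩, 15, 3),
    (⟨1,1,0,0,-1,1,2,0⟩, 7, 7),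
    (⟨1,1,0,0,1,-1,-2,0⟩, 11, 13),
    (⟨1,1,0,0,1,-1,2,0⟩, 3, 9),
    (⟨1,1,1,-1,-2,0,0,0⟩, 5, 4),
    (⟨1,1,1,-1,2,0,0,0⟩, 13, 5),
    (⟨1,1,2,0,0,0,-1,1⟩, 6, 11),
    (⟨1,1,2,0,0,0,1,-1⟩, 2, 12),
    (⟨2,0,-2,0,-2,0,-2,0⟩, 4, 10),
    (⟨2,0,-2,0,-2,0,2,0⟩, 12, 14),
    (⟨2,0,-2,0,2,0,-2,0⟩, 12, 11),
    (⟨2,0,-2,0,2,0,2,0⟩, 4, 15),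
    (⟨2,0,-1,-1,-1,1,0,0⟩, 2, 2),
    (⟨2,0,-1,-1,1,-1,0,0⟩, 6, 12),
    (⟨2,0,-1,1,0,0,-1,-1⟩, 3, 2),
    (⟨2,0,-1,1,0,0,1,1⟩, 15, 1),
    (⟨2,0,0,0,-1,-1,-1,1⟩, 13, 2),
    (⟨2,0,0,0,-1,-1,1,-1⟩, 9, 5),
    (⟨2,0,0,0,1,1,-1,1⟩, 1, 13),
    (⟨2,0,0,0,1,1,1,-1⟩, 5, 10),
    (⟨2,0,1,-1,0,0,-1,-1⟩, 7, 9),
    (⟨2,0,1,-1,0,0,1,1⟩, 11, 10),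
    (⟨2,0,1,1,-1,1,0,0⟩, 14, 4),
    (⟨2,0,1,1,1,-1,0,0⟩, 10, 10),
    (⟨2,0,2,0,-2,0,-2,0⟩, 12, 7),
    (⟨2,0,2,0,-2,0,2,0⟩, 4, 3),
    (⟨2,0,2,0,2,0,-2,0⟩, 4, 6),
    (⟨2,0,2,0,2,0,2,0⟩, 12, 2),
    (⟨4,0,0,0,0,0,0,0⟩, 8, 8)]

/-- elements of norm (16, 0), with labels -/
def grp16 : List (IQ × ℕ × ℕ) :=
  grp16Part0

/-- part of `grp24p` -/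
def grp24pPart0 : List (IQ × ℕ × ℕ) :=
  [(⟨-3,-1,-2,0,-1,-1,0,0⟩, 3, 1),
    (⟨-3,-1,-2,0,1,1,0,0⟩, 15, 14),
    (⟨-3,-1,-1,-1,0,0,-2,0⟩, 13, 13),
    (⟨-3,-1,-1,-1,0,0,2,0⟩, 5, 9),
    (⟨-3,-1,0,0,-2,0,-1,-1⟩, 2, 4),
    (⟨-3,-1,0,0,-2,0,1,1⟩, 14, 7),
    (⟨-3,-1,0,0,2,0,-1,-1⟩, 10, 5),
    (⟨-3,-1,0,0,2,0,1,1⟩, 6, 6),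
    (⟨-3,-1,1,1,0,0,-2,0⟩, 1, 11),
    (⟨-3,-1,1,1,0,0,2,0⟩, 9, 15),
    (⟨-3,-1,2,0,-1,-1,0,0⟩, 11, 12),
    (⟨-3,-1,2,0,1,1,0,0⟩, 7, 3),
    (⟨-2,-2,0,0,0,0,0,0⟩, 12, 10),
    (⟨-2,0,-3,-1,0,0,-1,-1⟩, 7, 12),
    (⟨-2,0,-3,-1,0,0,1,1⟩, 11, 15),
    (⟨-2,0,-1,-1,-3,-1,0,0⟩, 6, 5),
    (⟨-2,0,-1,-1,3,1,0,0⟩, 2, 11),
    (⟨-2,0,0,0,-1,-1,-3,-1⟩, 9, 9),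
    (⟨-2,0,0,0,-1,-1,3,1⟩, 13, 14),
    (⟨-2,0,0,0,1,1,-3,-1⟩, 5, 6),
    (⟨-2,0,0,0,1,1,3,1⟩, 1, 1),
    (⟨-2,0,1,1,-3,-1,0,0⟩, 10, 3),
    (⟨-2,0,1,1,3,1,0,0⟩, 14, 13),
    (⟨-2,0,3,1,0,0,-1,-1⟩, 3, 7),
    (⟨-2,0,3,1,0,0,1,1⟩, 15, 4),
    (⟨-1,-1,-3,-1,-2,0,0,0⟩, 1, 3),
    (⟨-1,-1,-3,-1,2,0,0,0⟩, 9, 2),
    (⟨-1,-1,-2,0,0,0,-3,-1⟩, 14, 15),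
    (⟨-1,-1,-2,0,0,0,3,1⟩, 10, 8),
    (⟨-1,-1,-1,-1,-1,-1,-1,-1⟩, 4, 8),
    (⟨-1,-1,-1,-1,-1,-1,1,1⟩, 8, 11),
    (⟨-1,-1,-1,-1,1,1,-1,-1⟩, 8, 7),
    (⟨-1,-1,-1,-1,1,1,1,1⟩, 4, 4),
    (⟨-1,-1,0,0,-3,-1,-2,0⟩, 15, 6),
    (⟨-1,-1,0,0,-3,-1,2,0⟩, 7, 2),
    (⟨-1,-1,0,0,3,1,-2,0⟩, 11, 8),
    (⟨-1,-1,0,0,3,1,2,0⟩, 3, 12),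
    (⟨-1,-1,1,1,-1,-1,-1,-1⟩, 8, 14),
    (⟨-1,-1,1,1,-1,-1,1,1⟩, 4, 13),
    (⟨-1,-1,1,1,1,1,-1,-1⟩, 4, 1),
    (⟨-1,-1,1,1,1,1,1,1⟩, 8, 2),
    (⟨-1,-1,2,0,0,0,-3,-1⟩, 6, 2),
    (⟨-1,-1,2,0,0,0,3,1⟩, 2, 5),
    (⟨-1,-1,3,1,-2,0,0,0⟩, 5, 8),
    (⟨-1,-1,3,1,2,0,0,0⟩, 13, 9),
    (⟨0,0,-3,-1,-1,-1,-2,0⟩, 10, 14),
    (⟨0,0,-3,-1,-1,-1,2,0⟩, 2, 10),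
    (⟨0,0,-3,-1,1,1,-2,0⟩, 6, 1),
    (⟨0,0,-3,-1,1,1,2,0⟩, 14, 5),
    (⟨0,0,-2,-2,0,0,0,0⟩, 12, 6),
    (⟨0,0,-2,0,-3,-1,-1,-1⟩, 5, 7),
    (⟨0,0,-2,0,-3,-1,1,1⟩, 9, 4),
    (⟨0,0,-2,0,3,1,-1,-1⟩, 1, 9),
    (⟨0,0,-2,0,3,1,1,1⟩, 13, 10),
    (⟨0,0,-1,-1,-2,0,-3,-1⟩, 11, 11),
    (⟨0,0,-1,-1,-2,0,3,1⟩, 15, 12),
    (⟨0,0,-1,-1,2,0,-3,-1⟩, 3, 10),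
    (⟨0,0,-1,-1,2,0,3,1⟩, 7, 13),
    (⟨0,0,0,0,-2,-2,0,0⟩, 12, 15),
    (⟨0,0,0,0,0,0,-2,-2⟩, 12, 3),
    (⟨0,0,0,0,0,0,2,2⟩, 12, 3),
    (⟨0,0,0,0,2,2,0,0⟩, 12, 15),
    (⟨0,0,1,1,-2,0,-3,-1⟩, 7, 13),
    (⟨0,0,1,1,-2,0,3,1⟩, 3, 10),
    (⟨0,0,1,1,2,0,-3,-1⟩, 15, 12),
    (⟨0,0,1,1,2,0,3,1⟩, 11, 11),
    (⟨0,0,2,0,-3,-1,-1,-1⟩, 13, 10),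
    (⟨0,0,2,0,-3,-1,1,1⟩, 1, 9),
    (⟨0,0,2,0,3,1,-1,-1⟩, 9, 4),
    (⟨0,0,2,0,3,1,1,1⟩, 5, 7),
    (⟨0,0,2,2,0,0,0,0⟩, 12, 6),
    (⟨0,0,3,1,-1,-1,-2,0⟩, 14, 5),
    (⟨0,0,3,1,-1,-1,2,0⟩, 6, 1),
    (⟨0,0,3,1,1,1,-2,0⟩, 2, 10),
    (⟨0,0,3,1,1,1,2,0⟩, 10, 14),
    (⟨1,1,-3,-1,-2,0,0,0⟩, 13, 9),
    (⟨1,1,-3,-1,2,0,0,0⟩, 5, 8),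
    (⟨1,1,-2,0,0,0,-3,-1⟩, 2, 5),
    (⟨1,1,-2,0,0,0,3,1⟩, 6, 2),
    (⟨1,1,-1,-1,-1,-1,-1,-1⟩, 8, 2),
    (⟨1,1,-1,-1,-1,-1,1,1⟩, 4, 1),
    (⟨1,1,-1,-1,1,1,-1,-1⟩, 4, 13),
    (⟨1,1,-1,-1,1,1,1,1⟩, 8, 14),
    (⟨1,1,0,0,-3,-1,-2,0⟩, 3, 12),
    (⟨1,1,0,0,-3,-1,2,0⟩, 11, 8),
    (⟨1,1,0,0,3,1,-2,0⟩, 7, 2),
    (⟨1,1,0,0,3,1,2,0⟩, 15, 6),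
    (⟨1,1,1,1,-1,-1,-1,-1⟩, 4, 4),
    (⟨1,1,1,1,-1,-1,1,1⟩, 8, 7),
    (⟨1,1,1,1,1,1,-1,-1⟩, 8, 11),
    (⟨1,1,1,1,1,1,1,1⟩, 4, 8),
    (⟨1,1,2,0,0,0,-3,-1⟩, 10, 8),
    (⟨1,1,2,0,0,0,3,1⟩, 14, 15),
    (⟨1,1,3,1,-2,0,0,0⟩, 9, 2),
    (⟨1,1,3,1,2,0,0,0⟩, 1, 3),
    (⟨2,0,-3,-1,0,0,-1,-1⟩, 15, 4),
    (⟨2,0,-3,-1,0,0,1,1⟩, 3, 7),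
    (⟨2,0,-1,-1,-3,-1,0,0⟩, 14, 13),
    (⟨2,0,-1,-1,3,1,0,0⟩, 10, 3),
    (⟨2,0,0,0,-1,-1,-3,-1⟩, 1, 1),
    (⟨2,0,0,0,-1,-1,3,1⟩, 5, 6),
    (⟨2,0,0,0,1,1,-3,-1⟩, 13, 14),
    (⟨2,0,0,0,1,1,3,1⟩, 9, 9),
    (⟨2,0,1,1,-3,-1,0,0⟩, 2, 11),
    (⟨2,0,1,1,3,1,0,0⟩, 6, 5),
    (⟨2,0,3,1,0,0,-1,-1⟩, 11, 15),
    (⟨2,0,3,1,0,0,1,1⟩, 7, 12),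
    (⟨2,2,0,0,0,0,0,0⟩, 12, 10),
    (⟨3,1,-2,0,-1,-1,0,0⟩, 7, 3),
    (⟨3,1,-2,0,1,1,0,0⟩, 11, 12),
    (⟨3,1,-1,-1,0,0,-2,0⟩, 9, 15),
    (⟨3,1,-1,-1,0,0,2,0⟩, 1, 11),
    (⟨3,1,0,0,-2,0,-1,-1⟩, 6, 6),
    (⟨3,1,0,0,-2,0,1,1⟩, 10, 5),
    (⟨3,1,0,0,2,0,-1,-1⟩, 14, 7),
    (⟨3,1,0,0,2,0,1,1⟩, 2, 4),
    (⟨3,1,1,1,0,0,-2,0⟩, 5, 9),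
    (⟨3,1,1,1,0,0,2,0⟩, 13, 13),
    (⟨3,1,2,0,-1,-1,0,0⟩, 15, 14),
    (⟨3,1,2,0,1,1,0,0⟩, 3, 1)]

/-- elements of norm (24, 8), with labels -/
def grp24p : List (IQ × ℕ × ℕ) :=
  grp24pPart0

/-- part of `grp24m` -/
def grp24mPart0 : List (IQ × ℕ × ℕ) :=
  [(⟨-3,1,-2,0,0,0,-1,1⟩, 6, 14),
    (⟨-3,1,-2,0,0,0,1,-1⟩, 2, 9),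
    (⟨-3,1,-1,1,-2,0,0,0⟩, 9, 7),
    (⟨-3,1,-1,1,2,0,0,0⟩, 1, 6),
    (⟨-3,1,0,0,-1,1,-2,0⟩, 7, 11),
    (⟨-3,1,0,0,-1,1,2,0⟩, 15, 15),
    (⟨-3,1,0,0,1,-1,-2,0⟩, 3, 5),
    (⟨-3,1,0,0,1,-1,2,0⟩, 11, 1),
    (⟨-3,1,1,-1,-2,0,0,0⟩, 13, 12),
    (⟨-3,1,1,-1,2,0,0,0⟩, 5, 13),
    (⟨-3,1,2,0,0,0,-1,1⟩, 14, 3),
    (⟨-3,1,2,0,0,0,1,-1⟩, 10, 4),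
    (⟨-2,0,-3,1,-1,1,0,0⟩, 14, 1),
    (⟨-2,0,-3,1,1,-1,0,0⟩, 10, 15),
    (⟨-2,0,-1,1,0,0,-3,1⟩, 15, 13),
    (⟨-2,0,-1,1,0,0,3,-1⟩, 3, 14),
    (⟨-2,0,0,0,-3,1,-1,1⟩, 1, 4),
    (⟨-2,0,0,0,-3,1,1,-1⟩, 5, 3),
    (⟨-2,0,0,0,3,-1,-1,1⟩, 13, 11),
    (⟨-2,0,0,0,3,-1,1,-1⟩, 9, 12),
    (⟨-2,0,1,-1,0,0,-3,1⟩, 11, 6),
    (⟨-2,0,1,-1,0,0,3,-1⟩, 7, 5),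
    (⟨-2,0,3,-1,-1,1,0,0⟩, 2, 7),
    (⟨-2,0,3,-1,1,-1,0,0⟩, 6, 9),
    (⟨-2,2,0,0,0,0,0,0⟩, 4, 2),
    (⟨-1,1,-3,1,0,0,-2,0⟩, 5, 12),
    (⟨-1,1,-3,1,0,0,2,0⟩, 13, 8),
    (⟨-1,1,-2,0,-3,1,0,0⟩, 11, 5),
    (⟨-1,1,-2,0,3,-1,0,0⟩, 7, 10),
    (⟨-1,1,-1,1,-1,1,-1,1⟩, 8, 10),
    (⟨-1,1,-1,1,-1,1,1,-1⟩, 12, 13),
    (⟨-1,1,-1,1,1,-1,-1,1⟩, 12, 4),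
    (⟨-1,1,-1,1,1,-1,1,-1⟩, 8, 3),
    (⟨-1,1,0,0,-2,0,-3,1⟩, 10, 9),
    (⟨-1,1,0,0,-2,0,3,-1⟩, 6, 10),
    (⟨-1,1,0,0,2,0,-3,1⟩, 2, 8),
    (⟨-1,1,0,0,2,0,3,-1⟩, 14, 11),
    (⟨-1,1,1,-1,-1,1,-1,1⟩, 12, 1),
    (⟨-1,1,1,-1,-1,1,1,-1⟩, 8, 6),
    (⟨-1,1,1,-1,1,-1,-1,1⟩, 8, 15),
    (⟨-1,1,1,-1,1,-1,1,-1⟩, 12, 8),
    (⟨-1,1,2,0,-3,1,0,0⟩, 3, 8),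
    (⟨-1,1,2,0,3,-1,0,0⟩, 15, 7),
    (⟨-1,1,3,-1,0,0,-2,0⟩, 9, 10),
    (⟨-1,1,3,-1,0,0,2,0⟩, 1, 14),
    (⟨0,0,-3,1,-2,0,-1,1⟩, 3, 3),
    (⟨0,0,-3,1,-2,0,1,-1⟩, 7, 4),
    (⟨0,0,-3,1,2,0,-1,1⟩, 11, 2),
    (⟨0,0,-3,1,2,0,1,-1⟩, 15, 5),
    (⟨0,0,-2,0,-1,1,-3,1⟩, 13, 15),
    (⟨0,0,-2,0,-1,1,3,-1⟩, 1, 12),
    (⟨0,0,-2,0,1,-1,-3,1⟩, 9, 1),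
    (⟨0,0,-2,0,1,-1,3,-1⟩, 5, 2),
    (⟨0,0,-2,2,0,0,0,0⟩, 4, 11),
    (⟨0,0,-1,1,-3,1,-2,0⟩, 2, 6),
    (⟨0,0,-1,1,-3,1,2,0⟩, 10, 2),
    (⟨0,0,-1,1,3,-1,-2,0⟩, 14, 9),
    (⟨0,0,-1,1,3,-1,2,0⟩, 6, 13),
    (⟨0,0,0,0,-2,2,0,0⟩, 4, 14),
    (⟨0,0,0,0,0,0,-2,2⟩, 4, 7),
    (⟨0,0,0,0,0,0,2,-2⟩, 4, 7),
    (⟨0,0,0,0,2,-2,0,0⟩, 4, 14),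
    (⟨0,0,1,-1,-3,1,-2,0⟩, 6, 13),
    (⟨0,0,1,-1,-3,1,2,0⟩, 14, 9),
    (⟨0,0,1,-1,3,-1,-2,0⟩, 10, 2),
    (⟨0,0,1,-1,3,-1,2,0⟩, 2, 6),
    (⟨0,0,2,-2,0,0,0,0⟩, 4, 11),
    (⟨0,0,2,0,-1,1,-3,1⟩, 5, 2),
    (⟨0,0,2,0,-1,1,3,-1⟩, 9, 1),
    (⟨0,0,2,0,1,-1,-3,1⟩, 1, 12),
    (⟨0,0,2,0,1,-1,3,-1⟩, 13, 15),
    (⟨0,0,3,-1,-2,0,-1,1⟩, 15, 5),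
    (⟨0,0,3,-1,-2,0,1,-1⟩, 11, 2),
    (⟨0,0,3,-1,2,0,-1,1⟩, 7, 4),
    (⟨0,0,3,-1,2,0,1,-1⟩, 3, 3),
    (⟨1,-1,-3,1,0,0,-2,0⟩, 1, 14),
    (⟨1,-1,-3,1,0,0,2,0⟩, 9, 10),
    (⟨1,-1,-2,0,-3,1,0,0⟩, 15, 7),
    (⟨1,-1,-2,0,3,-1,0,0⟩, 3, 8),
    (⟨1,-1,-1,1,-1,1,-1,1⟩, 12, 8),
    (⟨1,-1,-1,1,-1,1,1,-1⟩, 8, 15),
    (⟨1,-1,-1,1,1,-1,-1,1⟩, 8, 6),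
    (⟨1,-1,-1,1,1,-1,1,-1⟩, 12, 1),
    (⟨1,-1,0,0,-2,0,-3,1⟩, 14, 11),
    (⟨1,-1,0,0,-2,0,3,-1⟩, 2, 8),
    (⟨1,-1,0,0,2,0,-3,1⟩, 6, 10),
    (⟨1,-1,0,0,2,0,3,-1⟩, 10, 9),
    (⟨1,-1,1,-1,-1,1,-1,1⟩, 8, 3),
    (⟨1,-1,1,-1,-1,1,1,-1⟩, 12, 4),
    (⟨1,-1,1,-1,1,-1,-1,1⟩, 12, 13),
    (⟨1,-1,1,-1,1,-1,1,-1⟩, 8, 10),
    (⟨1,-1,2,0,-3,1,0,0⟩, 7, 10),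
    (⟨1,-1,2,0,3,-1,0,0⟩, 11, 5),
    (⟨1,-1,3,-1,0,0,-2,0⟩, 13, 8),
    (⟨1,-1,3,-1,0,0,2,0⟩, 5, 12),
    (⟨2,-2,0,0,0,0,0,0⟩, 4, 2),
    (⟨2,0,-3,1,-1,1,0,0⟩, 6, 9),
    (⟨2,0,-3,1,1,-1,0,0⟩, 2, 7),
    (⟨2,0,-1,1,0,0,-3,1⟩, 7, 5),
    (⟨2,0,-1,1,0,0,3,-1⟩, 11, 6),
    (⟨2,0,0,0,-3,1,-1,1⟩, 9, 12),
    (⟨2,0,0,0,-3,1,1,-1⟩, 13, 11),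
    (⟨2,0,0,0,3,-1,-1,1⟩, 5, 3),
    (⟨2,0,0,0,3,-1,1,-1⟩, 1, 4),
    (⟨2,0,1,-1,0,0,-3,1⟩, 3, 14),
    (⟨2,0,1,-1,0,0,3,-1⟩, 15, 13),
    (⟨2,0,3,-1,-1,1,0,0⟩, 10, 15),
    (⟨2,0,3,-1,1,-1,0,0⟩, 14, 1),
    (⟨3,-1,-2,0,0,0,-1,1⟩, 10, 4),
    (⟨3,-1,-2,0,0,0,1,-1⟩, 14, 3),
    (⟨3,-1,-1,1,-2,0,0,0⟩, 5, 13),
    (⟨3,-1,-1,1,2,0,0,0⟩, 13, 12),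
    (⟨3,-1,0,0,-1,1,-2,0⟩, 11, 1),
    (⟨3,-1,0,0,-1,1,2,0⟩, 3, 5),
    (⟨3,-1,0,0,1,-1,-2,0⟩, 15, 15),
    (⟨3,-1,0,0,1,-1,2,0⟩, 7, 11),
    (⟨3,-1,1,-1,-2,0,0,0⟩, 1, 6),
    (⟨3,-1,1,-1,2,0,0,0⟩, 9, 7),
    (⟨3,-1,2,0,0,0,-1,1⟩, 2, 9),
    (⟨3,-1,2,0,0,0,1,-1⟩, 6, 14)]

/-- elements of norm (24, -8), with labels -/
def grp24m : List (IQ × ℕ × ℕ) :=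
  grp24mPart0

/-- part of `grp32` -/
def grp32Part0 : List (IQ × ℕ × ℕ) :=
  [(⟨-4,0,-4,0,0,0,0,0⟩, 0, 5),
    (⟨-4,0,-2,0,-1,1,-1,-1⟩, 1, 0),
    (⟨-4,0,-2,0,-1,1,1,1⟩, 13, 3),
    (⟨-4,0,-2,0,1,-1,-1,-1⟩, 5, 14),
    (⟨-4,0,-2,0,1,-1,1,1⟩, 9, 13),
    (⟨-4,0,-1,-1,-2,0,-1,1⟩, 15, 0),
    (⟨-4,0,-1,-1,-2,0,1,-1⟩, 11, 7),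
    (⟨-4,0,-1,-1,2,0,-1,1⟩, 7, 1),
    (⟨-4,0,-1,-1,2,0,1,-1⟩, 3, 6),
    (⟨-4,0,-1,1,-1,-1,-2,0⟩, 14, 0),
    (⟨-4,0,-1,1,-1,-1,2,0⟩, 6, 4),
    (⟨-4,0,-1,1,1,1,-2,0⟩, 2, 15),
    (⟨-4,0,-1,1,1,1,2,0⟩, 10, 11),
    (⟨-4,0,0,0,-4,0,0,0⟩, 0, 9),
    (⟨-4,0,0,0,0,0,-4,0⟩, 0, 12),
    (⟨-4,0,0,0,0,0,4,0⟩, 0, 12),
    (⟨-4,0,0,0,4,0,0,0⟩, 0, 9),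
    (⟨-4,0,1,-1,-1,-1,-2,0⟩, 10, 11),
    (⟨-4,0,1,-1,-1,-1,2,0⟩, 2, 15),
    (⟨-4,0,1,-1,1,1,-2,0⟩, 6, 4),
    (⟨-4,0,1,-1,1,1,2,0⟩, 14, 0),
    (⟨-4,0,1,1,-2,0,-1,1⟩, 3, 6),
    (⟨-4,0,1,1,-2,0,1,-1⟩, 7, 1),
    (⟨-4,0,1,1,2,0,-1,1⟩, 11, 7),
    (⟨-4,0,1,1,2,0,1,-1⟩, 15, 0),
    (⟨-4,0,2,0,-1,1,-1,-1⟩, 9, 13),
    (⟨-4,0,2,0,-1,1,1,1⟩, 5, 14),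
    (⟨-4,0,2,0,1,-1,-1,-1⟩, 13, 3),
    (⟨-4,0,2,0,1,-1,1,1⟩, 1, 0),
    (⟨-4,0,4,0,0,0,0,0⟩, 0, 5),
    (⟨-3,-1,-3,1,0,0,-2,0⟩, 9, 6),
    (⟨-3,-1,-3,1,0,0,2,0⟩, 1, 2),
    (⟨-3,-1,-2,0,-3,1,0,0⟩, 7, 15),
    (⟨-3,-1,-2,0,3,-1,0,0⟩, 11, 0),
    (⟨-3,-1,-1,1,-1,1,-1,1⟩, 4, 0),
    (⟨-3,-1,-1,1,-1,1,1,-1⟩, 0, 7),
    (⟨-3,-1,-1,1,1,-1,-1,1⟩, 0, 14),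
    (⟨-3,-1,-1,1,1,-1,1,-1⟩, 4, 9),
    (⟨-3,-1,0,0,-2,0,-3,1⟩, 6, 3),
    (⟨-3,-1,0,0,-2,0,3,-1⟩, 10, 0),
    (⟨-3,-1,0,0,2,0,-3,1⟩, 14, 2),
    (⟨-3,-1,0,0,2,0,3,-1⟩, 2, 1),
    (⟨-3,-1,1,-1,-1,1,-1,1⟩, 0, 11),
    (⟨-3,-1,1,-1,-1,1,1,-1⟩, 4, 12),
    (⟨-3,-1,1,-1,1,-1,-1,1⟩, 4, 5),
    (⟨-3,-1,1,-1,1,-1,1,-1⟩, 0, 2),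
    (⟨-3,-1,2,0,-3,1,0,0⟩, 15, 2),
    (⟨-3,-1,2,0,3,-1,0,0⟩, 3, 13),
    (⟨-3,-1,3,-1,0,0,-2,0⟩, 5, 0),
    (⟨-3,-1,3,-1,0,0,2,0⟩, 13, 4),
    (⟨-3,1,-3,-1,-2,0,0,0⟩, 5, 1),
    (⟨-3,1,-3,-1,2,0,0,0⟩, 13, 0),
    (⟨-3,1,-2,0,0,0,-3,-1⟩, 10, 13),
    (⟨-3,1,-2,0,0,0,3,1⟩, 14, 10),
    (⟨-3,1,-1,-1,-1,-1,-1,-1⟩, 0, 10),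
    (⟨-3,1,-1,-1,-1,-1,1,1⟩, 12, 9),
    (⟨-3,1,-1,-1,1,1,-1,-1⟩, 12, 5),
    (⟨-3,1,-1,-1,1,1,1,1⟩, 0, 6),
    (⟨-3,1,0,0,-3,-1,-2,0⟩, 11, 4),
    (⟨-3,1,0,0,-3,-1,2,0⟩, 3, 0),
    (⟨-3,1,0,0,3,1,-2,0⟩, 15, 10),
    (⟨-3,1,0,0,3,1,2,0⟩, 7, 14),
    (⟨-3,1,1,1,-1,-1,-1,-1⟩, 12, 12),
    (⟨-3,1,1,1,-1,-1,1,1⟩, 0, 15),
    (⟨-3,1,1,1,1,1,-1,-1⟩, 0, 3),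
    (⟨-3,1,1,1,1,1,1,1⟩, 12, 0),
    (⟨-3,1,2,0,0,0,-3,-1⟩, 2, 0),
    (⟨-3,1,2,0,0,0,3,1⟩, 6, 7),
    (⟨-3,1,3,1,-2,0,0,0⟩, 1, 10),
    (⟨-3,1,3,1,2,0,0,0⟩, 9, 11),
    (⟨-2,0,-4,0,-1,-1,-1,1⟩, 13, 7),
    (⟨-2,0,-4,0,-1,-1,1,-1⟩, 9, 0),
    (⟨-2,0,-4,0,1,1,-1,1⟩, 1, 8),
    (⟨-2,0,-4,0,1,1,1,-1⟩, 5, 15),
    (⟨-2,0,-3,-1,0,0,-3,1⟩, 3, 11),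
    (⟨-2,0,-3,-1,0,0,3,-1⟩, 15, 8),
    (⟨-2,0,-3,1,-3,-1,0,0⟩, 2, 14),
    (⟨-2,0,-3,1,3,1,0,0⟩, 6, 0),
    (⟨-2,0,-2,0,-2,0,0,-2⟩, 8, 5),
    (⟨-2,0,-2,0,-2,0,0,2⟩, 0, 1),
    (⟨-2,0,-2,0,0,-2,-2,0⟩, 8, 12),
    (⟨-2,0,-2,0,0,-2,2,0⟩, 0, 8),
    (⟨-2,0,-2,0,0,2,-2,0⟩, 0, 13),
    (⟨-2,0,-2,0,0,2,2,0⟩, 8, 9),
    (⟨-2,0,-2,0,2,0,0,-2⟩, 0, 4),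
    (⟨-2,0,-2,0,2,0,0,2⟩, 8, 0),
    (⟨-2,0,-1,-1,-1,1,-4,0⟩, 2, 14),
    (⟨-2,0,-1,-1,-1,1,4,0⟩, 2, 14),
    (⟨-2,0,-1,-1,1,-1,-4,0⟩, 6, 0),
    (⟨-2,0,-1,-1,1,-1,4,0⟩, 6, 0),
    (⟨-2,0,-1,1,-4,0,-1,-1⟩, 3, 11),
    (⟨-2,0,-1,1,-4,0,1,1⟩, 15, 8),
    (⟨-2,0,-1,1,4,0,-1,-1⟩, 3, 11),
    (⟨-2,0,-1,1,4,0,1,1⟩, 15, 8),
    (⟨-2,0,0,-2,-2,0,-2,0⟩, 8, 9),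
    (⟨-2,0,0,-2,-2,0,2,0⟩, 0, 13),
    (⟨-2,0,0,-2,2,0,-2,0⟩, 0, 8),
    (⟨-2,0,0,-2,2,0,2,0⟩, 8, 12),
    (⟨-2,0,0,0,-3,1,-3,-1⟩, 13, 7),
    (⟨-2,0,0,0,-3,1,3,1⟩, 9, 0),
    (⟨-2,0,0,0,3,-1,-3,-1⟩, 1, 8),
    (⟨-2,0,0,0,3,-1,3,1⟩, 5, 15),
    (⟨-2,0,0,2,-2,0,-2,0⟩, 0, 4),
    (⟨-2,0,0,2,-2,0,2,0⟩, 8, 0),
    (⟨-2,0,0,2,2,0,-2,0⟩, 8, 5),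
    (⟨-2,0,0,2,2,0,2,0⟩, 0, 1),
    (⟨-2,0,1,-1,-4,0,-1,-1⟩, 7, 0),
    (⟨-2,0,1,-1,-4,0,1,1⟩, 11, 3),
    (⟨-2,0,1,-1,4,0,-1,-1⟩, 7, 0),
    (⟨-2,0,1,-1,4,0,1,1⟩, 11, 3),
    (⟨-2,0,1,1,-1,1,-4,0⟩, 14, 8),
    (⟨-2,0,1,1,-1,1,4,0⟩, 14, 8),
    (⟨-2,0,1,1,1,-1,-4,0⟩, 10, 6),
    (⟨-2,0,1,1,1,-1,4,0⟩, 10, 6),
    (⟨-2,0,2,0,-2,0,0,-2⟩, 0, 8),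
    (⟨-2,0,2,0,-2,0,0,2⟩, 8, 12),
    (⟨-2,0,2,0,0,-2,-2,0⟩, 0, 1),
    (⟨-2,0,2,0,0,-2,2,0⟩, 8, 5),
    (⟨-2,0,2,0,0,2,-2,0⟩, 8, 0),
    (⟨-2,0,2,0,0,2,2,0⟩, 0, 4)]

/-- part of `grp32` -/
def grp32Part1 : List (IQ × ℕ × ℕ) :=
  [(⟨-2,0,2,0,2,0,0,-2⟩, 8, 9),
    (⟨-2,0,2,0,2,0,0,2⟩, 0, 13),
    (⟨-2,0,3,-1,-3,-1,0,0⟩, 14, 8),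
    (⟨-2,0,3,-1,3,1,0,0⟩, 10, 6),
    (⟨-2,0,3,1,0,0,-3,1⟩, 7, 0),
    (⟨-2,0,3,1,0,0,3,-1⟩, 11, 3),
    (⟨-2,0,4,0,-1,-1,-1,1⟩, 13, 7),
    (⟨-2,0,4,0,-1,-1,1,-1⟩, 9, 0),
    (⟨-2,0,4,0,1,1,-1,1⟩, 1, 8),
    (⟨-2,0,4,0,1,1,1,-1⟩, 5, 15),
    (⟨-1,-1,-4,0,-1,1,-2,0⟩, 11, 4),
    (⟨-1,-1,-4,0,-1,1,2,0⟩, 3, 0),
    (⟨-1,-1,-4,0,1,-1,-2,0⟩, 15, 10),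
    (⟨-1,-1,-4,0,1,-1,2,0⟩, 7, 14),
    (⟨-1,-1,-3,1,-1,-1,-1,-1⟩, 0, 3),
    (⟨-1,-1,-3,1,-1,-1,1,1⟩, 12, 0),
    (⟨-1,-1,-3,1,1,1,-1,-1⟩, 12, 12),
    (⟨-1,-1,-3,1,1,1,1,1⟩, 0, 15),
    (⟨-1,-1,-2,0,-4,0,-1,1⟩, 10, 13),
    (⟨-1,-1,-2,0,-4,0,1,-1⟩, 14, 10),
    (⟨-1,-1,-2,0,4,0,-1,1⟩, 10, 13),
    (⟨-1,-1,-2,0,4,0,1,-1⟩, 14, 10),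
    (⟨-1,-1,-1,-1,-3,1,-1,-1⟩, 0, 6),
    (⟨-1,-1,-1,-1,-3,1,1,1⟩, 12, 5),
    (⟨-1,-1,-1,-1,-1,-1,-3,1⟩, 0, 15),
    (⟨-1,-1,-1,-1,-1,-1,3,-1⟩, 12, 12),
    (⟨-1,-1,-1,-1,1,1,-3,1⟩, 12, 0),
    (⟨-1,-1,-1,-1,1,1,3,-1⟩, 0, 3),
    (⟨-1,-1,-1,-1,3,-1,-1,-1⟩, 12, 9),
    (⟨-1,-1,-1,-1,3,-1,1,1⟩, 0, 10),
    (⟨-1,-1,-1,1,-2,0,-4,0⟩, 5, 1),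
    (⟨-1,-1,-1,1,-2,0,4,0⟩, 5, 1),
    (⟨-1,-1,-1,1,0,-2,0,0⟩, 9, 11),
    (⟨-1,-1,-1,1,0,2,0,0⟩, 1, 10),
    (⟨-1,-1,-1,1,2,0,-4,0⟩, 13, 0),
    (⟨-1,-1,-1,1,2,0,4,0⟩, 13, 0),
    (⟨-1,-1,0,-2,0,0,-1,1⟩, 6, 7),
    (⟨-1,-1,0,-2,0,0,1,-1⟩, 2, 0),
    (⟨-1,-1,0,0,-1,1,0,-2⟩, 7, 14),
    (⟨-1,-1,0,0,-1,1,0,2⟩, 15, 10),
    (⟨-1,-1,0,0,1,-1,0,-2⟩, 3, 0),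
    (⟨-1,-1,0,0,1,-1,0,2⟩, 11, 4),
    (⟨-1,-1,0,2,0,0,-1,1⟩, 14, 10),
    (⟨-1,-1,0,2,0,0,1,-1⟩, 10, 13),
    (⟨-1,-1,1,-1,-2,0,-4,0⟩, 1, 10),
    (⟨-1,-1,1,-1,-2,0,4,0⟩, 1, 10),
    (⟨-1,-1,1,-1,0,-2,0,0⟩, 13, 0),
    (⟨-1,-1,1,-1,0,2,0,0⟩, 5, 1),
    (⟨-1,-1,1,-1,2,0,-4,0⟩, 9, 11),
    (⟨-1,-1,1,-1,2,0,4,0⟩, 9, 11),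
    (⟨-1,-1,1,1,-3,1,-1,-1⟩, 12, 0),
    (⟨-1,-1,1,1,-3,1,1,1⟩, 0, 3),
    (⟨-1,-1,1,1,-1,-1,-3,1⟩, 12, 9),
    (⟨-1,-1,1,1,-1,-1,3,-1⟩, 0, 10),
    (⟨-1,-1,1,1,1,1,-3,1⟩, 0, 6),
    (⟨-1,-1,1,1,1,1,3,-1⟩, 12, 5),
    (⟨-1,-1,1,1,3,-1,-1,-1⟩, 0, 15),
    (⟨-1,-1,1,1,3,-1,1,1⟩, 12, 12),
    (⟨-1,-1,2,0,-4,0,-1,1⟩, 2, 0),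
    (⟨-1,-1,2,0,-4,0,1,-1⟩, 6, 7),
    (⟨-1,-1,2,0,4,0,-1,1⟩, 2, 0),
    (⟨-1,-1,2,0,4,0,1,-1⟩, 6, 7),
    (⟨-1,-1,3,-1,-1,-1,-1,-1⟩, 12, 5),
    (⟨-1,-1,3,-1,-1,-1,1,1⟩, 0, 6),
    (⟨-1,-1,3,-1,1,1,-1,-1⟩, 0, 10),
    (⟨-1,-1,3,-1,1,1,1,1⟩, 12, 9),
    (⟨-1,-1,4,0,-1,1,-2,0⟩, 11, 4),
    (⟨-1,-1,4,0,-1,1,2,0⟩, 3, 0),
    (⟨-1,-1,4,0,1,-1,-2,0⟩, 15, 10),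
    (⟨-1,-1,4,0,1,-1,2,0⟩, 7, 14),
    (⟨-1,1,-4,0,-2,0,-1,-1⟩, 6, 3),
    (⟨-1,1,-4,0,-2,0,1,1⟩, 10, 0),
    (⟨-1,1,-4,0,2,0,-1,-1⟩, 14, 2),
    (⟨-1,1,-4,0,2,0,1,1⟩, 2, 1),
    (⟨-1,1,-3,-1,-1,1,-1,1⟩, 4, 12),
    (⟨-1,1,-3,-1,-1,1,1,-1⟩, 0, 11),
    (⟨-1,1,-3,-1,1,-1,-1,1⟩, 0, 2),
    (⟨-1,1,-3,-1,1,-1,1,-1⟩, 4, 5),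
    (⟨-1,1,-2,0,-1,-1,-4,0⟩, 7, 15),
    (⟨-1,1,-2,0,-1,-1,4,0⟩, 7, 15),
    (⟨-1,1,-2,0,1,1,-4,0⟩, 11, 0),
    (⟨-1,1,-2,0,1,1,4,0⟩, 11, 0),
    (⟨-1,1,-1,-1,-4,0,-2,0⟩, 9, 6),
    (⟨-1,1,-1,-1,-4,0,2,0⟩, 1, 2),
    (⟨-1,1,-1,-1,0,0,0,-2⟩, 5, 0),
    (⟨-1,1,-1,-1,0,0,0,2⟩, 13, 4),
    (⟨-1,1,-1,-1,4,0,-2,0⟩, 9, 6),
    (⟨-1,1,-1,-1,4,0,2,0⟩, 1, 2),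
    (⟨-1,1,-1,1,-3,-1,-1,1⟩, 4, 5),
    (⟨-1,1,-1,1,-3,-1,1,-1⟩, 0, 2),
    (⟨-1,1,-1,1,-1,1,-3,-1⟩, 4, 9),
    (⟨-1,1,-1,1,-1,1,3,1⟩, 0, 14),
    (⟨-1,1,-1,1,1,-1,-3,-1⟩, 0, 7),
    (⟨-1,1,-1,1,1,-1,3,1⟩, 4, 0),
    (⟨-1,1,-1,1,3,1,-1,1⟩, 0, 11),
    (⟨-1,1,-1,1,3,1,1,-1⟩, 4, 12),
    (⟨-1,1,0,-2,-1,-1,0,0⟩, 11, 0),
    (⟨-1,1,0,-2,1,1,0,0⟩, 7, 15),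
    (⟨-1,1,0,0,0,-2,-1,-1⟩, 10, 0),
    (⟨-1,1,0,0,0,-2,1,1⟩, 6, 3),
    (⟨-1,1,0,0,0,2,-1,-1⟩, 2, 1),
    (⟨-1,1,0,0,0,2,1,1⟩, 14, 2),
    (⟨-1,1,0,2,-1,-1,0,0⟩, 3, 13),
    (⟨-1,1,0,2,1,1,0,0⟩, 15, 2),
    (⟨-1,1,1,-1,-3,-1,-1,1⟩, 0, 14),
    (⟨-1,1,1,-1,-3,-1,1,-1⟩, 4, 9),
    (⟨-1,1,1,-1,-1,1,-3,-1⟩, 0, 2),
    (⟨-1,1,1,-1,-1,1,3,1⟩, 4, 5),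
    (⟨-1,1,1,-1,1,-1,-3,-1⟩, 4, 12),
    (⟨-1,1,1,-1,1,-1,3,1⟩, 0, 11),
    (⟨-1,1,1,-1,3,1,-1,1⟩, 4, 0),
    (⟨-1,1,1,-1,3,1,1,-1⟩, 0, 7),
    (⟨-1,1,1,1,-4,0,-2,0⟩, 5, 0),
    (⟨-1,1,1,1,-4,0,2,0⟩, 13, 4),
    (⟨-1,1,1,1,0,0,0,-2⟩, 9, 6),
    (⟨-1,1,1,1,0,0,0,2⟩, 1, 2),
    (⟨-1,1,1,1,4,0,-2,0⟩, 5, 0),
    (⟨-1,1,1,1,4,0,2,0⟩, 13, 4),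
    (⟨-1,1,2,0,-1,-1,-4,0⟩, 15, 2),
    (⟨-1,1,2,0,-1,-1,4,0⟩, 15, 2)]

/-- part of `grp32` -/
def grp32Part2 : List (IQ × ℕ × ℕ) :=
  [(⟨-1,1,2,0,1,1,-4,0⟩, 3, 13),
    (⟨-1,1,2,0,1,1,4,0⟩, 3, 13),
    (⟨-1,1,3,1,-1,1,-1,1⟩, 0, 7),
    (⟨-1,1,3,1,-1,1,1,-1⟩, 4, 0),
    (⟨-1,1,3,1,1,-1,-1,1⟩, 4, 9),
    (⟨-1,1,3,1,1,-1,1,-1⟩, 0, 14),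
    (⟨-1,1,4,0,-2,0,-1,-1⟩, 6, 3),
    (⟨-1,1,4,0,-2,0,1,1⟩, 10, 0),
    (⟨-1,1,4,0,2,0,-1,-1⟩, 14, 2),
    (⟨-1,1,4,0,2,0,1,1⟩, 2, 1),
    (⟨0,-2,-2,0,-2,0,-2,0⟩, 8, 0),
    (⟨0,-2,-2,0,-2,0,2,0⟩, 0, 4),
    (⟨0,-2,-2,0,2,0,-2,0⟩, 0, 1),
    (⟨0,-2,-2,0,2,0,2,0⟩, 8, 5),
    (⟨0,-2,-1,-1,-1,1,0,0⟩, 14, 8),
    (⟨0,-2,-1,-1,1,-1,0,0⟩, 10, 6),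
    (⟨0,-2,-1,1,0,0,-1,-1⟩, 15, 8),
    (⟨0,-2,-1,1,0,0,1,1⟩, 3, 11),
    (⟨0,-2,0,0,-1,-1,-1,1⟩, 1, 8),
    (⟨0,-2,0,0,-1,-1,1,-1⟩, 5, 15),
    (⟨0,-2,0,0,1,1,-1,1⟩, 13, 7),
    (⟨0,-2,0,0,1,1,1,-1⟩, 9, 0),
    (⟨0,-2,1,-1,0,0,-1,-1⟩, 11, 3),
    (⟨0,-2,1,-1,0,0,1,1⟩, 7, 0),
    (⟨0,-2,1,1,-1,1,0,0⟩, 2, 14),
    (⟨0,-2,1,1,1,-1,0,0⟩, 6, 0),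
    (⟨0,-2,2,0,-2,0,-2,0⟩, 0, 13),
    (⟨0,-2,2,0,-2,0,2,0⟩, 8, 9),
    (⟨0,-2,2,0,2,0,-2,0⟩, 8, 12),
    (⟨0,-2,2,0,2,0,2,0⟩, 0, 8),
    (⟨0,0,-4,0,-4,0,0,0⟩, 0, 12),
    (⟨0,0,-4,0,0,0,-4,0⟩, 0, 9),
    (⟨0,0,-4,0,0,0,4,0⟩, 0, 9),
    (⟨0,0,-4,0,4,0,0,0⟩, 0, 12),
    (⟨0,0,-3,-1,-3,1,-2,0⟩, 14, 0),
    (⟨0,0,-3,-1,-3,1,2,0⟩, 6, 4),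
    (⟨0,0,-3,-1,3,-1,-2,0⟩, 2, 15),
    (⟨0,0,-3,-1,3,-1,2,0⟩, 10, 11),
    (⟨0,0,-3,1,-2,0,-3,-1⟩, 15, 0),
    (⟨0,0,-3,1,-2,0,3,1⟩, 11, 7),
    (⟨0,0,-3,1,2,0,-3,-1⟩, 7, 1),
    (⟨0,0,-3,1,2,0,3,1⟩, 3, 6),
    (⟨0,0,-2,0,-3,-1,-3,1⟩, 1, 0),
    (⟨0,0,-2,0,-3,-1,3,-1⟩, 13, 3),
    (⟨0,0,-2,0,3,1,-3,1⟩, 5, 14),
    (⟨0,0,-2,0,3,1,3,-1⟩, 9, 13),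
    (⟨0,0,-1,-1,0,-2,-1,1⟩, 3, 6),
    (⟨0,0,-1,-1,0,-2,1,-1⟩, 7, 1),
    (⟨0,0,-1,-1,0,2,-1,1⟩, 11, 7),
    (⟨0,0,-1,-1,0,2,1,-1⟩, 15, 0),
    (⟨0,0,-1,1,-1,-1,0,-2⟩, 2, 15),
    (⟨0,0,-1,1,-1,-1,0,2⟩, 10, 11),
    (⟨0,0,-1,1,1,1,0,-2⟩, 14, 0),
    (⟨0,0,-1,1,1,1,0,2⟩, 6, 4),
    (⟨0,0,0,-2,-1,1,-1,-1⟩, 13, 3),
    (⟨0,0,0,-2,-1,1,1,1⟩, 1, 0),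
    (⟨0,0,0,-2,1,-1,-1,-1⟩, 9, 13),
    (⟨0,0,0,-2,1,-1,1,1⟩, 5, 14),
    (⟨0,0,0,0,-4,0,-4,0⟩, 0, 5),
    (⟨0,0,0,0,-4,0,4,0⟩, 0, 5),
    (⟨0,0,0,0,4,0,-4,0⟩, 0, 5),
    (⟨0,0,0,0,4,0,4,0⟩, 0, 5),
    (⟨0,0,0,2,-1,1,-1,-1⟩, 5, 14),
    (⟨0,0,0,2,-1,1,1,1⟩, 9, 13),
    (⟨0,0,0,2,1,-1,-1,-1⟩, 1, 0),
    (⟨0,0,0,2,1,-1,1,1⟩, 13, 3),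
    (⟨0,0,1,-1,-1,-1,0,-2⟩, 6, 4),
    (⟨0,0,1,-1,-1,-1,0,2⟩, 14, 0),
    (⟨0,0,1,-1,1,1,0,-2⟩, 10, 11),
    (⟨0,0,1,-1,1,1,0,2⟩, 2, 15),
    (⟨0,0,1,1,0,-2,-1,1⟩, 15, 0),
    (⟨0,0,1,1,0,-2,1,-1⟩, 11, 7),
    (⟨0,0,1,1,0,2,-1,1⟩, 7, 1),
    (⟨0,0,1,1,0,2,1,-1⟩, 3, 6),
    (⟨0,0,2,0,-3,-1,-3,1⟩, 9, 13),
    (⟨0,0,2,0,-3,-1,3,-1⟩, 5, 14),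
    (⟨0,0,2,0,3,1,-3,1⟩, 13, 3),
    (⟨0,0,2,0,3,1,3,-1⟩, 1, 0),
    (⟨0,0,3,-1,-2,0,-3,-1⟩, 3, 6),
    (⟨0,0,3,-1,-2,0,3,1⟩, 7, 1),
    (⟨0,0,3,-1,2,0,-3,-1⟩, 11, 7),
    (⟨0,0,3,-1,2,0,3,1⟩, 15, 0),
    (⟨0,0,3,1,-3,1,-2,0⟩, 10, 11),
    (⟨0,0,3,1,-3,1,2,0⟩, 2, 15),
    (⟨0,0,3,1,3,-1,-2,0⟩, 6, 4),
    (⟨0,0,3,1,3,-1,2,0⟩, 14, 0),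
    (⟨0,0,4,0,-4,0,0,0⟩, 0, 12),
    (⟨0,0,4,0,0,0,-4,0⟩, 0, 9),
    (⟨0,0,4,0,0,0,4,0⟩, 0, 9),
    (⟨0,0,4,0,4,0,0,0⟩, 0, 12),
    (⟨0,2,-2,0,-2,0,-2,0⟩, 0, 8),
    (⟨0,2,-2,0,-2,0,2,0⟩, 8, 12),
    (⟨0,2,-2,0,2,0,-2,0⟩, 8, 9),
    (⟨0,2,-2,0,2,0,2,0⟩, 0, 13),
    (⟨0,2,-1,-1,-1,1,0,0⟩, 6, 0),
    (⟨0,2,-1,-1,1,-1,0,0⟩, 2, 14),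
    (⟨0,2,-1,1,0,0,-1,-1⟩, 7, 0),
    (⟨0,2,-1,1,0,0,1,1⟩, 11, 3),
    (⟨0,2,0,0,-1,-1,-1,1⟩, 9, 0),
    (⟨0,2,0,0,-1,-1,1,-1⟩, 13, 7),
    (⟨0,2,0,0,1,1,-1,1⟩, 5, 15),
    (⟨0,2,0,0,1,1,1,-1⟩, 1, 8),
    (⟨0,2,1,-1,0,0,-1,-1⟩, 3, 11),
    (⟨0,2,1,-1,0,0,1,1⟩, 15, 8),
    (⟨0,2,1,1,-1,1,0,0⟩, 10, 6),
    (⟨0,2,1,1,1,-1,0,0⟩, 14, 8),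
    (⟨0,2,2,0,-2,0,-2,0⟩, 8, 5),
    (⟨0,2,2,0,-2,0,2,0⟩, 0, 1),
    (⟨0,2,2,0,2,0,-2,0⟩, 0, 4),
    (⟨0,2,2,0,2,0,2,0⟩, 8, 0),
    (⟨1,-1,-4,0,-2,0,-1,-1⟩, 2, 1),
    (⟨1,-1,-4,0,-2,0,1,1⟩, 14, 2),
    (⟨1,-1,-4,0,2,0,-1,-1⟩, 10, 0),
    (⟨1,-1,-4,0,2,0,1,1⟩, 6, 3),
    (⟨1,-1,-3,-1,-1,1,-1,1⟩, 0, 14),
    (⟨1,-1,-3,-1,-1,1,1,-1⟩, 4, 9),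
    (⟨1,-1,-3,-1,1,-1,-1,1⟩, 4, 0),
    (⟨1,-1,-3,-1,1,-1,1,-1⟩, 0, 7),
    (⟨1,-1,-2,0,-1,-1,-4,0⟩, 3, 13),
    (⟨1,-1,-2,0,-1,-1,4,0⟩, 3, 13)]

/-- part of `grp32` -/
def grp32Part3 : List (IQ × ℕ × ℕ) :=
  [(⟨1,-1,-2,0,1,1,-4,0⟩, 15, 2),
    (⟨1,-1,-2,0,1,1,4,0⟩, 15, 2),
    (⟨1,-1,-1,-1,-4,0,-2,0⟩, 13, 4),
    (⟨1,-1,-1,-1,-4,0,2,0⟩, 5, 0),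
    (⟨1,-1,-1,-1,0,0,0,-2⟩, 1, 2),
    (⟨1,-1,-1,-1,0,0,0,2⟩, 9, 6),
    (⟨1,-1,-1,-1,4,0,-2,0⟩, 13, 4),
    (⟨1,-1,-1,-1,4,0,2,0⟩, 5, 0),
    (⟨1,-1,-1,1,-3,-1,-1,1⟩, 0, 7),
    (⟨1,-1,-1,1,-3,-1,1,-1⟩, 4, 0),
    (⟨1,-1,-1,1,-1,1,-3,-1⟩, 0, 11),
    (⟨1,-1,-1,1,-1,1,3,1⟩, 4, 12),
    (⟨1,-1,-1,1,1,-1,-3,-1⟩, 4, 5),
    (⟨1,-1,-1,1,1,-1,3,1⟩, 0, 2),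
    (⟨1,-1,-1,1,3,1,-1,1⟩, 4, 9),
    (⟨1,-1,-1,1,3,1,1,-1⟩, 0, 14),
    (⟨1,-1,0,-2,-1,-1,0,0⟩, 15, 2),
    (⟨1,-1,0,-2,1,1,0,0⟩, 3, 13),
    (⟨1,-1,0,0,0,-2,-1,-1⟩, 14, 2),
    (⟨1,-1,0,0,0,-2,1,1⟩, 2, 1),
    (⟨1,-1,0,0,0,2,-1,-1⟩, 6, 3),
    (⟨1,-1,0,0,0,2,1,1⟩, 10, 0),
    (⟨1,-1,0,2,-1,-1,0,0⟩, 7, 15),
    (⟨1,-1,0,2,1,1,0,0⟩, 11, 0),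
    (⟨1,-1,1,-1,-3,-1,-1,1⟩, 4, 12),
    (⟨1,-1,1,-1,-3,-1,1,-1⟩, 0, 11),
    (⟨1,-1,1,-1,-1,1,-3,-1⟩, 4, 0),
    (⟨1,-1,1,-1,-1,1,3,1⟩, 0, 7),
    (⟨1,-1,1,-1,1,-1,-3,-1⟩, 0, 14),
    (⟨1,-1,1,-1,1,-1,3,1⟩, 4, 9),
    (⟨1,-1,1,-1,3,1,-1,1⟩, 0, 2),
    (⟨1,-1,1,-1,3,1,1,-1⟩, 4, 5),
    (⟨1,-1,1,1,-4,0,-2,0⟩, 1, 2),
    (⟨1,-1,1,1,-4,0,2,0⟩, 9, 6),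
    (⟨1,-1,1,1,0,0,0,-2⟩, 13, 4),
    (⟨1,-1,1,1,0,0,0,2⟩, 5, 0),
    (⟨1,-1,1,1,4,0,-2,0⟩, 1, 2),
    (⟨1,-1,1,1,4,0,2,0⟩, 9, 6),
    (⟨1,-1,2,0,-1,-1,-4,0⟩, 11, 0),
    (⟨1,-1,2,0,-1,-1,4,0⟩, 11, 0),
    (⟨1,-1,2,0,1,1,-4,0⟩, 7, 15),
    (⟨1,-1,2,0,1,1,4,0⟩, 7, 15),
    (⟨1,-1,3,1,-1,1,-1,1⟩, 4, 5),
    (⟨1,-1,3,1,-1,1,1,-1⟩, 0, 2),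
    (⟨1,-1,3,1,1,-1,-1,1⟩, 0, 11),
    (⟨1,-1,3,1,1,-1,1,-1⟩, 4, 12),
    (⟨1,-1,4,0,-2,0,-1,-1⟩, 2, 1),
    (⟨1,-1,4,0,-2,0,1,1⟩, 14, 2),
    (⟨1,-1,4,0,2,0,-1,-1⟩, 10, 0),
    (⟨1,-1,4,0,2,0,1,1⟩, 6, 3),
    (⟨1,1,-4,0,-1,1,-2,0⟩, 7, 14),
    (⟨1,1,-4,0,-1,1,2,0⟩, 15, 10),
    (⟨1,1,-4,0,1,-1,-2,0⟩, 3, 0),
    (⟨1,1,-4,0,1,-1,2,0⟩, 11, 4),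
    (⟨1,1,-3,1,-1,-1,-1,-1⟩, 12, 9),
    (⟨1,1,-3,1,-1,-1,1,1⟩, 0, 10),
    (⟨1,1,-3,1,1,1,-1,-1⟩, 0, 6),
    (⟨1,1,-3,1,1,1,1,1⟩, 12, 5),
    (⟨1,1,-2,0,-4,0,-1,1⟩, 6, 7),
    (⟨1,1,-2,0,-4,0,1,-1⟩, 2, 0),
    (⟨1,1,-2,0,4,0,-1,1⟩, 6, 7),
    (⟨1,1,-2,0,4,0,1,-1⟩, 2, 0),
    (⟨1,1,-1,-1,-3,1,-1,-1⟩, 12, 12),
    (⟨1,1,-1,-1,-3,1,1,1⟩, 0, 15),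
    (⟨1,1,-1,-1,-1,-1,-3,1⟩, 12, 5),
    (⟨1,1,-1,-1,-1,-1,3,-1⟩, 0, 6),
    (⟨1,1,-1,-1,1,1,-3,1⟩, 0, 10),
    (⟨1,1,-1,-1,1,1,3,-1⟩, 12, 9),
    (⟨1,1,-1,-1,3,-1,-1,-1⟩, 0, 3),
    (⟨1,1,-1,-1,3,-1,1,1⟩, 12, 0),
    (⟨1,1,-1,1,-2,0,-4,0⟩, 9, 11),
    (⟨1,1,-1,1,-2,0,4,0⟩, 9, 11),
    (⟨1,1,-1,1,0,-2,0,0⟩, 5, 1),
    (⟨1,1,-1,1,0,2,0,0⟩, 13, 0),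
    (⟨1,1,-1,1,2,0,-4,0⟩, 1, 10),
    (⟨1,1,-1,1,2,0,4,0⟩, 1, 10),
    (⟨1,1,0,-2,0,0,-1,1⟩, 10, 13),
    (⟨1,1,0,-2,0,0,1,-1⟩, 14, 10),
    (⟨1,1,0,0,-1,1,0,-2⟩, 11, 4),
    (⟨1,1,0,0,-1,1,0,2⟩, 3, 0),
    (⟨1,1,0,0,1,-1,0,-2⟩, 15, 10),
    (⟨1,1,0,0,1,-1,0,2⟩, 7, 14),
    (⟨1,1,0,2,0,0,-1,1⟩, 2, 0),
    (⟨1,1,0,2,0,0,1,-1⟩, 6, 7),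
    (⟨1,1,1,-1,-2,0,-4,0⟩, 13, 0),
    (⟨1,1,1,-1,-2,0,4,0⟩, 13, 0),
    (⟨1,1,1,-1,0,-2,0,0⟩, 1, 10),
    (⟨1,1,1,-1,0,2,0,0⟩, 9, 11),
    (⟨1,1,1,-1,2,0,-4,0⟩, 5, 1),
    (⟨1,1,1,-1,2,0,4,0⟩, 5, 1),
    (⟨1,1,1,1,-3,1,-1,-1⟩, 0, 10),
    (⟨1,1,1,1,-3,1,1,1⟩, 12, 9),
    (⟨1,1,1,1,-1,-1,-3,1⟩, 0, 3),
    (⟨1,1,1,1,-1,-1,3,-1⟩, 12, 0),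
    (⟨1,1,1,1,1,1,-3,1⟩, 12, 12),
    (⟨1,1,1,1,1,1,3,-1⟩, 0, 15),
    (⟨1,1,1,1,3,-1,-1,-1⟩, 12, 5),
    (⟨1,1,1,1,3,-1,1,1⟩, 0, 6),
    (⟨1,1,2,0,-4,0,-1,1⟩, 14, 10),
    (⟨1,1,2,0,-4,0,1,-1⟩, 10, 13),
    (⟨1,1,2,0,4,0,-1,1⟩, 14, 10),
    (⟨1,1,2,0,4,0,1,-1⟩, 10, 13),
    (⟨1,1,3,-1,-1,-1,-1,-1⟩, 0, 15),
    (⟨1,1,3,-1,-1,-1,1,1⟩, 12, 12),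
    (⟨1,1,3,-1,1,1,-1,-1⟩, 12, 0),
    (⟨1,1,3,-1,1,1,1,1⟩, 0, 3),
    (⟨1,1,4,0,-1,1,-2,0⟩, 7, 14),
    (⟨1,1,4,0,-1,1,2,0⟩, 15, 10),
    (⟨1,1,4,0,1,-1,-2,0⟩, 3, 0),
    (⟨1,1,4,0,1,-1,2,0⟩, 11, 4),
    (⟨2,0,-4,0,-1,-1,-1,1⟩, 5, 15),
    (⟨2,0,-4,0,-1,-1,1,-1⟩, 1, 8),
    (⟨2,0,-4,0,1,1,-1,1⟩, 9, 0),
    (⟨2,0,-4,0,1,1,1,-1⟩, 13, 7),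
    (⟨2,0,-3,-1,0,0,-3,1⟩, 11, 3),
    (⟨2,0,-3,-1,0,0,3,-1⟩, 7, 0),
    (⟨2,0,-3,1,-3,-1,0,0⟩, 10, 6),
    (⟨2,0,-3,1,3,1,0,0⟩, 14, 8),
    (⟨2,0,-2,0,-2,0,0,-2⟩, 0, 13),
    (⟨2,0,-2,0,-2,0,0,2⟩, 8, 9)]

/-- part of `grp32` -/
def grp32Part4 : List (IQ × ℕ × ℕ) :=
  [(⟨2,0,-2,0,0,-2,-2,0⟩, 0, 4),
    (⟨2,0,-2,0,0,-2,2,0⟩, 8, 0),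
    (⟨2,0,-2,0,0,2,-2,0⟩, 8, 5),
    (⟨2,0,-2,0,0,2,2,0⟩, 0, 1),
    (⟨2,0,-2,0,2,0,0,-2⟩, 8, 12),
    (⟨2,0,-2,0,2,0,0,2⟩, 0, 8),
    (⟨2,0,-1,-1,-1,1,-4,0⟩, 10, 6),
    (⟨2,0,-1,-1,-1,1,4,0⟩, 10, 6),
    (⟨2,0,-1,-1,1,-1,-4,0⟩, 14, 8),
    (⟨2,0,-1,-1,1,-1,4,0⟩, 14, 8),
    (⟨2,0,-1,1,-4,0,-1,-1⟩, 11, 3),
    (⟨2,0,-1,1,-4,0,1,1⟩, 7, 0),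
    (⟨2,0,-1,1,4,0,-1,-1⟩, 11, 3),
    (⟨2,0,-1,1,4,0,1,1⟩, 7, 0),
    (⟨2,0,0,-2,-2,0,-2,0⟩, 0, 1),
    (⟨2,0,0,-2,-2,0,2,0⟩, 8, 5),
    (⟨2,0,0,-2,2,0,-2,0⟩, 8, 0),
    (⟨2,0,0,-2,2,0,2,0⟩, 0, 4),
    (⟨2,0,0,0,-3,1,-3,-1⟩, 5, 15),
    (⟨2,0,0,0,-3,1,3,1⟩, 1, 8),
    (⟨2,0,0,0,3,-1,-3,-1⟩, 9, 0),
    (⟨2,0,0,0,3,-1,3,1⟩, 13, 7),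
    (⟨2,0,0,2,-2,0,-2,0⟩, 8, 12),
    (⟨2,0,0,2,-2,0,2,0⟩, 0, 8),
    (⟨2,0,0,2,2,0,-2,0⟩, 0, 13),
    (⟨2,0,0,2,2,0,2,0⟩, 8, 9),
    (⟨2,0,1,-1,-4,0,-1,-1⟩, 15, 8),
    (⟨2,0,1,-1,-4,0,1,1⟩, 3, 11),
    (⟨2,0,1,-1,4,0,-1,-1⟩, 15, 8),
    (⟨2,0,1,-1,4,0,1,1⟩, 3, 11),
    (⟨2,0,1,1,-1,1,-4,0⟩, 6, 0),
    (⟨2,0,1,1,-1,1,4,0⟩, 6, 0),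
    (⟨2,0,1,1,1,-1,-4,0⟩, 2, 14),
    (⟨2,0,1,1,1,-1,4,0⟩, 2, 14),
    (⟨2,0,2,0,-2,0,0,-2⟩, 8, 0),
    (⟨2,0,2,0,-2,0,0,2⟩, 0, 4),
    (⟨2,0,2,0,0,-2,-2,0⟩, 8, 9),
    (⟨2,0,2,0,0,-2,2,0⟩, 0, 13),
    (⟨2,0,2,0,0,2,-2,0⟩, 0, 8),
    (⟨2,0,2,0,0,2,2,0⟩, 8, 12),
    (⟨2,0,2,0,2,0,0,-2⟩, 0, 1),
    (⟨2,0,2,0,2,0,0,2⟩, 8, 5),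
    (⟨2,0,3,-1,-3,-1,0,0⟩, 6, 0),
    (⟨2,0,3,-1,3,1,0,0⟩, 2, 14),
    (⟨2,0,3,1,0,0,-3,1⟩, 15, 8),
    (⟨2,0,3,1,0,0,3,-1⟩, 3, 11),
    (⟨2,0,4,0,-1,-1,-1,1⟩, 5, 15),
    (⟨2,0,4,0,-1,-1,1,-1⟩, 1, 8),
    (⟨2,0,4,0,1,1,-1,1⟩, 9, 0),
    (⟨2,0,4,0,1,1,1,-1⟩, 13, 7),
    (⟨3,-1,-3,-1,-2,0,0,0⟩, 9, 11),
    (⟨3,-1,-3,-1,2,0,0,0⟩, 1, 10),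
    (⟨3,-1,-2,0,0,0,-3,-1⟩, 6, 7),
    (⟨3,-1,-2,0,0,0,3,1⟩, 2, 0),
    (⟨3,-1,-1,-1,-1,-1,-1,-1⟩, 12, 0),
    (⟨3,-1,-1,-1,-1,-1,1,1⟩, 0, 3),
    (⟨3,-1,-1,-1,1,1,-1,-1⟩, 0, 15),
    (⟨3,-1,-1,-1,1,1,1,1⟩, 12, 12),
    (⟨3,-1,0,0,-3,-1,-2,0⟩, 7, 14),
    (⟨3,-1,0,0,-3,-1,2,0⟩, 15, 10),
    (⟨3,-1,0,0,3,1,-2,0⟩, 3, 0),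
    (⟨3,-1,0,0,3,1,2,0⟩, 11, 4),
    (⟨3,-1,1,1,-1,-1,-1,-1⟩, 0, 6),
    (⟨3,-1,1,1,-1,-1,1,1⟩, 12, 5),
    (⟨3,-1,1,1,1,1,-1,-1⟩, 12, 9),
    (⟨3,-1,1,1,1,1,1,1⟩, 0, 10),
    (⟨3,-1,2,0,0,0,-3,-1⟩, 14, 10),
    (⟨3,-1,2,0,0,0,3,1⟩, 10, 13),
    (⟨3,-1,3,1,-2,0,0,0⟩, 13, 0),
    (⟨3,-1,3,1,2,0,0,0⟩, 5, 1),
    (⟨3,1,-3,1,0,0,-2,0⟩, 13, 4),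
    (⟨3,1,-3,1,0,0,2,0⟩, 5, 0),
    (⟨3,1,-2,0,-3,1,0,0⟩, 3, 13),
    (⟨3,1,-2,0,3,-1,0,0⟩, 15, 2),
    (⟨3,1,-1,1,-1,1,-1,1⟩, 0, 2),
    (⟨3,1,-1,1,-1,1,1,-1⟩, 4, 5),
    (⟨3,1,-1,1,1,-1,-1,1⟩, 4, 12),
    (⟨3,1,-1,1,1,-1,1,-1⟩, 0, 11),
    (⟨3,1,0,0,-2,0,-3,1⟩, 2, 1),
    (⟨3,1,0,0,-2,0,3,-1⟩, 14, 2),
    (⟨3,1,0,0,2,0,-3,1⟩, 10, 0),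
    (⟨3,1,0,0,2,0,3,-1⟩, 6, 3),
    (⟨3,1,1,-1,-1,1,-1,1⟩, 4, 9),
    (⟨3,1,1,-1,-1,1,1,-1⟩, 0, 14),
    (⟨3,1,1,-1,1,-1,-1,1⟩, 0, 7),
    (⟨3,1,1,-1,1,-1,1,-1⟩, 4, 0),
    (⟨3,1,2,0,-3,1,0,0⟩, 11, 0),
    (⟨3,1,2,0,3,-1,0,0⟩, 7, 15),
    (⟨3,1,3,-1,0,0,-2,0⟩, 1, 2),
    (⟨3,1,3,-1,0,0,2,0⟩, 9, 6),
    (⟨4,0,-4,0,0,0,0,0⟩, 0, 5),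
    (⟨4,0,-2,0,-1,1,-1,-1⟩, 1, 0),
    (⟨4,0,-2,0,-1,1,1,1⟩, 13, 3),
    (⟨4,0,-2,0,1,-1,-1,-1⟩, 5, 14),
    (⟨4,0,-2,0,1,-1,1,1⟩, 9, 13),
    (⟨4,0,-1,-1,-2,0,-1,1⟩, 15, 0),
    (⟨4,0,-1,-1,-2,0,1,-1⟩, 11, 7),
    (⟨4,0,-1,-1,2,0,-1,1⟩, 7, 1),
    (⟨4,0,-1,-1,2,0,1,-1⟩, 3, 6),
    (⟨4,0,-1,1,-1,-1,-2,0⟩, 14, 0),
    (⟨4,0,-1,1,-1,-1,2,0⟩, 6, 4),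
    (⟨4,0,-1,1,1,1,-2,0⟩, 2, 15),
    (⟨4,0,-1,1,1,1,2,0⟩, 10, 11),
    (⟨4,0,0,0,-4,0,0,0⟩, 0, 9),
    (⟨4,0,0,0,0,0,-4,0⟩, 0, 12),
    (⟨4,0,0,0,0,0,4,0⟩, 0, 12),
    (⟨4,0,0,0,4,0,0,0⟩, 0, 9),
    (⟨4,0,1,-1,-1,-1,-2,0⟩, 10, 11),
    (⟨4,0,1,-1,-1,-1,2,0⟩, 2, 15),
    (⟨4,0,1,-1,1,1,-2,0⟩, 6, 4),
    (⟨4,0,1,-1,1,1,2,0⟩, 14, 0),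
    (⟨4,0,1,1,-2,0,-1,1⟩, 3, 6),
    (⟨4,0,1,1,-2,0,1,-1⟩, 7, 1),
    (⟨4,0,1,1,2,0,-1,1⟩, 11, 7),
    (⟨4,0,1,1,2,0,1,-1⟩, 15, 0),
    (⟨4,0,2,0,-1,1,-1,-1⟩, 9, 13),
    (⟨4,0,2,0,-1,1,1,1⟩, 5, 14),
    (⟨4,0,2,0,1,-1,-1,-1⟩, 13, 3),
    (⟨4,0,2,0,1,-1,1,1⟩, 1, 0),
    (⟨4,0,4,0,0,0,0,0⟩, 0, 5)]

/-- elements of norm (32, 0), with labels -/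
def grp32 : List (IQ × ℕ × ℕ) :=
  grp32Part0 ++ grp32Part1 ++ grp32Part2 ++ grp32Part3 ++ grp32Part4

/-- representatives up to units -/
def rhoList : List (IQ × ℕ × ℕ) :=
  [(⟨-3,-1,-2,0,-1,-1,0,0⟩, 3, 1), (⟨-3,1,-2,0,0,0,-1,1⟩, 6, 14), (⟨-4,0,-4,0,0,0,0,0⟩, 0, 5), (⟨-4,0,-2,0,-1,1,-1,-1⟩, 1, 0), (⟨-4,0,-2,0,-1,1,1,1⟩, 13, 3), (⟨-4,0,-2,0,1,-1,-1,-1⟩, 5, 14), (⟨-4,0,-2,0,1,-1,1,1⟩, 9, 13)]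

/-- part of `grp24pW` -/
def grp24pWPart0 : List (ℕ × ℕ) :=
  [(0, 0),
    (93, 0),
    (58, 0),
    (111, 0),
    (112, 0),
    (63, 0),
    (91, 0),
    (74, 0),
    (72, 0),
    (92, 0),
    (66, 0),
    (10, 0),
    (34, 0),
    (76, 0),
    (15, 0),
    (61, 0),
    (60, 0),
    (17, 0),
    (75, 0),
    (19, 0),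
    (83, 0),
    (77, 0),
    (14, 0),
    (82, 0),
    (7, 0),
    (101, 0),
    (41, 0),
    (88, 0),
    (21, 0),
    (57, 0),
    (114, 0),
    (4, 0),
    (48, 0),
    (113, 0),
    (32, 0),
    (116, 0),
    (36, 0),
    (2, 0),
    (89, 0),
    (38, 0),
    (107, 0),
    (49, 0),
    (50, 0),
    (47, 0),
    (104, 0),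
    (73, 0),
    (43, 0),
    (85, 0),
    (100, 0),
    (44, 0),
    (86, 0),
    (94, 0),
    (24, 0),
    (26, 0),
    (11, 0),
    (46, 0),
    (117, 0),
    (108, 0),
    (90, 0),
    (99, 0),
    (79, 0),
    (69, 0),
    (119, 0),
    (106, 0),
    (27, 0),
    (23, 0),
    (45, 0),
    (12, 0),
    (110, 0),
    (65, 0),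
    (25, 0),
    (80, 0),
    (105, 0),
    (64, 0),
    (52, 0),
    (84, 0),
    (28, 0),
    (31, 0),
    (30, 0),
    (118, 0),
    (59, 0),
    (68, 0),
    (8, 0),
    (20, 0),
    (115, 0),
    (16, 0),
    (97, 0),
    (29, 0),
    (13, 0),
    (98, 0),
    (78, 0),
    (9, 0),
    (67, 0),
    (62, 0),
    (81, 0),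
    (1, 0),
    (102, 0),
    (5, 0),
    (56, 0),
    (103, 0),
    (35, 0),
    (54, 0),
    (33, 0),
    (39, 0),
    (40, 0),
    (6, 0),
    (55, 0),
    (18, 0),
    (22, 0),
    (87, 0),
    (71, 0),
    (51, 0),
    (53, 0),
    (70, 0),
    (42, 0),
    (96, 0),
    (95, 0),
    (37, 0),
    (109, 0),
    (3, 0)]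

/-- unit and representative -/
def grp24pW : List (ℕ × ℕ) :=
  grp24pWPart0

/-- part of `grp24mW` -/
def grp24mWPart0 : List (ℕ × ℕ) :=
  [(0, 1),
    (91, 1),
    (29, 1),
    (23, 1),
    (14, 1),
    (75, 1),
    (27, 1),
    (90, 1),
    (17, 1),
    (74, 1),
    (13, 1),
    (81, 1),
    (92, 1),
    (2, 1),
    (25, 1),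
    (105, 1),
    (77, 1),
    (82, 1),
    (89, 1),
    (104, 1),
    (72, 1),
    (66, 1),
    (7, 1),
    (80, 1),
    (28, 1),
    (24, 1),
    (43, 1),
    (76, 1),
    (41, 1),
    (30, 1),
    (97, 1),
    (22, 1),
    (42, 1),
    (31, 1),
    (118, 1),
    (26, 1),
    (108, 1),
    (15, 1),
    (60, 1),
    (73, 1),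
    (117, 1),
    (18, 1),
    (96, 1),
    (16, 1),
    (59, 1),
    (86, 1),
    (99, 1),
    (21, 1),
    (36, 1),
    (93, 1),
    (111, 1),
    (88, 1),
    (57, 1),
    (37, 1),
    (98, 1),
    (115, 1),
    (40, 1),
    (35, 1),
    (83, 1),
    (94, 1),
    (110, 1),
    (103, 1),
    (19, 1),
    (61, 1),
    (116, 1),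
    (114, 1),
    (58, 1),
    (78, 1),
    (67, 1),
    (95, 1),
    (109, 1),
    (20, 1),
    (9, 1),
    (79, 1),
    (65, 1),
    (38, 1),
    (32, 1),
    (112, 1),
    (34, 1),
    (106, 1),
    (52, 1),
    (39, 1),
    (6, 1),
    (119, 1),
    (45, 1),
    (107, 1),
    (50, 1),
    (63, 1),
    (10, 1),
    (113, 1),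
    (49, 1),
    (62, 1),
    (55, 1),
    (64, 1),
    (12, 1),
    (47, 1),
    (100, 1),
    (1, 1),
    (87, 1),
    (51, 1),
    (84, 1),
    (68, 1),
    (102, 1),
    (56, 1),
    (85, 1),
    (44, 1),
    (8, 1),
    (71, 1),
    (101, 1),
    (4, 1),
    (53, 1),
    (33, 1),
    (69, 1),
    (46, 1),
    (54, 1),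
    (5, 1),
    (11, 1),
    (48, 1),
    (70, 1),
    (3, 1)]

/-- unit and representative -/
def grp24mW : List (ℕ × ℕ) :=
  grp24mWPart0

/-- part of `grp32W` -/
def grp32WPart0 : List (ℕ × ℕ) :=
  [(0, 2),
    (0, 3),
    (0, 4),
    (0, 5),
    (0, 6),
    (94, 3),
    (17, 4),
    (15, 5),
    (91, 6),
    (89, 3),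
    (90, 4),
    (93, 5),
    (92, 6),
    (77, 2),
    (72, 2),
    (75, 2),
    (74, 2),
    (17, 6),
    (75, 5),
    (72, 4),
    (15, 3),
    (77, 6),
    (92, 5),
    (89, 4),
    (74, 3),
    (82, 6),
    (83, 5),
    (80, 4),
    (79, 3),
    (7, 2),
    (2, 4),
    (21, 5),
    (112, 6),
    (114, 3),
    (21, 3),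
    (92, 2),
    (89, 2),
    (2, 6),
    (63, 5),
    (75, 3),
    (72, 6),
    (66, 4),
    (63, 2),
    (111, 5),
    (113, 4),
    (66, 2),
    (77, 4),
    (74, 5),
    (63, 3),
    (66, 6),
    (76, 6),
    (73, 3),
    (27, 4),
    (30, 5),
    (17, 2),
    (73, 4),
    (76, 5),
    (15, 2),
    (77, 5),
    (13, 3),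
    (14, 6),
    (74, 4),
    (29, 6),
    (13, 2),
    (14, 2),
    (26, 3),
    (72, 3),
    (75, 6),
    (13, 4),
    (14, 5),
    (94, 5),
    (90, 3),
    (93, 6),
    (91, 4),
    (88, 4),
    (43, 5),
    (86, 6),
    (41, 3),
    (99, 6),
    (94, 2),
    (103, 4),
    (90, 2),
    (93, 2),
    (100, 5),
    (91, 2),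
    (102, 3),
    (19, 6),
    (111, 6),
    (113, 3),
    (59, 3),
    (29, 4),
    (106, 5),
    (104, 4),
    (26, 5),
    (61, 5),
    (61, 2),
    (58, 2),
    (58, 4),
    (112, 5),
    (30, 3),
    (27, 6),
    (114, 4),
    (25, 2),
    (23, 3),
    (25, 6),
    (23, 2),
    (77, 3),
    (61, 6),
    (58, 3),
    (74, 6),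
    (25, 4),
    (75, 4),
    (72, 5),
    (23, 5),
    (82, 2),
    (94, 4),
    (80, 2),
    (90, 6),
    (93, 3),
    (83, 2)]

/-- part of `grp32W` -/
def grp32WPart1 : List (ℕ × ℕ) :=
  [(91, 5),
    (79, 2),
    (20, 4),
    (60, 5),
    (107, 3),
    (105, 6),
    (7, 5),
    (7, 3),
    (7, 6),
    (7, 4),
    (101, 5),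
    (43, 3),
    (88, 6),
    (57, 4),
    (2, 2),
    (35, 3),
    (38, 6),
    (21, 2),
    (86, 4),
    (32, 5),
    (34, 4),
    (41, 5),
    (112, 2),
    (46, 5),
    (113, 2),
    (57, 6),
    (101, 3),
    (111, 2),
    (49, 4),
    (114, 2),
    (119, 6),
    (32, 6),
    (89, 5),
    (92, 4),
    (34, 3),
    (108, 3),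
    (58, 6),
    (61, 3),
    (82, 4),
    (63, 6),
    (66, 3),
    (79, 5),
    (107, 5),
    (105, 4),
    (119, 4),
    (61, 4),
    (12, 3),
    (10, 6),
    (58, 5),
    (108, 5),
    (92, 3),
    (106, 2),
    (39, 4),
    (105, 2),
    (107, 2),
    (36, 5),
    (104, 2),
    (89, 6),
    (106, 3),
    (45, 6),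
    (48, 3),
    (104, 6),
    (66, 5),
    (12, 2),
    (10, 2),
    (63, 4),
    (10, 5),
    (83, 3),
    (80, 6),
    (12, 4),
    (86, 5),
    (22, 3),
    (24, 6),
    (41, 4),
    (84, 5),
    (76, 2),
    (73, 2),
    (117, 4),
    (31, 6),
    (43, 6),
    (88, 3),
    (28, 3),
    (31, 4),
    (115, 5),
    (17, 3),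
    (15, 6),
    (116, 4),
    (28, 5),
    (22, 4),
    (29, 2),
    (98, 6),
    (30, 2),
    (27, 2),
    (96, 3),
    (26, 2),
    (24, 5),
    (20, 3),
    (60, 6),
    (80, 3),
    (13, 5),
    (14, 4),
    (83, 6),
    (25, 5),
    (23, 4),
    (20, 2),
    (118, 6),
    (19, 2),
    (15, 4),
    (17, 5),
    (59, 2),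
    (85, 3),
    (60, 2),
    (25, 3),
    (115, 6),
    (81, 4),
    (78, 5),
    (116, 3),
    (23, 6),
    (95, 4),
    (59, 4)]

/-- part of `grp32W` -/
def grp32WPart2 : List (ℕ × ℕ) :=
  [(19, 5),
    (97, 5),
    (78, 2),
    (14, 3),
    (13, 6),
    (81, 2),
    (82, 5),
    (78, 3),
    (81, 6),
    (79, 4),
    (32, 3),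
    (32, 2),
    (34, 2),
    (34, 6),
    (112, 4),
    (114, 5),
    (34, 5),
    (32, 4),
    (113, 6),
    (45, 4),
    (48, 5),
    (111, 3),
    (49, 6),
    (46, 3),
    (47, 6),
    (50, 3),
    (47, 2),
    (50, 5),
    (47, 4),
    (50, 2),
    (86, 2),
    (88, 2),
    (43, 2),
    (41, 2),
    (86, 3),
    (76, 4),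
    (73, 5),
    (41, 6),
    (2, 3),
    (43, 4),
    (88, 5),
    (21, 6),
    (39, 3),
    (118, 4),
    (85, 5),
    (36, 6),
    (73, 6),
    (90, 5),
    (93, 4),
    (76, 3),
    (2, 5),
    (94, 6),
    (91, 3),
    (21, 4),
    (19, 4),
    (84, 3),
    (117, 6),
    (59, 5),
    (119, 2),
    (115, 2),
    (116, 2),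
    (108, 2),
    (38, 5),
    (106, 6),
    (104, 3),
    (35, 4),
    (9, 4),
    (70, 3),
    (110, 6),
    (8, 5),
    (55, 3),
    (109, 4),
    (69, 5),
    (52, 6),
    (20, 6),
    (105, 5),
    (107, 4),
    (60, 3),
    (9, 6),
    (67, 5),
    (64, 4),
    (8, 3),
    (62, 6),
    (52, 5),
    (55, 4),
    (65, 3),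
    (62, 2),
    (64, 2),
    (67, 2),
    (65, 2),
    (31, 2),
    (28, 4),
    (31, 5),
    (28, 2),
    (31, 3),
    (28, 6),
    (27, 3),
    (30, 6),
    (95, 3),
    (29, 5),
    (26, 4),
    (97, 6),
    (16, 4),
    (18, 5),
    (98, 5),
    (96, 4),
    (18, 6),
    (18, 2),
    (16, 2),
    (16, 3),
    (99, 4),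
    (101, 6),
    (57, 3),
    (102, 5),
    (101, 2),
    (4, 6),
    (5, 3),
    (57, 2),
    (113, 5),
    (35, 5)]

/-- part of `grp32W` -/
def grp32WPart3 : List (ℕ × ℕ) :=
  [(38, 4),
    (111, 4),
    (11, 6),
    (115, 3),
    (57, 5),
    (101, 4),
    (116, 6),
    (44, 3),
    (39, 2),
    (105, 3),
    (38, 2),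
    (33, 5),
    (6, 4),
    (35, 2),
    (107, 6),
    (36, 2),
    (11, 4),
    (44, 5),
    (103, 6),
    (5, 4),
    (4, 5),
    (100, 3),
    (39, 6),
    (36, 3),
    (12, 5),
    (45, 2),
    (112, 3),
    (46, 2),
    (49, 2),
    (114, 6),
    (48, 2),
    (10, 4),
    (47, 5),
    (115, 4),
    (6, 6),
    (33, 3),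
    (116, 5),
    (50, 4),
    (47, 3),
    (67, 3),
    (64, 6),
    (50, 6),
    (106, 4),
    (52, 2),
    (55, 2),
    (104, 5),
    (62, 4),
    (12, 6),
    (10, 3),
    (65, 5),
    (24, 4),
    (100, 6),
    (103, 3),
    (22, 5),
    (42, 4),
    (22, 2),
    (24, 2),
    (87, 5),
    (84, 6),
    (29, 3),
    (26, 6),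
    (117, 3),
    (68, 6),
    (84, 2),
    (20, 5),
    (118, 2),
    (85, 2),
    (60, 4),
    (117, 2),
    (71, 3),
    (119, 5),
    (37, 5),
    (22, 6),
    (24, 3),
    (40, 4),
    (108, 4),
    (85, 4),
    (118, 5),
    (99, 5),
    (87, 3),
    (42, 6),
    (102, 4),
    (40, 3),
    (37, 6),
    (119, 3),
    (18, 3),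
    (71, 4),
    (68, 5),
    (16, 6),
    (108, 6),
    (98, 2),
    (30, 4),
    (95, 2),
    (81, 3),
    (78, 6),
    (97, 2),
    (27, 5),
    (96, 2),
    (62, 5),
    (18, 4),
    (16, 5),
    (65, 4),
    (9, 2),
    (59, 6),
    (19, 3),
    (8, 2),
    (78, 4),
    (67, 6),
    (64, 3),
    (81, 5),
    (1, 4),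
    (1, 6),
    (1, 3),
    (1, 5),
    (85, 6),
    (118, 3),
    (39, 5),
    (36, 4),
    (99, 2),
    (70, 5)]

/-- part of `grp32W` -/
def grp32WPart4 : List (ℕ × ℕ) :=
  [(103, 2),
    (109, 3),
    (69, 6),
    (100, 2),
    (110, 4),
    (102, 2),
    (11, 5),
    (51, 5),
    (54, 4),
    (44, 4),
    (53, 6),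
    (37, 3),
    (40, 6),
    (56, 3),
    (11, 2),
    (44, 6),
    (11, 3),
    (44, 2),
    (98, 4),
    (46, 6),
    (49, 3),
    (96, 5),
    (37, 4),
    (37, 2),
    (40, 2),
    (40, 5),
    (45, 5),
    (84, 4),
    (117, 5),
    (48, 4),
    (38, 3),
    (97, 3),
    (95, 6),
    (35, 6),
    (82, 3),
    (70, 2),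
    (80, 5),
    (109, 2),
    (69, 2),
    (83, 4),
    (110, 2),
    (79, 6),
    (62, 3),
    (65, 6),
    (64, 5),
    (67, 4),
    (70, 4),
    (109, 6),
    (69, 3),
    (110, 5),
    (5, 5),
    (4, 4),
    (54, 6),
    (51, 3),
    (45, 3),
    (5, 2),
    (4, 2),
    (48, 6),
    (53, 4),
    (5, 6),
    (4, 3),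
    (56, 5),
    (6, 2),
    (55, 5),
    (52, 4),
    (33, 2),
    (49, 5),
    (46, 4),
    (52, 3),
    (55, 6),
    (87, 6),
    (42, 3),
    (53, 5),
    (56, 4),
    (87, 2),
    (97, 4),
    (95, 5),
    (42, 2),
    (87, 4),
    (51, 6),
    (54, 3),
    (42, 5),
    (8, 6),
    (68, 2),
    (71, 2),
    (9, 3),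
    (98, 3),
    (96, 6),
    (9, 5),
    (8, 4),
    (1, 2),
    (99, 3),
    (100, 4),
    (103, 5),
    (102, 6),
    (53, 3),
    (68, 4),
    (71, 5),
    (56, 6),
    (6, 3),
    (51, 4),
    (54, 5),
    (33, 6),
    (53, 2),
    (54, 2),
    (51, 2),
    (56, 2),
    (71, 6),
    (109, 5),
    (69, 4),
    (68, 3),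
    (70, 6),
    (6, 5),
    (33, 4),
    (110, 3),
    (3, 6),
    (3, 5),
    (3, 4),
    (3, 3),
    (3, 2)]

/-- unit and representative -/
def grp32W : List (ℕ × ℕ) :=
  grp32WPart0 ++ grp32WPart1 ++ grp32WPart2 ++ grp32WPart3 ++ grp32WPart4

/-- part of `grp16W` -/
def grp16WPart0 : List ℕ :=
  [3,
    65,
    64,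
    67,
    62,
    55,
    52,
    8,
    9,
    110,
    69,
    109,
    70,
    33,
    6,
    71,
    68,
    56,
    54,
    51,
    53,
    81,
    78,
    16,
    18,
    96,
    95,
    97,
    98,
    40,
    37,
    42,
    87,
    10,
    12,
    50,
    47,
    48,
    49,
    46,
    45,
    44,
    11,
    4,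
    5,
    7,
    79,
    80,
    83,
    82,
    104,
    107,
    105,
    106,
    60,
    19,
    59,
    20,
    116,
    108,
    119,
    115,
    36,
    38,
    35,
    39,
    117,
    85,
    118,
    84,
    102,
    103,
    100,
    99,
    1,
    14,
    13,
    23,
    25,
    26,
    27,
    30,
    29,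
    28,
    31,
    24,
    22,
    66,
    63,
    58,
    61,
    114,
    113,
    111,
    112,
    34,
    32,
    57,
    101,
    74,
    72,
    75,
    77,
    89,
    92,
    15,
    17,
    91,
    93,
    90,
    94,
    21,
    2,
    73,
    76,
    41,
    88,
    43,
    86,
    0]

/-- indices of the units -/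
def grp16W : List ℕ :=
  grp16WPart0

end Cfsg.Agent.Janko2
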