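import Cfsg.Agent.Janko2.Quad

/-!
Tables: the 120 units of the icosian ring in breadth-first order, with parents.
-/

set_option autoImplicit false

namespace Cfsg.Agent.Janko2

/-- the units -/
def units : List IQ :=
  [⟨4, 0, 0, 0, 0, 0, 0, 0⟩,
    ⟨0, 0, 4, 0, 0, 0, 0, 0⟩,
    ⟨2, 0, 1, -1, 0, 0, 1, 1⟩,
    ⟨-4, 0, 0, 0, 0, 0, 0, 0⟩,
    ⟨-1, 1, 2, 0, -1, -1, 0, 0⟩,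
    ⟨-1, 1, 2, 0, 1, 1, 0, 0⟩,
    ⟨-2, 0, 1, -1, 0, 0, 1, 1⟩,
    ⟨0, 0, -4, 0, 0, 0, 0, 0⟩,
    ⟨-2, 0, -1, 1, 0, 0, -1, -1⟩,
    ⟨-2, 0, -1, 1, 0, 0, 1, 1⟩,
    ⟨-1, 1, -2, 0, -1, -1, 0, 0⟩,
    ⟨-1, 1, 1, 1, 0, 0, 2, 0⟩,
    ⟨-1, 1, -2, 0, 1, 1, 0, 0⟩,
    ⟨1, -1, -2, 0, 1, 1, 0, 0⟩,
    ⟨1, -1, -2, 0, -1, -1, 0, 0⟩,
    ⟨2, 0, -1, 1, 0, 0, -1, -1⟩,
    ⟨-1, -1, -1, 1, -2, 0, 0, 0⟩,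
    ⟨2, 0, -1, 1, 0, 0, 1, 1⟩,
    ⟨-1, -1, -1, 1, 2, 0, 0, 0⟩,
    ⟨0, 0, -1, 1, -1, -1, 2, 0⟩,
    ⟨0, 0, -1, 1, 1, 1, 2, 0⟩,
    ⟨2, 0, 1, -1, 0, 0, -1, -1⟩,
    ⟨1, -1, 2, 0, 1, 1, 0, 0⟩,
    ⟨1, -1, -1, -1, 0, 0, -2, 0⟩,
    ⟨1, -1, 2, 0, -1, -1, 0, 0⟩,
    ⟨1, -1, -1, -1, 0, 0, 2, 0⟩,
    ⟨1, -1, 0, 0, -2, 0, -1, -1⟩,
    ⟨1, -1, 0, 0, -2, 0, 1, 1⟩,
    ⟨1, -1, 1, 1, 0, 0, -2, 0⟩,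
    ⟨1, -1, 0, 0, 2, 0, 1, 1⟩,
    ⟨1, -1, 0, 0, 2, 0, -1, -1⟩,
    ⟨1, -1, 1, 1, 0, 0, 2, 0⟩,
    ⟨1, 1, 1, -1, 2, 0, 0, 0⟩,
    ⟨-2, 0, 1, -1, 0, 0, -1, -1⟩,
    ⟨1, 1, 1, -1, -2, 0, 0, 0⟩,
    ⟨0, 0, 1, -1, 1, 1, -2, 0⟩,
    ⟨0, 0, 1, -1, -1, -1, -2, 0⟩,
    ⟨-1, -1, 1, -1, 2, 0, 0, 0⟩,
    ⟨0, 0, 1, -1, -1, -1, 2, 0⟩,
    ⟨0, 0, 1, -1, 1, 1, 2, 0⟩,
    ⟨-1, -1, 1, -1, -2, 0, 0, 0⟩,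
    ⟨2, 0, 2, 0, -2, 0, -2, 0⟩,
    ⟨-1, -1, 2, 0, 0, 0, -1, 1⟩,
    ⟨2, 0, 2, 0, 2, 0, -2, 0⟩,
    ⟨-1, 1, 1, 1, 0, 0, -2, 0⟩,
    ⟨-1, 1, 0, 0, 2, 0, 1, 1⟩,
    ⟨-1, 1, 0, 0, 2, 0, -1, -1⟩,
    ⟨-1, 1, -1, -1, 0, 0, 2, 0⟩,
    ⟨-1, 1, 0, 0, -2, 0, -1, -1⟩,
    ⟨-1, 1, 0, 0, -2, 0, 1, 1⟩,
    ⟨-1, 1, -1, -1, 0, 0, -2, 0⟩,
    ⟨-2, 0, 2, 0, 2, 0, -2, 0⟩,
    ⟨-2, 0, -1, -1, 1, -1, 0, 0⟩,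
    ⟨-2, 0, 2, 0, 2, 0, 2, 0⟩,
    ⟨-2, 0, 2, 0, -2, 0, 2, 0⟩,
    ⟨-2, 0, -1, -1, -1, 1, 0, 0⟩,
    ⟨-2, 0, 2, 0, -2, 0, -2, 0⟩,
    ⟨1, 1, 2, 0, 0, 0, -1, 1⟩,
    ⟨1, 1, -1, 1, -2, 0, 0, 0⟩,
    ⟨0, 0, -1, 1, 1, 1, -2, 0⟩,
    ⟨0, 0, -1, 1, -1, -1, -2, 0⟩,
    ⟨1, 1, -1, 1, 2, 0, 0, 0⟩,
    ⟨-2, 0, -2, 0, 2, 0, 2, 0⟩,
    ⟨1, 1, -2, 0, 0, 0, 1, -1⟩,
    ⟨-2, 0, -2, 0, -2, 0, 2, 0⟩,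
    ⟨-2, 0, -2, 0, -2, 0, -2, 0⟩,
    ⟨1, 1, -2, 0, 0, 0, -1, 1⟩,
    ⟨-2, 0, -2, 0, 2, 0, -2, 0⟩,
    ⟨-2, 0, 1, 1, 1, -1, 0, 0⟩,
    ⟨-2, 0, 0, 0, -1, -1, 1, -1⟩,
    ⟨-2, 0, 0, 0, 1, 1, 1, -1⟩,
    ⟨-2, 0, 1, 1, -1, 1, 0, 0⟩,
    ⟨2, 0, -2, 0, -2, 0, 2, 0⟩,
    ⟨2, 0, 1, 1, -1, 1, 0, 0⟩,
    ⟨2, 0, -2, 0, -2, 0, -2, 0⟩,
    ⟨2, 0, -2, 0, 2, 0, -2, 0⟩,
    ⟨2, 0, 1, 1, 1, -1, 0, 0⟩,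
    ⟨2, 0, -2, 0, 2, 0, 2, 0⟩,
    ⟨-1, -1, -2, 0, 0, 0, 1, -1⟩,
    ⟨0, 0, -2, 0, -1, 1, -1, -1⟩,
    ⟨0, 0, -2, 0, -1, 1, 1, 1⟩,
    ⟨-1, -1, -2, 0, 0, 0, -1, 1⟩,
    ⟨0, 0, -2, 0, 1, -1, 1, 1⟩,
    ⟨0, 0, -2, 0, 1, -1, -1, -1⟩,
    ⟨0, 0, 1, 1, 2, 0, 1, -1⟩,
    ⟨0, 0, 1, 1, -2, 0, 1, -1⟩,
    ⟨2, 0, 2, 0, 2, 0, 2, 0⟩,
    ⟨-1, -1, 2, 0, 0, 0, 1, -1⟩,
    ⟨2, 0, 2, 0, -2, 0, 2, 0⟩,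
    ⟨2, 0, -1, -1, -1, 1, 0, 0⟩,
    ⟨2, 0, 0, 0, 1, 1, -1, 1⟩,
    ⟨2, 0, 0, 0, -1, -1, -1, 1⟩,
    ⟨2, 0, -1, -1, 1, -1, 0, 0⟩,
    ⟨2, 0, 0, 0, -1, -1, 1, -1⟩,
    ⟨2, 0, 0, 0, 1, 1, 1, -1⟩,
    ⟨-1, -1, 0, 0, -1, 1, 2, 0⟩,
    ⟨-1, -1, 0, 0, -1, 1, -2, 0⟩,
    ⟨-1, -1, 0, 0, 1, -1, -2, 0⟩,
    ⟨-1, -1, 0, 0, 1, -1, 2, 0⟩,
    ⟨0, 0, 2, 0, 1, -1, 1, 1⟩,
    ⟨0, 0, 2, 0, 1, -1, -1, -1⟩,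
    ⟨1, 1, 2, 0, 0, 0, 1, -1⟩,
    ⟨0, 0, 2, 0, -1, 1, -1, -1⟩,
    ⟨0, 0, 2, 0, -1, 1, 1, 1⟩,
    ⟨0, 0, -1, -1, -2, 0, -1, 1⟩,
    ⟨0, 0, -1, -1, 2, 0, -1, 1⟩,
    ⟨0, 0, -1, -1, 2, 0, 1, -1⟩,
    ⟨0, 0, -1, -1, -2, 0, 1, -1⟩,
    ⟨0, 0, 0, 0, 0, 0, -4, 0⟩,
    ⟨-2, 0, 0, 0, 1, 1, -1, 1⟩,
    ⟨-2, 0, 0, 0, -1, -1, -1, 1⟩,
    ⟨1, 1, 0, 0, 1, -1, -2, 0⟩,
    ⟨1, 1, 0, 0, 1, -1, 2, 0⟩,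
    ⟨1, 1, 0, 0, -1, 1, 2, 0⟩,
    ⟨1, 1, 0, 0, -1, 1, -2, 0⟩,
    ⟨0, 0, 0, 0, 4, 0, 0, 0⟩,
    ⟨0, 0, 0, 0, -4, 0, 0, 0⟩,
    ⟨0, 0, 1, 1, -2, 0, -1, 1⟩,
    ⟨0, 0, 1, 1, 2, 0, -1, 1⟩,
    ⟨0, 0, 0, 0, 0, 0, 4, 0⟩]

/-- parent and generator of each unit after the first -/
def unitPar : List (ℕ × Bool) :=
  [(0, false), (0, true), (1, false), (1, true), (2, false), (2, true), (3, false), (3, true), (4, false), (4, true), (5, true), (6, false), (7, true), (8, false), (8, true), (9, true), (10, false), (11, false), (11, true), (12, true), (13, false), (13, true), (14, true), (15, false), (16, false), (16, true), (17, true), (18, true), (19, false), (20, false), (20, true), (21, true), (22, false), (23, false), (23, true), (24, true),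 (25, true), (26, false), (27, false), (27, true), (28, true), (29, true), (30, true), (32, false), (32, true), (33, true), (34, true), (35, false), (36, false), (36, true), (37, true), (38, true), (39, true), (41, false), (42, false), (42, true), (43, true), (44, true), (45, false), (46, false), (46, true), (47, true), (48, true), (49, true), (51, false), (52, false), (52, true), (53, true), (54, true), (55, true), (57, false), (58, true), (59, true), (60, true), (62, false), (63, false), (63, true), (64, true), (65, true), (66, true), (68, false), (69, false), (69, true), (70, true), (71, true), (72, false), (73, false), (73, true), (74, true), (75, true), (76, true), (78, false), (79, false), (79, true), (80, true), (81, true), (84,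 false), (85, false), (86, true), (87, true), (89, false), (90, false), (90, true), (91, true), (92, true), (95, false), (96, false), (97, true), (99, false), (99, true), (100, true), (101, true), (104, false), (105, false), (106, true), (108, false), (111, false), (112, false), (113, true)]

/-- the basis as sums of units -/
def basisUnits : List (List ℕ) :=
  [[101], [48, 101], [39], [8, 76], [70, 94], [39, 94, 48, 70, 13, 85], [63, 87], [2, 9, 42, 66]]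

end Cfsg.Agent.Janko2
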